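import Mathlib
import Groth.Prelude.Def_CAlg
import Groth.Agent.EGA4Alg4.Depth
import Groth.Agent.EGA4H10.ProjDim

open CategoryTheory Abelian IsLocalRing
open scoped TensorProduct

universe u

namespace Groth.Agent.CAlg1

open Groth.Agent.EGA4Alg4 Groth.Agent.EGA4H10

variable {R : Type u} [CommRing R] [IsLocalRing R] [IsNoetherianRing R]

noncomputable abbrev kk (R : Type u) [CommRing R] [IsLocalRing R] : ModuleCat.{u} R :=
  ModuleCat.of R (ResidueField R)

lemma smul_ext_eq_zero {X : ModuleCat.{u} R} {i : ℕ} (a : R) (ha : a ∈ maximalIdeal R)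
    (c : Ext (kk R) X i) : a • c = 0 := by
  have h : a • 𝟙 (kk R) = 0 := by
    ext y
    show a • y = 0
    obtain ⟨y, rfl⟩ := IsLocalRing.residue_surjective y
    rw [Algebra.smul_def]
    show IsLocalRing.residue R a * _ = 0
    rw [(IsLocalRing.residue_eq_zero_iff a).mpr ha, zero_mul]
  rw [← Ext.mk₀_id_comp c, ← Ext.smul_comp, ← Ext.mk₀_smul, h, Ext.mk₀_zero, Ext.zero_comp]

lemma comp_mk₀_eq_zero {K F : Type u} [AddCommGroup K] [Module R K] [AddCommGroup F] [Module R F]
    (g : K →ₗ[R] F) (hg : g ∈ maximalIdeal R • (⊤ : Submodule R (K →ₗ[R] F))) {i : ℕ}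
    (c : Ext (kk R) (ModuleCat.of R K) i) :
    c.comp (Ext.mk₀ (ModuleCat.ofHom g)) (add_zero i) = 0 := by
  refine Submodule.smul_induction_on hg (fun a ha h _ => ?_) (fun h₁ h₂ e₁ e₂ => ?_)
  · rw [show ModuleCat.ofHom (a • h) = a • ModuleCat.ofHom h from rfl, Ext.mk₀_smul, Ext.comp_smul]
    exact smul_ext_eq_zero a ha _
  · rw [show ModuleCat.ofHom (h₁ + h₂) = ModuleCat.ofHom h₁ + ModuleCat.ofHom h₂ from rfl,
      Ext.mk₀_add, Ext.comp_add, e₁, e₂, add_zero]

lemma mem_smul_hom {K F : Type u} [AddCommGroup K] [Module R K] [AddCommGroup F] [Module R F]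
    [Module.Free R K] [Module.Finite R K] (g : K →ₗ[R] F)
    (h : LinearMap.range g ≤ maximalIdeal R • (⊤ : Submodule R F)) :
    g ∈ maximalIdeal R • (⊤ : Submodule R (K →ₗ[R] F)) := by
  classical
  let b := Module.Free.chooseBasis R K
  have hg : g = ∑ i, (b.coord i).smulRight (g (b i)) := b.ext fun j => by
    rw [LinearMap.sum_apply, Finset.sum_eq_single j]
    · simp
    · intro i _ hij
      simp [Finsupp.single_eq_of_ne hij]
    · simp
  rw [hg]
  refine Submodule.sum_mem _ fun i _ => ?_
  refine Submodule.smul_induction_on (h (LinearMap.mem_range_self g (b i))) (fun a ha y _ => ?_)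
    (fun y z ey ez => ?_)
  · rw [show (b.coord i).smulRight (a • y) = a • (b.coord i).smulRight y from
      LinearMap.ext fun v => smul_comm _ a y]
    exact Submodule.smul_mem_smul ha trivial
  · rw [show (b.coord i).smulRight (y + z) = (b.coord i).smulRight y + (b.coord i).smulRight z from
      LinearMap.ext fun v => by simp]
    exact add_mem ey ez

lemma exists_minimal_presentation (M : Type u) [AddCommGroup M] [Module R M] [Module.Finite R M] :
    ∃ (n : ℕ) (f : (Fin n → R) →ₗ[R] M), Function.Surjective f ∧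
      LinearMap.ker f ≤ maximalIdeal R • (⊤ : Submodule R (Fin n → R)) := by
  classical
  obtain ⟨s, hcard, hspan⟩ :=
    Submodule.FG.exists_span_finset_card_eq_spanFinrank (Module.Finite.fg_top (R := R) (M := M))
  let e : Fin s.card ≃ s := s.equivFin.symm
  let f := Fintype.linearCombination R (fun i => (e i : M))
  have hsurj : Function.Surjective f := by
    rw [← LinearMap.range_eq_top, Fintype.range_linearCombination, ← hspan]
    congr 1
    ext y
    exact ⟨fun ⟨i, hi⟩ => hi ▸ (e i).2, fun hy => ⟨e.symm ⟨y, hy⟩, by simp⟩⟩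
  refine ⟨s.card, f, hsurj, fun a ha => ?_⟩
  have hmem : ∀ i, a i ∈ maximalIdeal R := by
    intro i
    by_contra hi
    have hu : IsUnit (a i) := not_not.mp hi
    have hsum : ∑ j, a j • (e j : M) = 0 := by
      have := ha
      rwa [LinearMap.mem_ker, Fintype.linearCombination_apply] at this
    have hei : (e i : M) ∈ Submodule.span R ((s.erase (e i).1 : Finset M) : Set M) := by
      have hne : a i • (e i : M) = -∑ j ∈ Finset.univ.erase i, a j • (e j : M) := by
        rw [eq_neg_iff_add_eq_zero, Finset.add_sum_erase _ (fun j => a j • (e j : M)) (Finset.mem_univ i), hsum]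
      refine (Submodule.smul_mem_iff_of_isUnit _ hu).mp ?_
      rw [hne]
      refine neg_mem (Submodule.sum_mem _ fun j hj => Submodule.smul_mem _ _ (Submodule.subset_span ?_))
      exact Finset.mem_coe.mpr (Finset.mem_erase.mpr
        ⟨fun h => (Finset.mem_erase.mp hj).1 (e.injective (Subtype.ext h)), (e j).2⟩)
    have hle : (⊤ : Submodule R M) ≤ Submodule.span R ((s.erase (e i).1 : Finset M) : Set M) := by
      rw [← hspan, Submodule.span_le]
      intro y hy
      by_cases hyi : y = (e i).1
      · exact hyi ▸ hei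
      · exact Submodule.subset_span (Finset.mem_coe.mpr (Finset.mem_erase.mpr ⟨hyi, hy⟩))
    have h1 := Submodule.spanFinrank_span_le_ncard_of_finite (R := R)
      (Finset.finite_toSet (s.erase (e i).1))
    rw [top_le_iff.mp hle, ← hcard, Set.ncard_coe_finset, Finset.card_erase_of_mem (e i).2] at h1
    have : 0 < s.card := Fin.pos i
    omega
  rw [pi_eq_sum_univ' a]
  exact Submodule.sum_mem _ fun i _ => Submodule.smul_mem_smul (hmem i) trivial

section DepthFree

variable {M : Type u} [AddCommGroup M] [Module R M] [Module.Finite R M]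

lemma depth_free (n : ℕ) [NeZero n] : LocCoh.depth R (Fin n → R) = LocCoh.depth R R := by
  refine ENat.eq_of_forall_natCast_le_iff fun m => ?_
  rw [natCast_le_depth_iff_ext, natCast_le_depth_iff_ext]
  refine forall_congr' fun i => imp_congr_right fun _ => ?_
  let P : Fin n → (ModuleCat.of R (Fin n → R) ⟶ ModuleCat.of R R) := fun j =>
    ModuleCat.ofHom (LinearMap.proj j)
  let S : Fin n → (ModuleCat.of R R ⟶ ModuleCat.of R (Fin n → R)) := fun j =>
    ModuleCat.ofHom (LinearMap.single R (fun _ : Fin n => R) j)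
  constructor
  · intro h
    refine subsingleton_of_forall_eq 0 fun c => ?_
    have : c = (c.comp (Ext.mk₀ (S 0)) (add_zero i)).comp (Ext.mk₀ (P 0)) (add_zero i) := by
      rw [Ext.comp_assoc_of_second_deg_zero, Ext.mk₀_comp_mk₀,
        show S 0 ≫ P 0 = 𝟙 _ from ModuleCat.hom_ext (LinearMap.ext fun r => by simp [S, P]),
        Ext.comp_mk₀_id]
    rw [this, h.elim (c.comp (Ext.mk₀ (S 0)) (add_zero i)) 0, Ext.zero_comp]
  · intro h
    refine subsingleton_of_forall_eq 0 fun c => ?_
    have hsum : 𝟙 (ModuleCat.of R (Fin n → R)) = ∑ j, P j ≫ S j := by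
      refine ModuleCat.hom_ext (LinearMap.ext fun v => ?_)
      rw [ModuleCat.hom_sum, LinearMap.sum_apply]
      simp only [ModuleCat.hom_id, LinearMap.id_coe, id_eq, ModuleCat.hom_comp, P, S,
        ModuleCat.hom_ofHom, LinearMap.comp_apply, LinearMap.proj_apply, LinearMap.coe_single]
      exact (Finset.univ_sum_single v).symm
    rw [← Ext.comp_mk₀_id c, hsum, Ext.mk₀_sum, Ext.comp_sum]
    refine Finset.sum_eq_zero fun j _ => ?_
    rw [← Ext.mk₀_comp_mk₀, ← Ext.comp_assoc_of_second_deg_zero,
      h.elim (c.comp (Ext.mk₀ (P j)) (add_zero i)) 0, Ext.zero_comp]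

lemma depth_congr {N : Type u} [AddCommGroup N] [Module R N] [Module.Finite R N] (e : M ≃ₗ[R] N) :
    LocCoh.depth R M = LocCoh.depth R N := by
  rcases subsingleton_or_nontrivial M with h | h
  · have := e.toEquiv.subsingleton_congr.mp h
    rw [depth_of_subsingleton, depth_of_subsingleton]
  · have := e.toEquiv.symm.nontrivial
    refine ENat.eq_of_forall_natCast_le_iff fun m => ?_
    rw [natCast_le_depth_iff, natCast_le_depth_iff]
    simp_rw [e.isWeaklyRegular_congr]

lemma depth_eq_of_free [Module.Free R M] [Nontrivial M] : LocCoh.depth R M = LocCoh.depth R R := by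
  let b := Module.Free.chooseBasis R M
  let e := b.equivFun.trans (LinearEquiv.funCongrLeft R R (Fintype.equivFin _).symm)
  have : NeZero (Fintype.card (Module.Free.ChooseBasisIndex R M)) :=
    have := b.index_nonempty; ⟨Fintype.card_ne_zero⟩
  rw [depth_congr e, depth_free]

end DepthFree

/-- depth drops by one along a short exact sequence killed on the residue field -/
lemma depth_add_one_of_exact {K F M : Type u} [AddCommGroup K] [Module R K] [Module.Finite R K]
    [Nontrivial K] [AddCommGroup F] [Module R F] [Module.Finite R F] [Nontrivial F]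
    [AddCommGroup M] [Module R M] [Module.Finite R M] [Nontrivial M]
    (g : K →ₗ[R] F) (f : F →ₗ[R] M) (hg : Function.Injective g) (hex : Function.Exact g f)
    (hf : Function.Surjective f) (hle : LocCoh.depth R K ≤ LocCoh.depth R F)
    (hzero : ∀ j : ℕ, (j : ℕ∞) ≤ LocCoh.depth R K → ∀ c : Ext (kk R) (ModuleCat.of R K) j,
      c.comp (Ext.mk₀ (ModuleCat.ofHom g)) (add_zero j) = 0) :
    LocCoh.depth R M + 1 = LocCoh.depth R K := by
  obtain ⟨n, hn⟩ := exists_depth_eq (A := R) (M := K)
  let S : ShortComplex (ModuleCat.{u} R) := ShortComplex.mk (ModuleCat.ofHom g) (ModuleCat.ofHom f)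
    (ModuleCat.hom_ext hex.linearMap_comp_eq_zero)
  have hS : S.ShortExact :=
    { exact := (ShortComplex.ShortExact.moduleCat_exact_iff_function_exact S).mpr hex
      mono_f := (ModuleCat.mono_iff_injective _).mpr hg
      epi_g := (ModuleCat.epi_iff_surjective _).mpr hf }
  have hK : ∀ m : ℕ, (m : ℕ∞) ≤ LocCoh.depth R K ↔ ∀ i < m, Subsingleton (Ext (kk R) S.X₁ i) :=
    natCast_le_depth_iff_ext
  have hF : ∀ i : ℕ, i < n → Subsingleton (Ext (kk R) S.X₂ i) :=
    (natCast_le_depth_iff_ext (M := F) n).mp (hn ▸ hle)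
  have hnK := (hK n).mp hn.ge
  have hn0 : n ≠ 0 := by
    rintro rfl
    have h1 : ¬ ((1 : ℕ) : ℕ∞) ≤ LocCoh.depth R K := by rw [hn]; simp
    rw [hK] at h1
    refine h1 fun i hi => ?_
    obtain rfl : i = 0 := by omega
    refine subsingleton_of_forall_eq 0 fun c => ?_
    obtain ⟨h, rfl⟩ := (Ext.mk₀_bijective _ _).2 c
    have := hzero 0 (by simp) (Ext.mk₀ h)
    rw [Ext.mk₀_comp_mk₀, Ext.mk₀_eq_zero_iff] at this
    have hmono : Mono S.f := hS.mono_f
    rw [Ext.mk₀_eq_zero_iff]
    exact Limits.zero_of_comp_mono S.f this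
  obtain ⟨p, rfl⟩ := Nat.exists_eq_succ_of_ne_zero hn0
  have hlow : (p : ℕ∞) ≤ LocCoh.depth R M := by
    rw [natCast_le_depth_iff_ext]
    intro i hi
    refine subsingleton_of_forall_eq 0 fun c => ?_
    obtain ⟨x, rfl⟩ := Ext.covariant_sequence_exact₃ (kk R) hS (n₀ := i) c (n₁ := i + 1) rfl
      ((hnK (i + 1) (by omega)).elim _ _)
    rw [(hF i (by omega)).elim x 0, Ext.zero_comp]
  have hup : ¬ ((p + 1 : ℕ) : ℕ∞) ≤ LocCoh.depth R M := by
    intro h
    rw [natCast_le_depth_iff_ext] at h
    have hbad : ((p + 2 : ℕ) : ℕ∞) ≤ LocCoh.depth R K := by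
      rw [hK]
      intro j hj
      by_cases hjn : j < p + 1
      · exact hnK j hjn
      · obtain rfl : j = p + 1 := by omega
        refine subsingleton_of_forall_eq 0 fun c => ?_
        obtain ⟨x, rfl⟩ := Ext.covariant_sequence_exact₁ (kk R) hS (n₁ := p + 1) c
          (hzero (p + 1) hn.ge c) (n₀ := p) rfl
        rw [(h p (by omega)).elim x 0, Ext.zero_comp]
    rw [hn] at hbad
    norm_cast at hbad
    omega
  obtain ⟨m, hm⟩ := exists_depth_eq (A := R) (M := M)
  rw [hm] at hlow hup ⊢
  norm_cast at hlow hup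
  rw [hn]
  norm_cast
  omega

theorem auslander_buchsbaum (e : ℕ) (M : Type u) [AddCommGroup M] [Module R M] [Module.Finite R M]
    [Nontrivial M] (hle : HasProjectiveDimensionLE (ModuleCat.of R M) e)
    (hmin : ∀ m, HasProjectiveDimensionLE (ModuleCat.of R M) m → e ≤ m) :
    LocCoh.depth R R = e + LocCoh.depth R M := by
  induction e generalizing M with
  | zero =>
    have : Module.Projective R M := (hasPD_zero_iff M).mp hle
    have : Module.FinitePresentation R M := Module.finitePresentation_of_finite R M
    have : Module.Free R M := Module.free_of_flat_of_isLocalRing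
    rw [depth_eq_of_free (M := M)]
    simp
  | succ e ih =>
    obtain ⟨n, f, hf, hker⟩ := exists_minimal_presentation (R := R) M
    let K := LinearMap.ker f
    have hinj : Function.Injective K.subtype := K.subtype_injective
    have hex : Function.Exact K.subtype f := LinearMap.exact_subtype_ker_map f
    have hiff := fun m => hasPD_succ_iff K.subtype f hinj hex hf m
    have hKle := (hiff e).mp hle
    have hKmin : ∀ m, HasProjectiveDimensionLE (ModuleCat.of R K) m → e ≤ m := fun m hm => by
      have := hmin (m + 1) ((hiff m).mpr hm)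
      omega
    have : Nontrivial K := by
      by_contra hK
      rw [not_nontrivial_iff_subsingleton] at hK
      have hbij : Function.Bijective f :=
        ⟨LinearMap.ker_eq_bot.mp (Submodule.subsingleton_iff_eq_bot.mp hK), hf⟩
      have : Module.Projective R M := .of_equiv (LinearEquiv.ofBijective f hbij)
      have := hmin 0 ((hasPD_zero_iff M).mpr this)
      omega
    have : Nontrivial (Fin n → R) := hinj.nontrivial
    have hKd := ih K hKle hKmin
    obtain ⟨k, hk⟩ := exists_depth_eq (A := R) (M := K)
    have hn : NeZero n := ⟨fun h => by subst h; exact not_subsingleton (Fin 0 → R) inferInstance⟩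
    have hFd : LocCoh.depth R (Fin n → R) = LocCoh.depth R R := depth_free n
    have h1 : LocCoh.depth R M + 1 = LocCoh.depth R K := by
      refine depth_add_one_of_exact K.subtype f hinj hex hf ?_ fun j hj c => ?_
      · rw [hFd, hKd]; exact le_add_self
      rcases Nat.eq_zero_or_pos e with rfl | he
      · have : Module.Projective R K := (hasPD_zero_iff K).mp hKle
        have : Module.FinitePresentation R K := Module.finitePresentation_of_finite R K
        have : Module.Free R K := Module.free_of_flat_of_isLocalRing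
        exact comp_mk₀_eq_zero K.subtype
          (mem_smul_hom K.subtype (by rw [Submodule.range_subtype]; exact hker)) c
      · have hjlt : (j : ℕ∞) < LocCoh.depth R (Fin n → R) := by
          rw [hFd, hKd]
          rw [hk] at hj ⊢
          norm_cast at hj ⊢
          omega
        have := (natCast_le_depth_iff_ext (M := Fin n → R) (j + 1)).mp
          (by push_cast; exact Order.add_one_le_of_lt hjlt) j (Nat.lt_succ_self j)
        exact this.elim _ _
    rw [hKd, ← h1]
    push_cast
    rw [add_comm (LocCoh.depth R M) 1, ← add_assoc]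

theorem auslander_buchsbaum_exists (M : Type u) [AddCommGroup M] [Module R M] [Module.Finite R M]
    [Nontrivial M] {e : ℕ} (h : HasProjectiveDimensionLE (ModuleCat.of R M) e) :
    ∃ e₀ ≤ e, HasProjectiveDimensionLE (ModuleCat.of R M) e₀ ∧
      LocCoh.depth R R = e₀ + LocCoh.depth R M := by
  classical
  have hex : ∃ m, HasProjectiveDimensionLE (ModuleCat.of R M) m := ⟨e, h⟩
  exact ⟨Nat.find hex, Nat.find_min' hex h, Nat.find_spec hex,
    auslander_buchsbaum _ M (Nat.find_spec hex) fun m hm => Nat.find_min' hex hm⟩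

end Groth.Agent.CAlg1
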