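import Mathlib

namespace Groth.Agent.CAlg1

universe u

open IsLocalRing RingTheory.Sequence

variable {R : Type u} [CommRing R] [IsLocalRing R] [IsNoetherianRing R]

lemma span_singleton_ne_top {x : R} (hx : x ∈ maximalIdeal R) :
    Ideal.span ({x} : Set R) ≠ ⊤ :=
  ne_top_of_le_ne_top (maximalIdeal.isMaximal R).ne_top ((Ideal.span_singleton_le_iff_mem _).mpr hx)

theorem isLocalRing_quotient_singleton {x : R} (hx : x ∈ maximalIdeal R) :
    IsLocalRing (R ⧸ Ideal.span ({x} : Set R)) :=
  haveI := Ideal.Quotient.nontrivial_iff.mpr (span_singleton_ne_top hx)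
  IsLocalRing.of_surjective' (Ideal.Quotient.mk _) Ideal.Quotient.mk_surjective

theorem comap_maximalIdeal_of_surjective {S : Type u} [CommRing S] [IsLocalRing S] (f : R →+* S)
    (hf : Function.Surjective f) : (maximalIdeal S).comap f = maximalIdeal R :=
  haveI := Ideal.comap_isMaximal_of_surjective f hf (K := maximalIdeal S)
  IsLocalRing.eq_maximalIdeal this

theorem maximalIdeal_quotient (I : Ideal R) [IsLocalRing (R ⧸ I)] :
    maximalIdeal (R ⧸ I) = (maximalIdeal R).map (Ideal.Quotient.mk I) := by
  rw [← comap_maximalIdeal_of_surjective (Ideal.Quotient.mk I) Ideal.Quotient.mk_surjective,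
    Ideal.map_comap_of_surjective _ Ideal.Quotient.mk_surjective]

theorem spanFinrank_quotient_succ_le {x : R} (hx : x ∈ maximalIdeal R)
    (hx2 : x ∉ maximalIdeal R ^ 2) [IsLocalRing (R ⧸ Ideal.span ({x} : Set R))] :
    (maximalIdeal (R ⧸ Ideal.span ({x} : Set R))).spanFinrank + 1 ≤
      (maximalIdeal R).spanFinrank := by
  classical
  obtain ⟨s, hcard, hspan⟩ :=
    Submodule.FG.exists_span_finset_card_eq_spanFinrank (maximalIdeal R).fg_of_isNoetherianRing
  obtain ⟨a, ha⟩ := Submodule.mem_span_finset'.mp (hspan.symm ▸ hx : x ∈ Submodule.span R (s : Set R))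
  have hunit : ∃ i, IsUnit (a i) := by
    by_contra h
    push Not at h
    refine hx2 (ha ▸ Ideal.sum_mem _ fun i _ => ?_)
    rw [smul_eq_mul, pow_two]
    exact Ideal.mul_mem_mul ((mem_maximalIdeal _).mpr (h i))
      (hspan ▸ Submodule.subset_span i.2)
  obtain ⟨i, hi⟩ := hunit
  let q := Ideal.Quotient.mk (Ideal.span ({x} : Set R))
  have hle : (maximalIdeal (R ⧸ Ideal.span ({x} : Set R))) ≤
      Ideal.span (q '' (((s.erase i.1 : Finset R)) : Set R)) := by
    rw [maximalIdeal_quotient, ← hspan]
    refine Ideal.map_le_of_le_comap ?_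
    rw [Submodule.span_le]
    intro y hy
    show q y ∈ Ideal.span (q '' ((s.erase i.1 : Finset R) : Set R))
    by_cases hyi : y = i
    · subst hyi
      have hqx : q x = 0 := Ideal.Quotient.eq_zero_iff_mem.mpr (Ideal.mem_span_singleton_self x)
      have hz : q (a i • (i : R)) = -∑ j ∈ Finset.univ.erase i, q (a j • (j : R)) := by
        rw [eq_neg_iff_add_eq_zero,
          Finset.add_sum_erase _ (fun j => q (a j • (j : R))) (Finset.mem_univ i), ← map_sum]
        exact (congrArg q ha).trans hqx
      have hmem : q (a i • (i : R)) ∈ Ideal.span (q '' ((s.erase i.1 : Finset R) : Set R)) := by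
        rw [hz]
        refine neg_mem (Ideal.sum_mem _ fun j hj => ?_)
        rw [smul_eq_mul, map_mul]
        refine Ideal.mul_mem_left _ _ (Ideal.subset_span ⟨j, ?_, rfl⟩)
        exact Finset.mem_coe.mpr (Finset.mem_erase.mpr
          ⟨fun h => (Finset.mem_erase.mp hj).1 (Subtype.ext h), j.2⟩)
      rw [smul_eq_mul, map_mul] at hmem
      exact (Ideal.unit_mul_mem_iff_mem _ (hi.map q)).mp hmem
    · exact Ideal.subset_span ⟨y, Finset.mem_coe.mpr (Finset.mem_erase.mpr ⟨hyi, hy⟩), rfl⟩
  have hge : Ideal.span (q '' (((s.erase i.1 : Finset R)) : Set R)) ≤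
      maximalIdeal (R ⧸ Ideal.span ({x} : Set R)) := by
    rw [maximalIdeal_quotient, ← Ideal.map_span]
    refine Ideal.map_mono ?_
    rw [Ideal.span_le]
    exact fun y hy => hspan ▸ Submodule.subset_span (Finset.mem_of_mem_erase hy)
  rw [le_antisymm hle hge]
  have h1 : (Ideal.span (q '' ((s.erase i.1 : Finset R) : Set R))).spanFinrank ≤
      (s.erase i.1).card :=
    (Submodule.spanFinrank_span_le_ncard_of_finite ((Finset.finite_toSet _).image _)).trans
      ((Set.ncard_image_le (Finset.finite_toSet _)).trans (Set.ncard_coe_finset _).le)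
  have h2 : (s.erase i.1).card + 1 = (maximalIdeal R).spanFinrank := by
    rw [Finset.card_erase_add_one i.2, hcard]
  omega

theorem spanFinrank_le_quotient_succ {x : R} (hx : x ∈ maximalIdeal R)
    [IsLocalRing (R ⧸ Ideal.span ({x} : Set R))] :
    (maximalIdeal R).spanFinrank ≤
      (maximalIdeal (R ⧸ Ideal.span ({x} : Set R))).spanFinrank + 1 := by
  classical
  let q := Ideal.Quotient.mk (Ideal.span ({x} : Set R))
  obtain ⟨s, hcard, hspan⟩ := Submodule.FG.exists_span_finset_card_eq_spanFinrank
    (maximalIdeal (R ⧸ Ideal.span ({x} : Set R))).fg_of_isNoetherianRing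
  choose g hg using Ideal.Quotient.mk_surjective (I := Ideal.span ({x} : Set R))
  let t : Finset R := insert x (s.image g)
  have hmap : Ideal.map q (Ideal.span (t : Set R)) = maximalIdeal _ := by
    refine le_antisymm ?_ ?_
    · rw [Ideal.map_span, Ideal.span_le]
      rintro _ ⟨y, hy, rfl⟩
      rcases Finset.mem_insert.mp (Finset.mem_coe.mp hy) with rfl | hy
      · rw [SetLike.mem_coe, Ideal.Quotient.eq_zero_iff_mem.mpr (Ideal.mem_span_singleton_self _)]
        exact zero_mem _
      · obtain ⟨z, hz, rfl⟩ := Finset.mem_image.mp hy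
        rw [SetLike.mem_coe, hg, ← hspan]
        exact Submodule.subset_span hz
    · rw [← hspan, Submodule.span_le]
      intro z hz
      rw [← hg z]
      exact Ideal.mem_map_of_mem q (Ideal.subset_span
        (Finset.mem_coe.mpr (Finset.mem_insert_of_mem (Finset.mem_image_of_mem g hz))))
  have heq : maximalIdeal R = Submodule.span R (t : Set R) := by
    have h := congrArg (Ideal.comap q) hmap
    rw [Ideal.comap_map_of_surjective' q Ideal.Quotient.mk_surjective,
      comap_maximalIdeal_of_surjective q Ideal.Quotient.mk_surjective,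
      Ideal.mk_ker, sup_eq_left.mpr] at h
    · exact h.symm
    · exact (Ideal.span_singleton_le_iff_mem _).mpr
        (Ideal.subset_span (Finset.mem_coe.mpr (Finset.mem_insert_self _ _)))
  rw [heq]
  exact (Submodule.spanFinrank_span_le_ncard_of_finite t.finite_toSet).trans <| by
    rw [Set.ncard_coe_finset, ← hcard]
    exact (Finset.card_insert_le _ _).trans (Nat.add_le_add_right Finset.card_image_le 1)

theorem spanFinrank_quotient_succ {x : R} (hx : x ∈ maximalIdeal R)
    (hx2 : x ∉ maximalIdeal R ^ 2) [IsLocalRing (R ⧸ Ideal.span ({x} : Set R))] :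
    (maximalIdeal (R ⧸ Ideal.span ({x} : Set R))).spanFinrank + 1 =
      (maximalIdeal R).spanFinrank :=
  le_antisymm (spanFinrank_quotient_succ_le hx hx2) (spanFinrank_le_quotient_succ hx)

/-- cutting a regular local ring by an element outside the square of the maximal ideal -/
theorem regular_quotient_singleton [IsRegularLocalRing R] {x : R} (hx : x ∈ maximalIdeal R)
    (hx2 : x ∉ maximalIdeal R ^ 2) :
    IsRegularLocalRing (R ⧸ Ideal.span ({x} : Set R)) ∧
      ringKrullDim (R ⧸ Ideal.span ({x} : Set R)) + 1 = ringKrullDim R := by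
  have := isLocalRing_quotient_singleton hx
  have h1 := spanFinrank_quotient_succ hx hx2
  have h2 := IsRegularLocalRing.spanFinrank_maximalIdeal (R := R)
  have hdim : ringKrullDim R ≤ ringKrullDim (R ⧸ Ideal.span ({x} : Set R)) + 1 := by
    refine (ringKrullDim_le_ringKrullDim_quotient_add_encard {x} ?_).trans (le_of_eq (by simp))
    rw [IsLocalRing.ringJacobson_eq_maximalIdeal]
    simpa using hx
  have hle := ringKrullDim_le_spanFinrank_maximalIdeal (R := R ⧸ Ideal.span ({x} : Set R))
  obtain ⟨e, he⟩ : ∃ e : ℕ, ringKrullDim (R ⧸ Ideal.span ({x} : Set R)) = e := by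
    obtain ⟨a, ha⟩ := WithBot.ne_bot_iff_exists.mp
      (ringKrullDim_ne_bot (R := R ⧸ Ideal.span ({x} : Set R)))
    rw [← ha] at hle
    have ha' : a ≠ ⊤ := by
      intro h; subst h
      exact absurd (WithBot.coe_le_coe.mp hle) (by simp)
    obtain ⟨e, rfl⟩ := ENat.ne_top_iff_exists.mp ha'
    exact ⟨e, ha.symm⟩
  rw [he] at hle hdim ⊢
  rw [← h2] at hdim ⊢
  norm_cast at hle hdim ⊢
  refine ⟨(isRegularLocalRing_iff _).mpr ?_, ?_⟩
  · rw [he]
    congr 1
    omega
  · omega

theorem exists_notMem_sq_notMem_minimal (h : ringKrullDim R ≠ 0) :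
    ∃ x ∈ maximalIdeal R, x ∉ maximalIdeal R ^ 2 ∧ ∀ p ∈ minimalPrimes R, x ∉ p := by
  classical
  by_contra hne
  push Not at hne
  have hfin := minimalPrimes.finite_of_isNoetherianRing R
  let s : Finset (Ideal R) := insert (maximalIdeal R ^ 2) hfin.toFinset
  have hsub : (maximalIdeal R : Set R) ⊆ ⋃ p ∈ (s : Set (Ideal R)), (p : Set R) := by
    intro x hx
    by_cases h2 : x ∈ maximalIdeal R ^ 2
    · exact Set.mem_biUnion (Finset.mem_coe.mpr (Finset.mem_insert_self _ _)) h2
    · obtain ⟨p, hp, hxp⟩ := hne x hx h2
      exact Set.mem_biUnion (Finset.mem_coe.mpr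
        (Finset.mem_insert_of_mem (hfin.mem_toFinset.mpr hp))) hxp
  obtain ⟨p, hp, hle⟩ :=
    (Ideal.subset_union_prime (f := id) (maximalIdeal R ^ 2) (maximalIdeal R ^ 2)
      (fun i hi h1 _ => by
        rcases Finset.mem_insert.mp hi with h' | h'
        · exact absurd h' h1
        · exact Ideal.minimalPrimes_isPrime (hfin.mem_toFinset.mp h'))).mp hsub
  apply h
  rcases Finset.mem_insert.mp hp with rfl | hp
  · have hbot : maximalIdeal R = ⊥ := by
      refine Submodule.eq_bot_of_le_smul_of_le_jacobson_bot _ _
        (maximalIdeal R).fg_of_isNoetherianRing ?_ (maximalIdeal_le_jacobson _)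
      rwa [smul_eq_mul, ← pow_two]
    have := ((IsLocalRing.isField_iff_maximalIdeal_eq).mpr hbot)
    exact ringKrullDim_eq_zero_of_isField this
  · have hp' := hfin.mem_toFinset.mp hp
    have hpm : p = maximalIdeal R :=
      le_antisymm (le_maximalIdeal (Ideal.minimalPrimes_isPrime hp').ne_top) hle
    rw [← maximalIdeal_height_eq_ringKrullDim]
    rw [hpm] at hp'
    exact_mod_cast Ideal.height_eq_zero_iff.mpr hp'

theorem isDomain_regular (R : Type u) [CommRing R] [IsRegularLocalRing R] : IsDomain R := by
  obtain ⟨n, hn⟩ : ∃ n, (maximalIdeal R).spanFinrank = n := ⟨_, rfl⟩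
  induction n using Nat.strong_induction_on generalizing R with
  | _ n ih =>
    by_cases h0 : ringKrullDim R = 0
    · have h : (maximalIdeal R).spanFinrank = 0 := by
        have := IsRegularLocalRing.spanFinrank_maximalIdeal (R := R)
        rw [h0] at this
        exact_mod_cast this
      have hbot := (Submodule.spanFinrank_eq_zero_iff_eq_bot
        (maximalIdeal R).fg_of_isNoetherianRing).mp h
      exact (IsLocalRing.isField_iff_maximalIdeal_eq.mpr hbot).isDomain
    · obtain ⟨x, hx, hx2, hxp⟩ := exists_notMem_sq_notMem_minimal h0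
      have := (regular_quotient_singleton hx hx2).1
      have hdom : IsDomain (R ⧸ Ideal.span ({x} : Set R)) :=
        ih _ (by have := spanFinrank_quotient_succ hx hx2; omega) _ rfl
      have hprime : (Ideal.span ({x} : Set R)).IsPrime :=
        (Ideal.Quotient.isDomain_iff_prime _).mp hdom
      obtain ⟨q, hq, hqle⟩ := Ideal.exists_minimalPrimes_le (I := ⊥) (bot_le : ⊥ ≤ Ideal.span ({x} : Set R))
      have hqp := Ideal.minimalPrimes_isPrime hq
      have hqeq : q ≤ maximalIdeal R • q := by
        intro y hy
        obtain ⟨a, rfl⟩ := Ideal.mem_span_singleton'.mp (hqle hy)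
        rcases hqp.mem_or_mem hy with ha | ha
        · rw [mul_comm]
          exact Submodule.smul_mem_smul hx ha
        · exact absurd ha (hxp q hq)
      have hqbot : q = ⊥ := Submodule.eq_bot_of_le_smul_of_le_jacobson_bot _ _
        q.fg_of_isNoetherianRing hqeq (maximalIdeal_le_jacobson _)
      have : (⊥ : Ideal R).IsPrime := hqbot ▸ hqp
      exact IsDomain.of_bot_isPrime R

theorem isRegular_of_isWeaklyRegular {rs : List R} (h : IsWeaklyRegular R rs)
    (hmem : ∀ r ∈ rs, r ∈ maximalIdeal R) : IsRegular R rs := by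
  refine ⟨h, fun htop => (maximalIdeal.isMaximal R).ne_top (top_le_iff.mp ?_)⟩
  refine htop.le.trans ?_
  simp only [smul_eq_mul, Ideal.mul_top]
  exact Ideal.span_le.mpr hmem

theorem isWeaklyRegular_params (R : Type u) [CommRing R] [IsRegularLocalRing R] (rs : List R)
    (hspan : Ideal.ofList rs = maximalIdeal R) (hlen : rs.length = (maximalIdeal R).spanFinrank) :
    IsWeaklyRegular R rs := by
  obtain ⟨n, hn⟩ : ∃ n, rs.length = n := ⟨_, rfl⟩
  induction n generalizing R with
  | zero =>
    rw [List.length_eq_zero_iff.mp hn]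
    exact IsWeaklyRegular.nil R R
  | succ n ih =>
    obtain ⟨x, l, rfl⟩ := List.exists_cons_of_length_eq_add_one hn
    have hx : x ∈ maximalIdeal R := hspan ▸ Ideal.subset_span (by simp)
    have hlmem : Ideal.ofList l ≤ maximalIdeal R := by
      rw [← hspan, Ideal.ofList_cons]; exact le_sup_right
    have hx2 : x ∉ maximalIdeal R ^ 2 := by
      intro h2
      have hle : maximalIdeal R ≤ Ideal.ofList l ⊔ maximalIdeal R • maximalIdeal R := by
        conv_lhs => rw [← hspan, Ideal.ofList_cons]
        refine sup_le ?_ le_sup_left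
        rw [Ideal.span_le, Set.singleton_subset_iff, smul_eq_mul, ← pow_two]
        exact Submodule.mem_sup_right h2
      have := Submodule.le_of_le_smul_of_le_jacobson_bot (maximalIdeal R).fg_of_isNoetherianRing
        (maximalIdeal_le_jacobson _) hle
      have heq : Ideal.ofList l = maximalIdeal R := le_antisymm hlmem this
      classical
      have hcard := Submodule.spanFinrank_span_le_ncard_of_finite (R := R)
        (s := {r | r ∈ l}) l.finite_toSet
      rw [show Submodule.span R {r | r ∈ l} = Ideal.ofList l from rfl, heq] at hcard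
      have : Set.ncard {r | r ∈ l} ≤ l.length := by
        rw [show {r | r ∈ l} = (l.toFinset : Set R) by ext; simp, Set.ncard_coe_finset]
        exact l.toFinset_card_le
      simp only [List.length_cons] at hlen
      omega
    have := (regular_quotient_singleton hx hx2).1
    have := isDomain_regular R
    have hx0 : x ≠ 0 := fun h => hx2 (h ▸ zero_mem _)
    refine IsWeaklyRegular.cons' (fun a b hab => mul_left_cancel₀ hx0 hab) ?_
    have h := ih (R ⧸ Ideal.span ({x} : Set R)) (l.map (Ideal.Quotient.mk _)) ?_ ?_
      (by rw [List.length_map]; simpa using hn)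
    · let e : QuotSMulTop x R ≃ₗ[R ⧸ Ideal.span ({x} : Set R)] R ⧸ Ideal.span ({x} : Set R) :=
        LinearEquiv.extendScalarsOfSurjective Ideal.Quotient.mk_surjective
          (Submodule.quotEquivOfEq _ _ (by
            simp [← Submodule.ideal_span_singleton_smul, Ideal.mul_top]))
      exact (e.isWeaklyRegular_congr _).mpr h
    · rw [maximalIdeal_quotient, ← hspan, Ideal.ofList_cons, Ideal.map_sup,
        Ideal.map_quotient_self, bot_sup_eq, Ideal.map_ofList]
    · have h1 := spanFinrank_quotient_succ hx hx2
      simp only [List.length_cons] at hlen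
      rw [List.length_map]
      omega

theorem isRegular_params [IsRegularLocalRing R] {d : ℕ} (hd : ringKrullDim R = d)
    (x : Fin d → R) (hx : Ideal.span (Set.range x) = maximalIdeal R) :
    IsRegular R (List.ofFn x) := by
  have hlist : Ideal.ofList (List.ofFn x) = maximalIdeal R := by
    rw [Ideal.ofList, ← hx]; congr 1; ext r; simp [List.mem_ofFn]
  refine isRegular_of_isWeaklyRegular (isWeaklyRegular_params R _ hlist ?_) fun r hr =>
    hlist ▸ Ideal.subset_span hr
  rw [List.length_ofFn]
  have := IsRegularLocalRing.spanFinrank_maximalIdeal (R := R)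
  rw [hd] at this
  exact_mod_cast this.symm

theorem regular_of_quotient_regular {x : R} (hx : x ∈ maximalIdeal R) (hreg : x ∈ nonZeroDivisors R)
    [IsRegularLocalRing (R ⧸ Ideal.span ({x} : Set R))] : IsRegularLocalRing R := by
  refine IsRegularLocalRing.of_spanFinrank_maximalIdeal_le R ?_
  rw [← ringKrullDim_quotient_span_singleton_succ_eq_ringKrullDim_of_mem_nonZeroDivisors hreg hx,
    ← IsRegularLocalRing.spanFinrank_maximalIdeal (R := R ⧸ Ideal.span ({x} : Set R))]
  exact_mod_cast spanFinrank_le_quotient_succ hx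

theorem ringKrullDim_quotient_succ_le_of_domain [IsDomain R] {I : Ideal R} (hI : I ≠ ⊥) :
    ringKrullDim (R ⧸ I) + 1 ≤ ringKrullDim R := by
  obtain ⟨y, hy, hy0⟩ := Submodule.exists_mem_ne_zero_of_ne_bot hI
  refine le_trans ?_ (ringKrullDim_quotient_succ_le_of_nonZeroDivisor
    (mem_nonZeroDivisors_of_ne_zero hy0))
  have h : Ideal.span {y} ≤ I := (Ideal.span_singleton_le_iff_mem _).mpr hy
  have := ringKrullDim_le_of_surjective (Ideal.Quotient.factor h)
    (Ideal.Quotient.factor_surjective h)
  gcongr

theorem exists_params_quotient (R : Type u) [CommRing R] [IsRegularLocalRing R] (d : ℕ)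
    (hd : (maximalIdeal R).spanFinrank = d) (I : Ideal R) [IsRegularLocalRing (R ⧸ I)] :
    ∃ (x : Fin d → R) (c : ℕ) (hc : c ≤ d), Ideal.span (Set.range x) = maximalIdeal R ∧
      I = Ideal.span (Set.range (fun i : Fin c => x (Fin.castLE hc i))) := by
  induction d generalizing R with
  | zero =>
    have hbot := (Submodule.spanFinrank_eq_zero_iff_eq_bot
      (maximalIdeal R).fg_of_isNoetherianRing).mp hd
    have hI : I = ⊥ := le_bot_iff.mp (hbot ▸ le_maximalIdeal (fun h => by
      subst h
      exact not_subsingleton (R ⧸ (⊤ : Ideal R)) (Ideal.Quotient.subsingleton_iff.mpr rfl)))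
    exact ⟨Fin.elim0, 0, le_rfl, by simp [hbot], by simp [hI]⟩
  | succ d ih =>
    by_cases hI : I = ⊥
    · obtain ⟨s, hcard, hspan⟩ := Submodule.FG.exists_span_finset_card_eq_spanFinrank
        (maximalIdeal R).fg_of_isNoetherianRing
      let e : Fin (d + 1) ≃ s := (Fintype.equivFinOfCardEq (by rw [Fintype.card_coe, hcard, hd])).symm
      refine ⟨fun i => (e i : R), 0, Nat.zero_le _, ?_, by simp [hI]⟩
      rw [← hspan, show (fun i => (e i : R)) = Subtype.val ∘ e from rfl, e.surjective.range_comp]
      simp
    · have hIm : I ≤ maximalIdeal R := le_maximalIdeal (fun h => by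
        subst h
        exact not_subsingleton (R ⧸ (⊤ : Ideal R)) (Ideal.Quotient.subsingleton_iff.mpr rfl))
      have hex : ∃ x ∈ I, x ∉ maximalIdeal R ^ 2 := by
        by_contra hne
        push Not at hne
        have h1 : (maximalIdeal R).spanFinrank ≤ (maximalIdeal (R ⧸ I)).spanFinrank := by
          classical
          obtain ⟨s, hcard, hspan⟩ := Submodule.FG.exists_span_finset_card_eq_spanFinrank
            (maximalIdeal (R ⧸ I)).fg_of_isNoetherianRing
          choose g hg using Ideal.Quotient.mk_surjective (I := I)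
          have hle : maximalIdeal R ≤
              Submodule.span R ((s.image g : Finset R) : Set R) ⊔ maximalIdeal R • maximalIdeal R := by
            intro y hy
            have hy' : Ideal.Quotient.mk I y ∈
                Ideal.map (Ideal.Quotient.mk I) (Ideal.span ((s.image g : Finset R) : Set R)) := by
              rw [Ideal.map_span, Finset.coe_image, ← Set.image_comp,
                show (Ideal.Quotient.mk I ∘ g) = id from funext hg, Set.image_id]
              show _ ∈ Submodule.span _ _
              rw [hspan, maximalIdeal_quotient]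
              exact Ideal.mem_map_of_mem _ hy
            rw [Ideal.mem_quotient_iff_mem_sup] at hy'
            refine SetLike.le_def.mp (sup_le_sup le_rfl ?_) hy'
            intro z hz
            rw [smul_eq_mul, ← pow_two]
            exact hne z hz
          have hmem : Submodule.span R ((s.image g : Finset R) : Set R) ≤ maximalIdeal R := by
            rw [Submodule.span_le]
            intro y hy
            obtain ⟨z, hz, rfl⟩ := Finset.mem_image.mp hy
            rw [SetLike.mem_coe, ← comap_maximalIdeal_of_surjective (Ideal.Quotient.mk I)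
              Ideal.Quotient.mk_surjective, Ideal.mem_comap, hg, ← hspan]
            exact Submodule.subset_span hz
          have heq := le_antisymm (Submodule.le_of_le_smul_of_le_jacobson_bot
            (maximalIdeal R).fg_of_isNoetherianRing (maximalIdeal_le_jacobson _) hle) hmem
          rw [heq, ← hcard]
          exact (Submodule.spanFinrank_span_le_ncard_of_finite (Finset.finite_toSet _)).trans
            ((Set.ncard_coe_finset _).le.trans Finset.card_image_le)
        have := isDomain_regular R
        have h2 := ringKrullDim_quotient_succ_le_of_domain hI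
        rw [← IsRegularLocalRing.spanFinrank_maximalIdeal (R := R),
          ← IsRegularLocalRing.spanFinrank_maximalIdeal (R := R ⧸ I)] at h2
        norm_cast at h2
        omega
      obtain ⟨x, hxI, hx2⟩ := hex
      have hx := hIm hxI
      have := (regular_quotient_singleton hx hx2).1
      have hle : Ideal.span {x} ≤ I := (Ideal.span_singleton_le_iff_mem _).mpr hxI
      let q := Ideal.Quotient.mk (Ideal.span ({x} : Set R))
      let e : (R ⧸ I) ≃+* (R ⧸ Ideal.span ({x} : Set R)) ⧸ I.map q :=
        (DoubleQuot.quotQuotEquivQuotOfLE hle).symm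
      have : IsRegularLocalRing ((R ⧸ Ideal.span ({x} : Set R)) ⧸ I.map q) :=
        IsRegularLocalRing.of_ringEquiv e
      obtain ⟨x', c, hc, hx', hI'⟩ := ih (R ⧸ Ideal.span ({x} : Set R))
        (by have := spanFinrank_quotient_succ hx hx2; omega) (I.map q)
      choose g hg using Ideal.Quotient.mk_surjective (I := Ideal.span ({x} : Set R))
      have key : ∀ {n : ℕ} (y : Fin n → R ⧸ Ideal.span ({x} : Set R)) (J : Ideal R), x ∈ J →
          Ideal.span (Set.range y) = J.map q →
          J = Ideal.span (Set.range (Fin.cons x (g ∘ y) : Fin (n + 1) → R)) := by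
        intro n y J hxJ hy
        have hx_mem : Ideal.span {x} ≤ Ideal.span (Set.range (Fin.cons x (g ∘ y) : Fin (n + 1) → R)) :=
          Ideal.span_mono (Set.singleton_subset_iff.mpr ⟨0, rfl⟩)
        have hmap : J.map q = (Ideal.span (Set.range (Fin.cons x (g ∘ y) : Fin (n + 1) → R))).map q := by
          rw [← hy, Ideal.map_span, Fin.range_cons, Set.image_insert_eq, ← Set.range_comp,
            Ideal.span_insert, Ideal.Quotient.eq_zero_iff_mem.mpr (Ideal.mem_span_singleton_self x),
            Ideal.span_singleton_eq_bot.mpr rfl, bot_sup_eq,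
            show q ∘ g ∘ y = y from funext fun i => hg (y i)]
        have := congrArg (Ideal.comap q) hmap
        rwa [Ideal.comap_map_of_surjective' q Ideal.Quotient.mk_surjective,
          Ideal.comap_map_of_surjective' q Ideal.Quotient.mk_surjective, Ideal.mk_ker,
          sup_eq_left.mpr hx_mem, sup_eq_left.mpr ((Ideal.span_singleton_le_iff_mem _).mpr hxJ)]
          at this
      refine ⟨Fin.cons x (g ∘ x'), c + 1, Nat.add_le_add_right hc 1,
        (key x' _ hx (hx'.trans (maximalIdeal_quotient _))).symm, ?_⟩
      rw [key (fun i : Fin c => x' (Fin.castLE hc i)) I hxI hI'.symm]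
      congr 2
      funext i
      refine Fin.cases ?_ (fun j => ?_) i
      · simp
      · simp [Fin.castLE_succ]

section Flat

variable {S : Type u} [CommRing S] [IsLocalRing S] [IsNoetherianRing S] [Algebra R S]
  [IsLocalHom (algebraMap R S)] [Module.Flat R S]

theorem ringKrullDim_eq_of_flat (h : (maximalIdeal R).map (algebraMap R S) = maximalIdeal S) :
    ringKrullDim S = ringKrullDim R := by
  have : (maximalIdeal S).LiesOver (maximalIdeal R) :=
    ⟨(IsLocalRing.maximalIdeal_comap (algebraMap R S)).symm⟩
  rw [← maximalIdeal_height_eq_ringKrullDim, ← maximalIdeal_height_eq_ringKrullDim,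
    Ideal.height_eq_height_add_of_liesOver_of_hasGoingDown (maximalIdeal R) (maximalIdeal S), h,
    Ideal.map_quotient_self, Ideal.height_bot, add_zero]

end Flat

theorem ringKrullDim_adicCompletion (A : Type u) [CommRing A] [IsLocalRing A] [IsNoetherianRing A]
    [IsNoetherianRing (AdicCompletion (maximalIdeal A) A)] :
    ringKrullDim (AdicCompletion (maximalIdeal A) A) = ringKrullDim A :=
  ringKrullDim_eq_of_flat AdicCompletion.maximalIdeal_eq_map.symm

end Groth.Agent.CAlg1
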