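import Mathlib
import Groth.Prelude.Def_CAlg
import Groth.Agent.CAlg1.AB
import Groth.Agent.CAlg1.Regular
import Groth.Agent.EGA4Alg4.HomDim

set_option synthInstance.maxHeartbeats 400000

open CategoryTheory Abelian IsLocalRing
open scoped TensorProduct

universe u

namespace Groth.Agent.CAlg1

open Groth.Agent.EGA4Alg4 Groth.Agent.EGA4H10

section Change

variable {R : Type u} [CommRing R]

lemma baseChange_injective_of_regular {x : R} {K F M : Type u} [AddCommGroup K] [Module R K]
    [AddCommGroup F] [Module R F] [AddCommGroup M] [Module R M] (g : K →ₗ[R] F) (f : F →ₗ[R] M)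
    (hg : Function.Injective g) (hex : Function.Exact g f) (hx : IsSMulRegular M x) :
    Function.Injective (g.baseChange (R ⧸ Ideal.span ({x} : Set R))) := by
  rw [injective_iff_map_eq_zero]
  intro t ht
  obtain ⟨a, rfl⟩ : ∃ a : K, (1 : R ⧸ Ideal.span ({x} : Set R)) ⊗ₜ[R] a = t :=
    TensorProduct.mk_surjective R K _ Ideal.Quotient.mk_surjective t
  have h := congrArg (TensorProduct.quotTensorEquivQuotSMul F (Ideal.span ({x} : Set R))) ht
  rw [LinearMap.baseChange_tmul, ← map_one (Ideal.Quotient.mk _),
    TensorProduct.quotTensorEquivQuotSMul_mk_tmul, one_smul, map_zero,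
    Submodule.Quotient.mk_eq_zero, Submodule.ideal_span_singleton_smul,
    Submodule.mem_smul_pointwise_iff_exists] at h
  obtain ⟨b, -, hb⟩ := h
  have hfb : f b = 0 := hx (by simp only [smul_zero, ← map_smul, hb, hex.apply_apply_eq_zero])
  obtain ⟨c, rfl⟩ := (hex b).mp hfb
  rw [← map_smul] at hb
  rw [← hg hb, TensorProduct.tmul_smul, TensorProduct.smul_tmul', Algebra.smul_def, mul_one,
    Ideal.Quotient.algebraMap_eq, Ideal.Quotient.eq_zero_iff_mem.mpr (Ideal.mem_span_singleton_self x),
    TensorProduct.zero_tmul]

lemma hasPD_quotient_step {x : R} {K P M : Type u} [AddCommGroup K] [Module R K] [AddCommGroup P]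
    [Module R P] [Module.Projective R P] [AddCommGroup M] [Module R M] (g : K →ₗ[R] P)
    (f : P →ₗ[R] M) (hg : Function.Injective g) (hex : Function.Exact g f)
    (hf : Function.Surjective f) (hx : IsSMulRegular M x) (e : ℕ)
    (h : HasProjectiveDimensionLE
      (ModuleCat.of (R ⧸ Ideal.span ({x} : Set R)) ((R ⧸ Ideal.span ({x} : Set R)) ⊗[R] K)) e) :
    HasProjectiveDimensionLE
      (ModuleCat.of (R ⧸ Ideal.span ({x} : Set R)) ((R ⧸ Ideal.span ({x} : Set R)) ⊗[R] M)) (e + 1) :=
  (hasPD_succ_iff (R := R ⧸ Ideal.span ({x} : Set R)) (g.baseChange _) (f.baseChange _)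
    (baseChange_injective_of_regular g f hg hex hx)
    (lTensor_exact (R ⧸ Ideal.span ({x} : Set R)) hex hf)
    (LinearMap.lTensor_surjective _ hf) e).mpr h

theorem hasPD_quotient {x : R} (hxR : IsSMulRegular R x) (M : Type u) [AddCommGroup M] [Module R M]
    (hx : IsSMulRegular M x) (e : ℕ) (h : HasProjectiveDimensionLE (ModuleCat.of R M) e) :
    HasProjectiveDimensionLE
      (ModuleCat.of (R ⧸ Ideal.span ({x} : Set R)) ((R ⧸ Ideal.span ({x} : Set R)) ⊗[R] M)) e := by
  induction e generalizing M with
  | zero =>
    rw [hasPD_zero_iff] at h ⊢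
    infer_instance
  | succ e ih =>
    let f := Finsupp.linearCombination R (id : M → M)
    have hf : Function.Surjective f := Finsupp.linearCombination_id_surjective R M
    let K : Submodule R (M →₀ R) := LinearMap.ker f
    have hinj : Function.Injective K.subtype := Submodule.subtype_injective K
    have hex : Function.Exact K.subtype f := LinearMap.exact_subtype_ker_map f
    have hK := (hasPD_succ_iff (R := R) (K := K) (P := M →₀ R) (M := M) (Submodule.subtype K) f hinj
      hex hf e).mp h
    have hxK : IsSMulRegular K x := fun a b hab => Subtype.ext (by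
      refine Finsupp.ext fun i => hxR ?_
      have := congrArg (fun v : K => (v : M →₀ R) i) hab
      simpa using this)
    exact hasPD_quotient_step (R := R) (K := K) (P := M →₀ R) (M := M) K.subtype f hinj hex hf hx e
      (ih K hxK hK)

end Change

variable {R : Type u} [CommRing R] [IsLocalRing R] [IsNoetherianRing R]

lemma depth_residueField : LocCoh.depth R (ResidueField R) = 0 := by
  rw [depth_eq_zero_iff, maximalIdeal_mem_assoc_iff]
  intro a ha hreg
  refine one_ne_zero (α := ResidueField R) (hreg (?_ : a • (1 : ResidueField R) = a • 0))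
  rw [smul_zero, Algebra.smul_def, mul_one]
  exact (IsLocalRing.residue_eq_zero_iff a).mpr ha

theorem exists_regular_notMem_sq (h : LocCoh.depth R R ≠ 0) :
    ∃ x ∈ maximalIdeal R, x ∉ maximalIdeal R ^ 2 ∧ IsSMulRegular R x := by
  classical
  have hass : maximalIdeal R ∉ associatedPrimes R R := fun h' => h (depth_eq_zero_iff.mpr h')
  by_contra hne
  push Not at hne
  have hfin := associatedPrimes.finite R R
  let s : Finset (Ideal R) := insert (maximalIdeal R ^ 2) hfin.toFinset
  have hsub : (maximalIdeal R : Set R) ⊆ ⋃ p ∈ (s : Set (Ideal R)), (p : Set R) := by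
    intro x hx
    by_cases h2 : x ∈ maximalIdeal R ^ 2
    · exact Set.mem_biUnion (Finset.mem_coe.mpr (Finset.mem_insert_self _ _)) h2
    · have hx0 : x ∈ {r : R | ¬ IsSMulRegular R r} := hne x hx h2
      have hmem : x ∈ ⋃ p ∈ associatedPrimes R R, (p : Set R) := by
        rw [biUnion_associatedPrimes_eq_compl_regular]; exact hx0
      obtain ⟨p, hp, hxp⟩ := Set.mem_iUnion₂.mp hmem
      exact Set.mem_biUnion (Finset.mem_coe.mpr
        (Finset.mem_insert_of_mem (hfin.mem_toFinset.mpr hp))) hxp
  obtain ⟨p, hp, hle⟩ :=
    (Ideal.subset_union_prime (f := id) (maximalIdeal R ^ 2) (maximalIdeal R ^ 2)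
      (fun i hi h1 _ => by
        rcases Finset.mem_insert.mp hi with h' | h'
        · exact absurd h' h1
        · exact (hfin.mem_toFinset.mp h').isPrime)).mp hsub
  rcases Finset.mem_insert.mp hp with rfl | hp
  · have hbot : maximalIdeal R = ⊥ := by
      refine Submodule.eq_bot_of_le_smul_of_le_jacobson_bot _ _
        (maximalIdeal R).fg_of_isNoetherianRing ?_ (maximalIdeal_le_jacobson _)
      rwa [smul_eq_mul, ← pow_two]
    apply hass
    rw [maximalIdeal_mem_assoc_iff]
    intro x hx hreg
    rw [hbot, Ideal.mem_bot] at hx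
    subst hx
    exact (IsSMulRegular.zero_iff_subsingleton.mp hreg).elim 0 1 |> zero_ne_one
  · have hp' := hfin.mem_toFinset.mp hp
    exact hass (le_antisymm (le_maximalIdeal hp'.isPrime.ne_top) hle ▸ hp')

/-- Serre: finite projective dimension of the residue field forces regularity. -/
theorem spanFinrank_le_of_residueField_hasPD (R : Type u) [CommRing R] [IsLocalRing R] [IsNoetherianRing R]
    {e : ℕ} (h : HasProjectiveDimensionLE (ModuleCat.of R (ResidueField R)) e) :
    ((maximalIdeal R).spanFinrank : WithBot ℕ∞) ≤ ringKrullDim R := by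
  obtain ⟨d, hd⟩ : ∃ d, (maximalIdeal R).spanFinrank = d := ⟨_, rfl⟩
  induction d using Nat.strong_induction_on generalizing R e with
  | _ d ihd =>
    obtain ⟨e₀, -, he₀, hab⟩ := auslander_buchsbaum_exists (R := R) (ResidueField R) h
    rw [depth_residueField, add_zero] at hab
    by_cases h0 : LocCoh.depth R R = 0
    · have : e₀ = 0 := by rw [h0] at hab; exact_mod_cast hab.symm
      subst this
      have : Module.Projective R (ResidueField R) := (hasPD_zero_iff _).mp he₀
      have : Module.FinitePresentation R (ResidueField R) :=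
        Module.finitePresentation_of_finite R _
      have : Module.Free R (ResidueField R) := Module.free_of_flat_of_isLocalRing
      have hbot : maximalIdeal R = ⊥ := by
        let b := Module.Free.chooseBasis R (ResidueField R)
        have h1 : b.repr 1 ≠ 0 := fun h => one_ne_zero (b.repr.map_eq_zero_iff.mp h)
        obtain ⟨i, -⟩ := Finsupp.ne_iff.mp h1
        rw [eq_bot_iff]
        intro a ha
        have : a • b i = 0 := by
          rw [Algebra.smul_def,
            show algebraMap R (ResidueField R) a = IsLocalRing.residue R a from rfl,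
            (IsLocalRing.residue_eq_zero_iff a).mpr ha, zero_mul]
        simpa using congrArg (b.repr · i) this
      rw [hbot, Submodule.spanFinrank_bot]
      simp [ringKrullDim_eq_zero_of_isField (IsLocalRing.isField_iff_maximalIdeal_eq.mpr hbot)]
    obtain ⟨x, hxm, hx2, hreg⟩ := exists_regular_notMem_sq h0
    let R' := R ⧸ Ideal.span ({x} : Set R)
    have := isLocalRing_quotient_singleton hxm
    -- the maximal ideal has finite projective dimension
    have hm : ∃ e', HasProjectiveDimensionLE (ModuleCat.of R (maximalIdeal R)) e' := by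
      refine ⟨e, (hasPD_succ_iff (maximalIdeal R).subtype (Algebra.linearMap R (ResidueField R))
        (Submodule.subtype_injective _) ?_ IsLocalRing.residue_surjective e).mp ?_⟩
      · intro a
        constructor
        · intro ha
          exact ⟨⟨a, (IsLocalRing.residue_eq_zero_iff a).mp ha⟩, rfl⟩
        · rintro ⟨b, rfl⟩
          exact (IsLocalRing.residue_eq_zero_iff _).mpr b.2
      · exact hasProjectiveDimensionLT_of_ge _ (e + 1) (e + 1 + 1) (Nat.le_succ _)
    obtain ⟨e', he'⟩ := hm
    have hxm' : IsSMulRegular (maximalIdeal R) x := fun a b hab =>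
      Subtype.ext (hreg (congrArg Subtype.val hab))
    have hpd := hasPD_quotient hreg (maximalIdeal R) hxm' e' he'
    -- the residue field is a retract of `R' ⊗ m`
    obtain ⟨φ, hφ⟩ : ∃ φ : Module.Dual (ResidueField R) (CotangentSpace R),
        φ ((maximalIdeal R).toCotangent ⟨x, hxm⟩) = 1 :=
      Module.Projective.exists_dual_eq_one _
        (fun hz => hx2 ((Ideal.toCotangent_eq_zero _ _).mp hz))
    let q : R →+* R' := Ideal.Quotient.mk _
    have hqk : Ideal.span ({x} : Set R) ≤ maximalIdeal R :=
      (Ideal.span_singleton_le_iff_mem _).mpr hxm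
    let ψ : R' →ₗ[R] ResidueField R := (Ideal.Quotient.factorₐ R hqk).toLinearMap
    have hmax : maximalIdeal R' = (maximalIdeal R).map q := maximalIdeal_quotient _
    let k' := R' ⧸ maximalIdeal R'
    let t : R →ₗ[R] k' := (Algebra.linearMap R k')
    have hker : maximalIdeal R ≤ LinearMap.ker t := fun a ha => by
      show Ideal.Quotient.mk (maximalIdeal R') (q a) = 0
      exact Ideal.Quotient.eq_zero_iff_mem.mpr (hmax ▸ Ideal.mem_map_of_mem q ha)
    let τ : ResidueField R →ₗ[R] k' := Submodule.liftQ _ t hker
    let π : maximalIdeal R →ₗ[R] k' :=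
      τ ∘ₗ (φ.restrictScalars R) ∘ₗ (maximalIdeal R).toCotangent
    let p : R' ⊗[R] maximalIdeal R →ₗ[R'] k' := π.liftBaseChange R'
    let v : R' ⊗[R] maximalIdeal R := 1 ⊗ₜ ⟨x, hxm⟩
    have hv : maximalIdeal R' ≤ LinearMap.ker (LinearMap.toSpanSingleton R' _ v) := by
      intro a ha
      rw [hmax, Ideal.mem_map_iff_of_surjective q Ideal.Quotient.mk_surjective] at ha
      obtain ⟨a, ha, rfl⟩ := ha
      rw [LinearMap.mem_ker, LinearMap.toSpanSingleton_apply]
      show algebraMap R R' a • v = 0
      rw [algebraMap_smul]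
      show a • ((1 : R') ⊗ₜ[R] (⟨x, hxm⟩ : maximalIdeal R)) = 0
      rw [← TensorProduct.tmul_smul,
        show a • (⟨x, hxm⟩ : maximalIdeal R) = x • ⟨a, ha⟩ from Subtype.ext (mul_comm a x),
        ← TensorProduct.smul_tmul, Algebra.smul_def, mul_one]
      show Ideal.Quotient.mk _ x ⊗ₜ[R] _ = 0
      rw [Ideal.Quotient.eq_zero_iff_mem.mpr (Ideal.mem_span_singleton_self x), TensorProduct.zero_tmul]
    let i : k' →ₗ[R'] R' ⊗[R] maximalIdeal R := Submodule.liftQ _ (LinearMap.toSpanSingleton R' _ v) hv
    have hpi : p ∘ₗ i = LinearMap.id := by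
      refine Submodule.linearMap_qext _ (LinearMap.ext_ring ?_)
      show p ((1 : R') • v) = _
      rw [one_smul]
      show (1 : R') • π ⟨x, hxm⟩ = _
      rw [one_smul]
      show τ (φ _) = _
      rw [hφ]
      rfl
    let r : Retract (ModuleCat.of R' k') (ModuleCat.of R' (R' ⊗[R] maximalIdeal R)) :=
      { i := ModuleCat.ofHom i, r := ModuleCat.ofHom p, retract := ModuleCat.hom_ext hpi }
    have hpd' : HasProjectiveDimensionLE (ModuleCat.of R' (ResidueField R')) e' :=
      haveI : HasProjectiveDimensionLT (ModuleCat.of R' (R' ⊗[R] maximalIdeal R)) (e' + 1) := hpd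
      r.hasProjectiveDimensionLT (e' + 1)
    have hlt : (maximalIdeal R').spanFinrank + 1 = (maximalIdeal R).spanFinrank :=
      spanFinrank_quotient_succ hxm hx2
    have : IsRegularLocalRing R' :=
      IsRegularLocalRing.of_spanFinrank_maximalIdeal_le R' (ihd _ (by omega) R' hpd' rfl)
    have hR : IsRegularLocalRing R := regular_of_quotient_regular hxm (by
      rw [mem_nonZeroDivisors_iff_right]
      exact fun z hz => hreg (by simpa [mul_comm] using hz))
    exact (IsRegularLocalRing.spanFinrank_maximalIdeal (R := R)).le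

theorem regular_of_residueField_hasPD (R : Type u) [CommRing R] [IsLocalRing R] [IsNoetherianRing R]
    {e : ℕ} (h : HasProjectiveDimensionLE (ModuleCat.of R (ResidueField R)) e) :
    IsRegularLocalRing R :=
  IsRegularLocalRing.of_spanFinrank_maximalIdeal_le R (spanFinrank_le_of_residueField_hasPD R h)

theorem pd_residueField_regular (R : Type u) [CommRing R] [IsRegularLocalRing R] :
    projectiveDimension (ModuleCat.of R (ResidueField R)) =
      ((maximalIdeal R).spanFinrank : ℕ) := by
  obtain ⟨s, hcard, hspan⟩ :=
    Submodule.FG.exists_span_finset_card_eq_spanFinrank (maximalIdeal R).fg_of_isNoetherianRing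
  have hlist : Ideal.ofList s.toList = maximalIdeal R := by
    rw [← hspan]
    show Ideal.span _ = Submodule.span R _
    congr 1
    ext r
    simp
  have hreg : RingTheory.Sequence.IsRegular R s.toList :=
    isRegular_of_isWeaklyRegular (isWeaklyRegular_params R _ hlist (by rw [Finset.length_toList, hcard]))
      fun r hr => hlist ▸ Ideal.subset_span hr
  have h := ModuleCat.projectiveDimension_quotient_eq_length.{u} s.toList hreg
  rw [Finset.length_toList, hcard] at h
  rw [← h]
  refine projectiveDimension_eq_of_iso (LinearEquiv.toModuleIso ?_)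
  exact (Submodule.quotEquivOfEq _ _ hlist.symm).trans (Shrink.linearEquiv R _).symm

theorem hasPD_of_regular (R : Type u) [CommRing R] [IsRegularLocalRing R] {d : ℕ}
    (hd : ringKrullDim R = d) (M : ModuleCat.{u} R) : HasProjectiveDimensionLT M (d + 1) := by
  refine hasProjectiveDimensionLT_of_residueField d ?_ M
  show HasProjectiveDimensionLE _ d
  rw [← projectiveDimension_le_iff, pd_residueField_regular R]
  have := IsRegularLocalRing.spanFinrank_maximalIdeal (R := R)
  rw [hd] at this
  exact_mod_cast this.le

theorem depth_regular (R : Type u) [CommRing R] [IsRegularLocalRing R] {d : ℕ}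
    (hd : ringKrullDim R = d) : LocCoh.depth R R = d := by
  obtain ⟨s, hcard, hspan⟩ :=
    Submodule.FG.exists_span_finset_card_eq_spanFinrank (maximalIdeal R).fg_of_isNoetherianRing
  have hlist : Ideal.ofList s.toList = maximalIdeal R := by
    rw [← hspan]
    show Ideal.span _ = Submodule.span R _
    congr 1
    ext r
    simp
  have h1 := length_le_depth (A := R) (M := R)
    (isWeaklyRegular_params R _ hlist (by rw [Finset.length_toList, hcard]))
    (fun r hr => hlist ▸ Ideal.subset_span hr)
  have h2 := depth_le_supportDim (A := R) (M := R)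
  rw [Module.supportDim_self_eq_ringKrullDim, hd] at h2
  have h3 := IsRegularLocalRing.spanFinrank_maximalIdeal (R := R)
  rw [hd] at h3
  have h3' : (maximalIdeal R).spanFinrank = d := by exact_mod_cast h3
  rw [Finset.length_toList, hcard, h3'] at h1
  refine le_antisymm ?_ h1
  exact_mod_cast WithBot.coe_le_coe.mp h2

theorem regular_localization (R : Type u) [CommRing R] [IsRegularLocalRing R] (p : Ideal R)
    [p.IsPrime] : IsRegularLocalRing (Localization.AtPrime p) := by
  obtain ⟨d, hd⟩ : ∃ d : ℕ, ringKrullDim R = d :=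
    ⟨_, (IsRegularLocalRing.spanFinrank_maximalIdeal (R := R)).symm⟩
  let Rp := Localization.AtPrime p
  have : IsNoetherianRing Rp := IsLocalization.isNoetherianRing p.primeCompl _ inferInstance
  have h1 : HasProjectiveDimensionLE (ModuleCat.of R (R ⧸ p)) d := hasPD_of_regular R hd _
  have h2 := hasPD_baseChange Rp (R ⧸ p) d h1
  refine regular_of_residueField_hasPD Rp (e := d) ?_
  have hp : p.map (algebraMap R Rp) = maximalIdeal Rp := Localization.AtPrime.map_eq_maximalIdeal
  have hsmul : (p • ⊤ : Submodule R Rp) = (maximalIdeal Rp).restrictScalars R := by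
    rw [Ideal.smul_top_eq_map, hp]
  let e : Rp ⊗[R] (R ⧸ p) ≃ₗ[Rp] Rp ⧸ maximalIdeal Rp :=
    LinearEquiv.extendScalarsOfIsLocalization p.primeCompl Rp
      ((TensorProduct.tensorQuotEquivQuotSMul Rp p) ≪≫ₗ (Submodule.quotEquivOfEq _ _ hsmul) ≪≫ₗ
        (Submodule.Quotient.restrictScalarsEquiv R (maximalIdeal Rp)))
  exact ((projectiveDimension_le_iff _ d).mp ((projectiveDimension_eq_of_iso
    e.toModuleIso).ge.trans ((projectiveDimension_le_iff _ d).mpr h2)))

theorem regular_of_flat (R : Type u) [CommRing R] [IsLocalRing R] [IsNoetherianRing R] (S : Type u)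
    [CommRing S] [IsRegularLocalRing S] [Algebra R S] [IsLocalHom (algebraMap R S)]
    [Module.Flat R S] : IsRegularLocalRing R := by
  obtain ⟨d, hd⟩ : ∃ d : ℕ, ringKrullDim S = d :=
    ⟨_, (IsRegularLocalRing.spanFinrank_maximalIdeal (R := S)).symm⟩
  have : Module.FaithfullyFlat R S := Module.FaithfullyFlat.of_flat_of_isLocalHom
  exact regular_of_residueField_hasPD R
    (hasPD_of_baseChange S (ResidueField R) d (hasPD_of_regular S hd _))

theorem finrank_cotangent_lt (R : Type u) [CommRing R] [IsLocalRing R] [IsNoetherianRing R] (d : ℕ)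
    (hd : HasProjectiveDimensionLT (ModuleCat.of R (ResidueField R)) d) :
    Module.finrank (ResidueField R) (CotangentSpace R) < d := by
  cases d with
  | zero =>
    have h := (hasProjectiveDimensionLT_zero_iff_isZero _).mp hd
    rw [ModuleCat.isZero_iff_subsingleton] at h
    exact absurd h (not_subsingleton (ResidueField R))
  | succ e =>
    have := regular_of_residueField_hasPD R (e := e) hd
    have h := (projectiveDimension_le_iff _ e).mpr hd
    rw [pd_residueField_regular R] at h
    rw [← spanFinrank_maximalIdeal_eq_finrank_cotangentSpace]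
    have : (maximalIdeal R).spanFinrank ≤ e := by exact_mod_cast h
    omega

end Groth.Agent.CAlg1
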