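import Mathlib
import Groth.Prelude.Def_CAlg
import Groth.Agent.EGA4Alg4.Depth
import Groth.Agent.EGA4Alg4.DepthChange
import Groth.Agent.FlatCrit65.Injective

/-! Depth of `N ⊗ M` for `N` flat over the base. -/

open IsLocalRing TensorProduct
open scoped Pointwise

universe u

namespace Groth.Agent.CAlg1

open Groth.Agent.EGA4Alg4

section general

variable {R S : Type u} [CommRing R] [CommRing S] [Algebra R S]
variable {N : Type u} [AddCommGroup N] [Module R N] [Module S N] [IsScalarTower R S N]

/-- `N ⊗ R/I = N/IN` as modules over `S`. -/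
noncomputable def tensorQuotEquiv (I : Ideal R) :
    (N ⧸ (I.map (algebraMap R S) • (⊤ : Submodule S N))) ≃ₗ[S] (N ⊗[R] (R ⧸ I)) := by
  let f : N →ₗ[S] N ⊗[R] (R ⧸ I) :=
    { toFun := fun n => n ⊗ₜ[R] (1 : R ⧸ I)
      map_add' := fun a b => by rw [add_tmul]
      map_smul' := fun s a => by rw [RingHom.id_apply, smul_tmul'] }
  have hsurj : Function.Surjective f := by
    intro x
    induction x with
    | zero => exact ⟨0, map_zero f⟩
    | add a b ha hb =>
      obtain ⟨a', rfl⟩ := ha; obtain ⟨b', rfl⟩ := hb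
      exact ⟨a' + b', map_add f _ _⟩
    | tmul n r =>
      obtain ⟨r, rfl⟩ := Ideal.Quotient.mk_surjective r
      refine ⟨r • n, ?_⟩
      show (r • n) ⊗ₜ[R] (1 : R ⧸ I) = _
      rw [smul_tmul]
      congr 1
      rw [Algebra.smul_def, mul_one]; rfl
  have hker : LinearMap.ker f = I.map (algebraMap R S) • (⊤ : Submodule S N) := by
    ext n
    rw [LinearMap.mem_ker, show f n = (TensorProduct.comm R N (R ⧸ I)).symm ((1 : R ⧸ I) ⊗ₜ n) from rfl,
      LinearEquiv.map_eq_zero_iff, Groth.Agent.FlatCrit65.one_tmul_eq_zero_iff,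
      ← Submodule.restrictScalars_mem R (I.map (algebraMap R S) • (⊤ : Submodule S N)),
      Ideal.smul_restrictScalars, Submodule.restrictScalars_top]
  exact (Submodule.quotEquivOfEq _ _ hker.symm).trans (LinearMap.quotKerEquivOfSurjective f hsurj)

variable {M : Type u} [AddCommGroup M] [Module R M]

variable (R N) in
/-- multiplication by `y` as a map over the base -/
def mulMap (y : S) : N →ₗ[R] N where
  toFun n := y • n
  map_add' := smul_add y
  map_smul' r n := by rw [RingHom.id_apply, smul_comm]

variable (R N) in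
/-- the quotient by `y` as a map over the base -/
def quotMap (y : S) : N →ₗ[R] QuotSMulTop y N where
  toFun n := Submodule.Quotient.mk n
  map_add' _ _ := rfl
  map_smul' _ _ := rfl

theorem quotMap_surjective (y : S) : Function.Surjective (quotMap R N y) :=
  Submodule.Quotient.mk_surjective _

theorem exact_mulMap (y : S) : Function.Exact (mulMap R N y) (quotMap R N y) := by
  intro m
  change (Submodule.Quotient.mk m : QuotSMulTop y N) = 0 ↔ _
  rw [Submodule.Quotient.mk_eq_zero, Submodule.mem_smul_pointwise_iff_exists]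
  exact ⟨fun ⟨a, _, ha⟩ => ⟨a, ha⟩, fun ⟨a, ha⟩ => ⟨a, trivial, ha⟩⟩

theorem smul_eq_rTensor (y : S) (t : N ⊗[R] M) : y • t = (mulMap R N y).rTensor M t := by
  induction t with
  | zero => simp
  | add a b ha hb => rw [smul_add, ha, hb, map_add]
  | tmul n m => rw [smul_tmul', LinearMap.rTensor_tmul]; rfl

theorem smul_eq_lTensor (x : R) (t : N ⊗[R] M) :
    algebraMap R S x • t = (mulMap R M x).lTensor N t := by
  induction t with
  | zero => simp
  | add a b ha hb => rw [smul_add, ha, hb, map_add]
  | tmul n m =>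
    rw [algebraMap_smul, LinearMap.lTensor_tmul]
    exact (tmul_smul x n m).symm

theorem tensor_smul_regular [Module.Flat R N] {x : R} (hx : IsSMulRegular M x) :
    IsSMulRegular (N ⊗[R] M) (algebraMap R S x) := by
  intro a b h
  simp only [smul_eq_lTensor] at h
  exact Module.Flat.lTensor_preserves_injective_linearMap (mulMap R M x) hx h

/-- `(N ⊗ M)/x = N ⊗ (M/x)`. -/
noncomputable def tensorQuotRightEquiv (x : R) :
    QuotSMulTop (algebraMap R S x) (N ⊗[R] M) ≃ₗ[S] N ⊗[R] QuotSMulTop x M :=
  (Submodule.quotEquivOfEq _ (LinearMap.ker (AlgebraTensorModule.lTensor S N (quotMap R M x))) (by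
    ext t
    rw [LinearMap.mem_ker, Submodule.mem_smul_pointwise_iff_exists]
    refine Iff.trans ?_ (lTensor_exact N (exact_mulMap x) (quotMap_surjective x) t).symm
    exact ⟨fun ⟨y, _, hy⟩ => ⟨y, (smul_eq_lTensor x y).symm.trans hy⟩,
      fun ⟨y, hy⟩ => ⟨y, trivial, (smul_eq_lTensor x y).trans hy⟩⟩)).trans
  (LinearMap.quotKerEquivOfSurjective _ (LinearMap.lTensor_surjective N (quotMap_surjective x)))

/-- the `S`-linear quotient map on the tensor product -/
noncomputable def tensorQuotMap (y : S) : N ⊗[R] M →ₗ[S] QuotSMulTop y N ⊗[R] M :=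
  AlgebraTensorModule.map (Submodule.mkQ (y • (⊤ : Submodule S N))) LinearMap.id

theorem tensorQuotMap_apply (y : S) (t : N ⊗[R] M) :
    tensorQuotMap y t = (quotMap R N y).rTensor M t := by
  induction t with
  | zero => simp
  | add a b ha hb => rw [map_add, map_add, ha, hb]
  | tmul n m => rfl

theorem ker_tensorQuotMap (y : S) :
    y • (⊤ : Submodule S (N ⊗[R] M)) = LinearMap.ker (tensorQuotMap y) := by
  ext t
  rw [LinearMap.mem_ker, tensorQuotMap_apply, Submodule.mem_smul_pointwise_iff_exists]
  refine Iff.trans ?_ (rTensor_exact M (exact_mulMap y) (quotMap_surjective y) t).symm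
  exact ⟨fun ⟨z, _, hz⟩ => ⟨z, (smul_eq_rTensor y z).symm.trans hz⟩,
    fun ⟨z, hz⟩ => ⟨z, trivial, (smul_eq_rTensor y z).trans hz⟩⟩

theorem tensorQuotMap_surjective (y : S) :
    Function.Surjective (tensorQuotMap (R := R) (N := N) (M := M) y) := fun t => by
  obtain ⟨s, hs⟩ := LinearMap.rTensor_surjective M (quotMap_surjective (R := R) (N := N) y) t
  exact ⟨s, (tensorQuotMap_apply y s).trans hs⟩

/-- `(N ⊗ M)/y = (N/y) ⊗ M`. -/
noncomputable def tensorQuotLeftEquiv (y : S) :
    QuotSMulTop y (N ⊗[R] M) ≃ₗ[S] QuotSMulTop y N ⊗[R] M :=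
  (Submodule.quotEquivOfEq _ _ (ker_tensorQuotMap y)).trans
    (LinearMap.quotKerEquivOfSurjective _ (tensorQuotMap_surjective y))

/-- cutting the fibre -/
noncomputable def quotFibreEquiv (J : Ideal S) (y : S) :
    QuotSMulTop y (N ⧸ J • (⊤ : Submodule S N)) ≃ₗ[S]
      QuotSMulTop y N ⧸ J • (⊤ : Submodule S (QuotSMulTop y N)) :=
  let P : Submodule S N := J • ⊤
  let Q : Submodule S N := y • ⊤
  have h1 : y • (⊤ : Submodule S (N ⧸ P)) = Q.map P.mkQ := by
    show _ = Submodule.map P.mkQ (y • ⊤)
    rw [Submodule.map_pointwise_smul, Submodule.map_top, Submodule.range_mkQ]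
  have h2 : P.map Q.mkQ = J • (⊤ : Submodule S (N ⧸ Q)) := by
    show Submodule.map Q.mkQ (J • ⊤) = _
    rw [Submodule.map_smul'', Submodule.map_top, Submodule.range_mkQ]
  let e1 : ((N ⧸ P) ⧸ Q.map P.mkQ) ≃ₗ[S] N ⧸ P ⊔ Q := Submodule.quotientQuotientEquivQuotientSup P Q
  let e2 : ((N ⧸ Q) ⧸ P.map Q.mkQ) ≃ₗ[S] N ⧸ Q ⊔ P := Submodule.quotientQuotientEquivQuotientSup Q P
  ((Submodule.quotEquivOfEq _ _ h1).trans e1).trans
    ((Submodule.quotEquivOfEq _ _ (sup_comm P Q)).trans (e2.symm.trans (Submodule.quotEquivOfEq _ _ h2)))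

end general

section local'

theorem enat_add_one_cancel : ∀ {a b : ℕ∞}, a + 1 = b + 1 → a = b := fun {a b} h =>
  WithTop.add_right_cancel (ENat.coe_ne_top 1) h

variable {R S : Type u} [CommRing R] [CommRing S] [IsLocalRing R] [IsLocalRing S]
  [IsNoetherianRing R] [IsNoetherianRing S] [Algebra R S] [IsLocalHom (algebraMap R S)]

/-- regular on the closed fibre: regular on `N ⊗ M` and the quotient is flat -/
theorem fibre_regular_lift {N M : Type u} [AddCommGroup N] [Module R N] [Module S N] [IsScalarTower R S N]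
    [Module.Finite S N] [Module.Flat R N] [AddCommGroup M] [Module R M] {y : S}
    (hy : IsSMulRegular (N ⧸ (maximalIdeal R).map (algebraMap R S) • (⊤ : Submodule S N)) y) :
    Module.Flat R (QuotSMulTop y N) ∧ IsSMulRegular (N ⊗[R] M) y := by
  have hm : (maximalIdeal R).map (algebraMap R S) ≤ Ideal.jacobson ⊥ := by
    rw [IsLocalRing.jacobson_eq_maximalIdeal ⊥ bot_ne_top, Ideal.map_le_iff_le_comap]
    exact fun a ha => map_mem_maximalIdeal ha
  have hmem : ∀ n : N, n ∈ maximalIdeal R • (⊤ : Submodule R N) ↔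
      (Submodule.Quotient.mk n : N ⧸ (maximalIdeal R).map (algebraMap R S) • (⊤ : Submodule S N)) = 0 :=
    fun n => by
    rw [Submodule.Quotient.mk_eq_zero, ← Submodule.restrictScalars_mem R
      ((maximalIdeal R).map (algebraMap R S) • (⊤ : Submodule S N)),
      Ideal.smul_restrictScalars, Submodule.restrictScalars_top]
  have hinj : Function.Injective ((mulMap R N y).lTensor (R ⧸ maximalIdeal R)) := by
    rw [injective_iff_map_eq_zero]
    intro t ht
    obtain ⟨n, rfl⟩ : ∃ n, (1 : R ⧸ maximalIdeal R) ⊗ₜ[R] n = t := by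
      obtain ⟨n, hn⟩ := TensorProduct.mk_surjective R N (R ⧸ maximalIdeal R) Ideal.Quotient.mk_surjective t
      exact ⟨n, hn⟩
    rw [LinearMap.lTensor_tmul, Groth.Agent.FlatCrit65.one_tmul_eq_zero_iff, hmem] at ht
    rw [Groth.Agent.FlatCrit65.one_tmul_eq_zero_iff, hmem]
    refine hy.right_eq_zero_of_smul ?_
    rw [← Submodule.Quotient.mk_smul]
    exact ht
  obtain ⟨hg, hflat⟩ :=
    Groth.Agent.FlatCrit65.injective_and_flat_quotient (S := S) (M := N) _ hm (mulMap R N y) hinj
  have hflat' : Module.Flat R (QuotSMulTop y N) :=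
    Module.Flat.of_linearEquiv ((Submodule.quotEquivOfEq _ _ (exact_mulMap y).linearMap_ker_eq.symm).trans
      (LinearMap.quotKerEquivOfSurjective _ (quotMap_surjective y))).symm
  refine ⟨hflat', ?_⟩
  have hinj' : Function.Injective ((mulMap R N y).rTensor M) :=
    (LinearMap.lTensor_inj_iff_rTensor_inj M (mulMap R N y)).mp
      (LinearMap.lTensor_injective_of_exact_of_flat (quotMap R N y) (quotMap_surjective y)
        (mulMap R N y) hg (exact_mulMap y) M)
  intro a b h
  simp only [smul_eq_rTensor] at h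
  exact hinj' h

theorem finite_tensor (N M : Type u) [AddCommGroup N] [Module R N] [Module S N] [IsScalarTower R S N]
    [Module.Finite S N] [AddCommGroup M] [Module R M] [Module.Finite R M] :
    Module.Finite S (N ⊗[R] M) := Groth.Agent.FlatCrit65.finite_tensor (M := N) S M

theorem nontrivial_tensor (N M : Type u) [AddCommGroup N] [Module R N] [Module S N] [IsScalarTower R S N]
    [Module.Finite S N] [Nontrivial N] [AddCommGroup M] [Module R M] [Module.Finite R M] [Nontrivial M] :
    Nontrivial (N ⧸ (maximalIdeal R).map (algebraMap R S) • (⊤ : Submodule S N)) ∧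
    Nontrivial (N ⊗[R] M) := by
  have h1 : Nontrivial (N ⧸ (maximalIdeal R).map (algebraMap R S) • (⊤ : Submodule S N)) :=
    Submodule.Quotient.nontrivial_iff.mpr
      (smul_top_lt_top (A := S) (M := N) ((maximalIdeal R).map (algebraMap R S))
        (Ideal.map_le_iff_le_comap.mpr fun a ha => map_mem_maximalIdeal ha)).ne
  refine ⟨h1, ?_⟩
  obtain ⟨f, hf⟩ : ∃ f : M →ₗ[R] R ⧸ maximalIdeal R, Function.Surjective f := by
    have : Nontrivial (M ⧸ maximalIdeal R • (⊤ : Submodule R M)) :=
      Submodule.Quotient.nontrivial_iff.mpr (smul_top_lt_top _ le_rfl).ne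
    let V := M ⧸ maximalIdeal R • (⊤ : Submodule R M)
    let := Ideal.Quotient.field (maximalIdeal R)
    obtain ⟨v, hv⟩ := exists_ne (0 : V)
    obtain ⟨φ, hφ⟩ := Module.Projective.exists_dual_ne_zero (R ⧸ maximalIdeal R) hv
    refine ⟨(φ.restrictScalars R).comp (Submodule.mkQ _), ?_⟩
    have hs : Function.Surjective φ := LinearMap.surjective fun h => hφ (by rw [h]; rfl)
    exact hs.comp (Submodule.mkQ_surjective (maximalIdeal R • (⊤ : Submodule R M)))
  exact ((tensorQuotEquiv (S := S) (N := N) (maximalIdeal R)).toEquiv.symm.surjective.comp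
    (LinearMap.lTensor_surjective N hf)).nontrivial

theorem depth_tensor_flat_zero_zero {N M : Type u} [AddCommGroup N] [Module R N] [Module S N]
    [IsScalarTower R S N] [Module.Finite S N] [Module.Flat R N] [AddCommGroup M] [Module R M]
    [Module.Finite R M]
    (h1 : LocCoh.depth R M = 0)
    (h2 : LocCoh.depth S (N ⧸ (maximalIdeal R).map (algebraMap R S) • (⊤ : Submodule S N)) = 0) :
    LocCoh.depth S (N ⊗[R] M) = 0 := by
  have := finite_tensor (R := R) (S := S) N M
  rw [depth_eq_zero_iff] at h1 h2 ⊢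
  obtain ⟨-, m, hm⟩ := isAssociatedPrime_iff.mp h1
  let i : (R ⧸ maximalIdeal R) →ₗ[R] M :=
    Submodule.liftQ _ (LinearMap.toSpanSingleton R M m) (fun r hr => by
      rw [hm, Submodule.mem_colon_singleton, Submodule.mem_bot] at hr
      exact hr)
  have hi : Function.Injective i := by
    rw [injective_iff_map_eq_zero]
    intro t ht
    obtain ⟨r, rfl⟩ := Submodule.Quotient.mk_surjective _ t
    rw [Submodule.Quotient.mk_eq_zero, hm, Submodule.mem_colon_singleton, Submodule.mem_bot]
    exact ht
  refine associatedPrimes.subset_of_injective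
    (f := AlgebraTensorModule.lTensor S N i) (Module.Flat.lTensor_preserves_injective_linearMap i hi) ?_
  rwa [← LinearEquiv.AssociatedPrimes.eq (tensorQuotEquiv (maximalIdeal R))]

theorem depth_tensor_flat_right (b : ℕ) : ∀ {N M : Type u} [AddCommGroup N] [Module R N] [Module S N]
    [IsScalarTower R S N] [Module.Finite S N] [Module.Flat R N] [AddCommGroup M] [Module R M]
    [Module.Finite R M],
    LocCoh.depth R M = 0 →
    LocCoh.depth S (N ⧸ (maximalIdeal R).map (algebraMap R S) • (⊤ : Submodule S N)) = b →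
    LocCoh.depth S (N ⊗[R] M) = b := by
  induction b with
  | zero =>
    intro N M _ _ _ _ _ _ _ _ _ h1 h2
    exact_mod_cast depth_tensor_flat_zero_zero h1 (by exact_mod_cast h2)
  | succ b ih =>
    intro N M _ _ _ _ _ _ _ _ _ h1 h2
    have : Module.Finite S (N ⊗[R] M) := finite_tensor N M
    have hnotass : maximalIdeal S ∉ associatedPrimes S
        (N ⧸ (maximalIdeal R).map (algebraMap R S) • (⊤ : Submodule S N)) := fun h => by
      rw [depth_eq_zero_iff.mpr h] at h2
      exact absurd h2.symm (by simp)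
    have hnt : Nontrivial (N ⧸ (maximalIdeal R).map (algebraMap R S) • (⊤ : Submodule S N)) := by
      by_contra hc
      rw [not_nontrivial_iff_subsingleton] at hc
      rw [depth_of_subsingleton] at h2
      exact ENat.top_ne_coe _ h2
    rw [maximalIdeal_mem_assoc_iff] at hnotass
    push Not at hnotass
    obtain ⟨y, hy, hyreg⟩ := hnotass
    obtain ⟨hflat, hreg⟩ := fibre_regular_lift (M := M) hyreg
    have h3 : LocCoh.depth S (QuotSMulTop y N ⧸
        (maximalIdeal R).map (algebraMap R S) • (⊤ : Submodule S (QuotSMulTop y N))) = b := by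
      rw [← depth_eq_of_equiv (quotFibreEquiv _ y)]
      have := depth_quotSMulTop_add_one hy hyreg
      rw [h2] at this
      push_cast at this
      exact enat_add_one_cancel this
    rw [← depth_quotSMulTop_add_one hy hreg, depth_eq_of_equiv (tensorQuotLeftEquiv y), ih h1 h3]
    push_cast; rfl

theorem depth_tensor_flat_left (a : ℕ) : ∀ {N M : Type u} [AddCommGroup N] [Module R N] [Module S N]
    [IsScalarTower R S N] [Module.Finite S N] [Module.Flat R N] [AddCommGroup M] [Module R M]
    [Module.Finite R M] (b : ℕ),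
    LocCoh.depth R M = a →
    LocCoh.depth S (N ⧸ (maximalIdeal R).map (algebraMap R S) • (⊤ : Submodule S N)) = b →
    LocCoh.depth S (N ⊗[R] M) = a + b := by
  induction a with
  | zero =>
    intro N M _ _ _ _ _ _ _ _ _ b h1 h2
    rw [depth_tensor_flat_right b (by exact_mod_cast h1) h2, Nat.cast_zero, zero_add]
  | succ a ih =>
    intro N M _ _ _ _ _ _ _ _ _ b h1 h2
    have : Module.Finite S (N ⊗[R] M) := finite_tensor N M
    have : Nontrivial M := by
      by_contra hc
      rw [not_nontrivial_iff_subsingleton] at hc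
      rw [depth_of_subsingleton] at h1
      exact ENat.top_ne_coe _ h1
    have hnotass : maximalIdeal R ∉ associatedPrimes R M := fun h => by
      rw [depth_eq_zero_iff.mpr h] at h1
      exact absurd h1.symm (by simp)
    rw [maximalIdeal_mem_assoc_iff] at hnotass
    push Not at hnotass
    obtain ⟨x, hx, hxreg⟩ := hnotass
    have h3 : LocCoh.depth R (QuotSMulTop x M) = a := by
      have := depth_quotSMulTop_add_one hx hxreg
      rw [h1] at this
      push_cast at this
      exact enat_add_one_cancel this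
    rw [← depth_quotSMulTop_add_one (map_mem_maximalIdeal hx) (tensor_smul_regular hxreg),
      depth_eq_of_equiv (tensorQuotRightEquiv x), ih b h3 h2, add_right_comm]
    push_cast; rfl

/-- the flat depth formula -/
theorem depth_tensor_flat {N M : Type u} [AddCommGroup N] [Module R N] [Module S N] [IsScalarTower R S N]
    [Module.Finite S N] [Module.Flat R N] [AddCommGroup M] [Module R M] [Module.Finite R M] :
    LocCoh.depth S (N ⊗[R] M) = LocCoh.depth R M +
      LocCoh.depth S (N ⧸ (maximalIdeal R).map (algebraMap R S) • (⊤ : Submodule S N)) := by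
  rcases subsingleton_or_nontrivial M with hM | hM
  · rw [depth_of_subsingleton (M := M), depth_of_subsingleton (M := N ⊗[R] M), top_add]
  rcases subsingleton_or_nontrivial N with hN | hN
  · rw [depth_of_subsingleton (M := N ⊗[R] M), depth_of_subsingleton (M := N ⧸ _), add_top]
  obtain ⟨h1, h2⟩ := nontrivial_tensor (R := R) (S := S) N M
  obtain ⟨a, ha⟩ := exists_depth_eq (A := R) (M := M)
  obtain ⟨b, hb⟩ := exists_depth_eq (A := S)
    (M := N ⧸ (maximalIdeal R).map (algebraMap R S) • (⊤ : Submodule S N))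
  rw [depth_tensor_flat_left a b ha hb, ha, hb]

end local'

end Groth.Agent.CAlg1
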