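import Mathlib
import Groth.Prelude.Def_CAlg
import Groth.Agent.EGA4Alg4.Depth
import Groth.Agent.Ega11.SupportLoc
import Groth.Agent.CAlg1.Regular

open IsLocalRing

universe u

namespace Groth.Agent.CAlg1

open Groth.Agent.EGA4Alg4

variable {R : Type u} [CommRing R] [IsNoetherianRing R] {M : Type u} [AddCommGroup M] [Module R M]
  [Module.Finite R M]

theorem assoc_atPrime_iff (p : Ideal R) [p.IsPrime] :
    maximalIdeal (Localization.AtPrime p) ∈
        associatedPrimes (Localization.AtPrime p) (LocalizedModule p.primeCompl M) ↔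
      p ∈ associatedPrimes R M := by
  refine ⟨fun h => ?_, fun h => Module.associatedPrimes.mem_associatedPrimes_atPrime_of_mem_associatedPrimes h⟩
  have h' := Module.associatedPrimes.comap_mem_associatedPrimes_of_mem_associatedPrimes_of_isLocalizedModule_of_fg
    p.primeCompl (LocalizedModule.mkLinearMap p.primeCompl M) _ h (IsNoetherian.noetherian _)
  rwa [← Ideal.under_def, IsLocalization.AtPrime.under_maximalIdeal (Localization.AtPrime p) p] at h'

theorem depth_atPrime_eq_zero_iff (p : Ideal R) [p.IsPrime] :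
    LocCoh.depth (Localization.AtPrime p) (LocalizedModule p.primeCompl M) = 0 ↔
      p ∈ associatedPrimes R M := by
  rw [depth_eq_zero_iff, assoc_atPrime_iff]

theorem mem_support_of_assoc' {p : Ideal R} (hp : p ∈ associatedPrimes R M) :
    (⟨p, hp.isPrime⟩ : PrimeSpectrum R) ∈ Module.support R M :=
  Module.mem_support_iff_of_finite.mpr (Submodule.annihilator_top.symm.le.trans hp.annihilator_le)

omit [IsNoetherianRing R] in
theorem supportDim_atPrime_le_zero_iff (p : Ideal R) [hp : p.IsPrime]
    (hsupp : (⟨p, hp⟩ : PrimeSpectrum R) ∈ Module.support R M) :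
    Module.supportDim (Localization.AtPrime p) (LocalizedModule p.primeCompl M) ≤ 0 ↔
      p ∈ (Module.annihilator R M).minimalPrimes := by
  rw [Groth.Agent.Ega11.SupportLoc.supportDim_localizedModule_eq, Order.krullDim_nonpos_iff_forall_isMin]
  constructor
  · intro h
    refine ⟨⟨hp, Module.mem_support_iff_of_finite.mp hsupp⟩, fun q ⟨hq, hqann⟩ hqp => ?_⟩
    let y : Groth.Agent.Ega11.SupportLoc.suppBelow R M p :=
      ⟨⟨q, hq⟩, Module.mem_support_iff_of_finite.mpr hqann, hqp⟩
    let x : Groth.Agent.Ega11.SupportLoc.suppBelow R M p := ⟨⟨p, hp⟩, hsupp, le_rfl⟩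
    exact h x (show y ≤ x from hqp)
  · intro h x y hyx
    show x.1.asIdeal ≤ y.1.asIdeal
    exact le_trans x.2.2 (h.2 ⟨y.1.isPrime, Module.mem_support_iff_of_finite.mp y.2.1⟩
      (le_trans (show y.1.asIdeal ≤ x.1.asIdeal from hyx) x.2.2))

theorem noEmbedded_iff_S1 :
    (∀ p ∈ associatedPrimes R M, p ∈ (Module.annihilator R M).minimalPrimes) ↔
      LocCoh.HasSk 1 R M := by
  constructor
  · intro h p hp
    by_cases h0 : LocCoh.depth (Localization.AtPrime p) (LocalizedModule p.primeCompl M) = 0
    · have hass := (depth_atPrime_eq_zero_iff p).mp h0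
      refine le_trans (min_le_right _ _) (le_trans
        ((supportDim_atPrime_le_zero_iff p (mem_support_of_assoc' hass)).mpr (h p hass)) ?_)
      rw [h0]; rfl
    · refine le_trans (min_le_left _ _) ?_
      rw [Nat.cast_one, ← WithBot.coe_one, WithBot.coe_le_coe, Order.one_le_iff_pos, pos_iff_ne_zero]
      exact h0
  · intro h p hp
    have := hp.isPrime
    refine (supportDim_atPrime_le_zero_iff p (mem_support_of_assoc' hp)).mp ?_
    have h1 := h p
    rw [(depth_atPrime_eq_zero_iff p).mpr hp] at h1
    rcases min_le_iff.mp h1 with h2 | h2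
    · rw [Nat.cast_one, ← WithBot.coe_one, WithBot.coe_le_coe] at h2
      exact absurd h2 (by simp)
    · exact h2

theorem annihilator_self : Module.annihilator R R = (⊥ : Ideal R) :=
  eq_bot_iff.mpr fun r hr => by simpa using Module.mem_annihilator.mp hr 1

omit [Module.Finite R M] [AddCommGroup M] [Module R M] in
theorem reduced_iff_R0_S1 : IsReduced R ↔ (LocCoh.HasRk 0 R ∧ LocCoh.HasSk 1 R R) := by
  constructor
  · intro hred
    refine ⟨fun p hp hht => ?_, noEmbedded_iff_S1.mp fun p hp => ?_⟩
    · have : IsNoetherianRing (Localization.AtPrime p) :=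
        IsLocalization.isNoetherianRing p.primeCompl _ inferInstance
      have hmin : p ∈ minimalPrimes R := Ideal.height_eq_zero_iff.mp (le_antisymm (by simpa using hht) bot_le)
      have hf : IsField (Localization.AtPrime p) := by
        have : Ring.KrullDimLE 0 (Localization.AtPrime p) := Ring.krullDimLE_iff.mpr (by
          rw [IsLocalization.AtPrime.ringKrullDim_eq_height p (Localization.AtPrime p),
            Ideal.height_eq_zero_iff.mpr hmin]; simp)
        exact Ring.KrullDimLE.isField_of_isReduced
      let := hf.toField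
      infer_instance
    · rw [annihilator_self]
      obtain ⟨hp', x, hx⟩ := isAssociatedPrime_iff.mp hp
      refine ⟨⟨hp', bot_le⟩, fun q ⟨hq, _⟩ hqp y hy => ?_⟩
      by_contra hyq
      have h1 : ∀ a ∈ p, a * x = 0 := fun a ha => by
        rw [hx, Submodule.mem_colon_singleton, Submodule.mem_bot, smul_eq_mul] at ha
        exact ha
      have hxq : x ∈ q := (hq.mem_or_mem (show y * x ∈ q by rw [h1 y hy]; exact zero_mem _)).resolve_left hyq
      have hxx : x * x = 0 := h1 x (hqp hxq)
      have hx0 : x = 0 := IsReduced.eq_zero x ⟨2, by rw [pow_two]; exact hxx⟩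
      exact hp'.ne_top (by rw [hx, hx0]; simp)
  · rintro ⟨h0, h1⟩
    refine ⟨fun x hx => ?_⟩
    by_contra hx0
    obtain ⟨p, hp, hann⟩ := exists_le_isAssociatedPrime_of_isNoetherianRing (R := R) x hx0
    have hmin := noEmbedded_iff_S1.mpr h1 p hp
    rw [annihilator_self] at hmin
    have := hp.isPrime
    have := h0 p (le_of_eq (Ideal.height_eq_zero_iff.mpr hmin))
    have := isDomain_regular (Localization.AtPrime p)
    have h2 : algebraMap R (Localization.AtPrime p) x = 0 := IsNilpotent.eq_zero (hx.map _)
    obtain ⟨⟨t, ht⟩, htx⟩ := (IsLocalization.map_eq_zero_iff p.primeCompl _ x).mp h2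
    refine ht (hann ?_)
    rw [Submodule.mem_colon_singleton, Submodule.mem_bot]
    exact htx

theorem bijective_of_depth_two {N : Type u} [AddCommGroup N] [Module R N] (φ : M →ₗ[R] N)
    (h : ∀ (p : Ideal R) [p.IsPrime],
      Function.Bijective (LocalizedModule.map p.primeCompl φ) ∨
        (2 ≤ LocCoh.depth (Localization.AtPrime p) (LocalizedModule p.primeCompl M) ∧
          p ∉ associatedPrimes R N)) :
    Function.Bijective φ := by
  have hinj : Function.Injective φ := by
    rw [← LinearMap.ker_eq_bot]
    by_contra hK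
    obtain ⟨x, hxK, hx0⟩ := Submodule.exists_mem_ne_zero_of_ne_bot hK
    obtain ⟨p, hp, hann⟩ := exists_le_isAssociatedPrime_of_isNoetherianRing (R := R)
      (M := LinearMap.ker φ) ⟨x, hxK⟩ (fun h => hx0 (congrArg Subtype.val h))
    have := hp.isPrime
    rcases h p with hb | ⟨hd, -⟩
    · obtain ⟨-, y, hy⟩ := isAssociatedPrime_iff.mp hp
      have hyt : ∀ r : R, r • y = 0 → r ∈ p := fun r hr => by
        rw [hy, Submodule.mem_colon_singleton, Submodule.mem_bot]; exact hr
      have h1 : LocalizedModule.map p.primeCompl φ (LocalizedModule.mk (y : M) 1) =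
          LocalizedModule.map p.primeCompl φ 0 := by
        rw [map_zero, LocalizedModule.map_mk, (LinearMap.mem_ker.mp y.2), LocalizedModule.zero_mk]
      obtain ⟨t, ht⟩ := LocalizedModule.mk_eq.mp
        ((hb.1 h1).trans (LocalizedModule.zero_mk (1 : p.primeCompl)).symm)
      refine t.2 (hyt _ ?_)
      ext
      simpa [Submonoid.smul_def] using ht
    · have := (depth_atPrime_eq_zero_iff p).mpr
        (associatedPrimes.subset_of_injective (LinearMap.ker φ).subtype_injective hp)
      rw [this] at hd
      simp at hd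
  refine ⟨hinj, ?_⟩
  rw [← LinearMap.range_eq_top]
  by_contra hC
  have : Nontrivial (N ⧸ LinearMap.range φ) := Submodule.Quotient.nontrivial_iff.mpr hC
  obtain ⟨p, hp⟩ := associatedPrimes.nonempty R (N ⧸ LinearMap.range φ)
  have := hp.isPrime
  obtain ⟨-, ybar, hy⟩ := isAssociatedPrime_iff.mp hp
  obtain ⟨y, rfl⟩ := Submodule.Quotient.mk_surjective _ ybar
  have hmem : ∀ t : R, t ∈ p ↔ t • y ∈ LinearMap.range φ := fun t => by
    rw [hy, Submodule.mem_colon_singleton, Submodule.mem_bot, ← Submodule.Quotient.mk_smul,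
      Submodule.Quotient.mk_eq_zero]
  let Rp := Localization.AtPrime p
  let Φ := LocalizedModule.map p.primeCompl φ
  let y₁ : LocalizedModule p.primeCompl N := LocalizedModule.mk y 1
  have hnot : y₁ ∉ LinearMap.range Φ := by
    rintro ⟨w, hw⟩
    obtain ⟨⟨a, s⟩, rfl⟩ : ∃ z : M × p.primeCompl, LocalizedModule.mk z.1 z.2 = w :=
      LocalizedModule.induction_on (fun a s => ⟨(a, s), rfl⟩) w
    rw [LocalizedModule.map_mk] at hw
    obtain ⟨t, ht⟩ := LocalizedModule.mk_eq.mp hw
    refine (t * s).2 ((hmem _).mpr ⟨(t : R) • a, ?_⟩)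
    rw [map_smul]
    simp only [Submonoid.smul_def, OneMemClass.coe_one, one_smul] at ht
    rw [Submonoid.coe_mul, mul_smul]
    exact ht
  rcases h p with hb | ⟨hd, hN⟩
  · exact hnot (hb.2 y₁)
  have hinjΦ : Function.Injective Φ := LocalizedModule.map_injective p.primeCompl φ hinj
  have hm : ∀ a ∈ maximalIdeal Rp, a • y₁ ∈ LinearMap.range Φ := by
    intro a ha
    rw [← Localization.AtPrime.map_eq_maximalIdeal] at ha
    refine Submodule.span_induction ?_ ?_ ?_ ?_ ha
    · rintro _ ⟨r, hr, rfl⟩
      obtain ⟨b, hb⟩ := (hmem r).mp hr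
      refine ⟨LocalizedModule.mk b 1, ?_⟩
      rw [LocalizedModule.map_mk, hb, algebraMap_smul, LocalizedModule.smul'_mk]
    · simp
    · intro u v _ _ hu hv
      rw [add_smul]; exact add_mem hu hv
    · intro c u _ hu
      rw [smul_assoc]; exact Submodule.smul_mem _ c hu
  have : IsNoetherianRing Rp := IsLocalization.isNoetherianRing p.primeCompl _ inferInstance
  have hnt : Nontrivial (LocalizedModule p.primeCompl M) := by
    by_contra h0
    rw [not_nontrivial_iff_subsingleton] at h0
    have hz : ∀ a ∈ maximalIdeal Rp, a • y₁ = 0 := fun a ha => by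
      obtain ⟨w, hw⟩ := hm a ha
      rw [← hw, Subsingleton.elim w 0, map_zero]
    have hy0 : y₁ ≠ 0 := fun h => hnot (h ▸ zero_mem _)
    refine hN ?_
    have hass : maximalIdeal Rp ∈ associatedPrimes Rp (LocalizedModule p.primeCompl N) := by
      refine ⟨(maximalIdeal.isMaximal Rp).isPrime, y₁, ?_⟩
      refine le_antisymm ?_ (le_maximalIdeal ?_)
      · exact fun a ha => Ideal.le_radical (by
          rw [Submodule.mem_colon_singleton, Submodule.mem_bot]; exact hz a ha)
      · rw [Ne, Ideal.radical_eq_top, Ideal.eq_top_iff_one, Submodule.mem_colon_singleton,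
          Submodule.mem_bot, one_smul]
        exact hy0
    have h' := Module.associatedPrimes.comap_mem_associatedPrimes_of_mem_associatedPrimes_of_isLocalizedModule_of_fg
      p.primeCompl (LocalizedModule.mkLinearMap p.primeCompl N) _ hass (IsNoetherian.noetherian _)
    rwa [← Ideal.under_def, IsLocalization.AtPrime.under_maximalIdeal (Localization.AtPrime p) p] at h'
  obtain ⟨rs, hlen, hrs, hreg⟩ := (natCast_le_depth_iff (A := Rp) (M := LocalizedModule p.primeCompl M) 2).mp hd
  match rs, hlen with
  | [a, b], _ =>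
    rw [RingTheory.Sequence.isWeaklyRegular_cons_iff, RingTheory.Sequence.isWeaklyRegular_singleton_iff] at hreg
    obtain ⟨ha, hb⟩ := hreg
    obtain ⟨u, hu⟩ := hm a (hrs a (by simp))
    obtain ⟨v, hv⟩ := hm b (hrs b (by simp))
    have he : b • u = a • v := hinjΦ (by rw [map_smul, map_smul, hu, hv, smul_comm])
    have hu' : Submodule.Quotient.mk u = (0 : QuotSMulTop a (LocalizedModule p.primeCompl M)) := by
      refine hb ?_
      show b • Submodule.Quotient.mk u = b • (0 : QuotSMulTop a _)
      rw [smul_zero, ← Submodule.Quotient.mk_smul, he, Submodule.Quotient.mk_eq_zero]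
      exact Submodule.smul_mem_pointwise_smul _ _ _ trivial
    rw [Submodule.Quotient.mk_eq_zero, Submodule.mem_smul_pointwise_iff_exists] at hu'
    obtain ⟨u', -, rfl⟩ := hu'
    let z := y₁ - Φ u'
    have haz : a • z = 0 := by rw [smul_sub, ← map_smul, hu, sub_self]
    have hmz : ∀ t ∈ maximalIdeal Rp, t • z = 0 := by
      intro t ht
      obtain ⟨c, hc⟩ := hm t ht
      have h1 : Φ (c - t • u') = t • z := by rw [map_sub, map_smul, hc, smul_sub]
      have h2 : a • (c - t • u') = 0 :=
        hinjΦ (by rw [map_smul, h1, smul_comm, haz, smul_zero, map_zero])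
      rw [← h1, ha.right_eq_zero_of_smul h2, map_zero]
    have hz0 : z ≠ 0 := fun h => hnot ⟨u', (sub_eq_zero.mp h).symm⟩
    refine hN ?_
    have hass : maximalIdeal Rp ∈ associatedPrimes Rp (LocalizedModule p.primeCompl N) := by
      refine ⟨(maximalIdeal.isMaximal Rp).isPrime, z, ?_⟩
      refine le_antisymm ?_ (le_maximalIdeal ?_)
      · exact fun t ht => Ideal.le_radical (by
          rw [Submodule.mem_colon_singleton, Submodule.mem_bot]; exact hmz t ht)
      · rw [Ne, Ideal.radical_eq_top, Ideal.eq_top_iff_one, Submodule.mem_colon_singleton,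
          Submodule.mem_bot, one_smul]
        exact hz0
    have h' := Module.associatedPrimes.comap_mem_associatedPrimes_of_mem_associatedPrimes_of_isLocalizedModule_of_fg
      p.primeCompl (LocalizedModule.mkLinearMap p.primeCompl N) _ hass (IsNoetherian.noetherian _)
    rwa [← Ideal.under_def, IsLocalization.AtPrime.under_maximalIdeal (Localization.AtPrime p) p] at h'

end Groth.Agent.CAlg1
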