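import Mathlib
import Groth.Prelude.Def_CAlg
import Groth.Agent.EGA4Alg4.Depth
import Groth.Agent.EGA4Alg4.DepthChange
import Groth.Agent.CAlg1.Regular
import Groth.Agent.CAlg1.Sk
import Groth.Agent.S14359

open IsLocalRing
open scoped Pointwise

universe u

namespace Groth.Agent.CAlg1

open Groth.Agent.EGA4Alg4

/-- depth at a prime of the ring itself -/
noncomputable def locSelfEquiv {R : Type u} [CommRing R] (q : Ideal R) [q.IsPrime] :
    LocalizedModule q.primeCompl R ≃ₗ[Localization.AtPrime q] Localization.AtPrime q :=
  (IsLocalizedModule.iso q.primeCompl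
    (Algebra.linearMap R (Localization.AtPrime q))).extendScalarsOfIsLocalization q.primeCompl _

variable {R : Type u} [CommRing R] [IsNoetherianRing R]

theorem depth_locSelf (q : Ideal R) [q.IsPrime] :
    LocCoh.depth (Localization.AtPrime q) (LocalizedModule q.primeCompl R) =
      LocCoh.depth (Localization.AtPrime q) (Localization.AtPrime q) := by
  have : IsNoetherianRing (Localization.AtPrime q) :=
    IsLocalization.isNoetherianRing q.primeCompl _ inferInstance
  exact depth_eq_of_equiv (locSelfEquiv q)

omit [IsNoetherianRing R] in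
theorem supportDim_locSelf (q : Ideal R) [q.IsPrime] :
    Module.supportDim (Localization.AtPrime q) (LocalizedModule q.primeCompl R) =
      ((q.height : ℕ∞) : WithBot ℕ∞) := by
  rw [Module.supportDim_eq_of_equiv (locSelfEquiv q), Module.supportDim_self_eq_ringKrullDim,
    IsLocalization.AtPrime.ringKrullDim_eq_height q]

theorem two_le_depth_of_isIntegrallyClosed (A : Type u) [CommRing A] [IsLocalRing A] [IsDomain A]
    [IsNoetherianRing A] [IsIntegrallyClosed A] (h : 2 ≤ ringKrullDim A) :
    2 ≤ LocCoh.depth A A := by
  have hne : maximalIdeal A ≠ ⊥ := fun hb => by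
    rw [ringKrullDim_eq_zero_of_isField (IsLocalRing.isField_iff_maximalIdeal_eq.mpr hb)] at h
    exact absurd h (by decide)
  obtain ⟨b, hb, hb0⟩ := Submodule.exists_mem_ne_zero_of_ne_bot hne
  have hreg : IsSMulRegular A b := fun x y hxy => mul_left_cancel₀ hb0 hxy
  rw [← depth_quotSMulTop_add_one hb hreg]
  have h1 : LocCoh.depth A (QuotSMulTop b A) ≠ 0 := by
    intro h0
    rw [depth_eq_zero_iff] at h0
    let e : QuotSMulTop b A ≃ₗ[A] A ⧸ Ideal.span {b} := Submodule.quotEquivOfEq _ _ (by
      simp [← Submodule.ideal_span_singleton_smul, Ideal.mul_top])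
    rw [LinearEquiv.AssociatedPrimes.eq e] at h0
    have := Groth.Agent.S14359.result A b hb0 _ h0
    rw [← maximalIdeal_height_eq_ringKrullDim, this] at h
    exact absurd h (by decide)
  calc (2 : ℕ∞) = 1 + 1 := rfl
    _ ≤ LocCoh.depth A (QuotSMulTop b A) + 1 := by
        gcongr
        exact Order.one_le_iff_pos.mpr (pos_iff_ne_zero.mpr h1)

theorem regular_of_isIntegrallyClosed_dim_le_one (A : Type u) [CommRing A] [IsLocalRing A]
    [IsDomain A] [IsNoetherianRing A] [IsIntegrallyClosed A] (h : ringKrullDim A ≤ 1) :
    IsRegularLocalRing A := by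
  by_cases hf : IsField A
  · let := hf.toField
    infer_instance
  have hex : ∃! P : Ideal A, P ≠ ⊥ ∧ P.IsPrime := by
    refine ⟨maximalIdeal A, ⟨fun hb => hf (IsLocalRing.isField_iff_maximalIdeal_eq.mpr hb),
      (maximalIdeal.isMaximal A).isPrime⟩, fun P ⟨hP, hPp⟩ => ?_⟩
    have : Ring.KrullDimLE 1 A := Ring.krullDimLE_iff.mpr h
    exact IsLocalRing.eq_maximalIdeal (Ring.krullDimLE_one_iff_of_noZeroDivisors.mp this P hP hPp)
  have h3 : IsIntegrallyClosed A ∧ ∃! P : Ideal A, P ≠ ⊥ ∧ P.IsPrime := ⟨inferInstance, hex⟩
  have hv : IsDiscreteValuationRing A := ((IsDiscreteValuationRing.TFAE A hf).out 0 3).mpr h3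
  infer_instance

theorem depth_eq_of_ringEquiv {A B : Type u} [CommRing A] [CommRing B] [IsLocalRing A] [IsLocalRing B]
    [IsNoetherianRing A] [IsNoetherianRing B] (e : A ≃+* B) :
    LocCoh.depth A A = LocCoh.depth B B := by
  let := e.toRingHom.toAlgebra
  have : IsLocalHom (algebraMap A B) := ⟨fun a ha => by
    have h := ha.map e.symm.toRingHom
    rwa [show e.symm.toRingHom (algebraMap A B a) = a from e.symm_apply_apply a] at h⟩
  let l : A ≃ₗ[A] B := LinearEquiv.ofBijective (Algebra.linearMap A B) e.bijective
  have : Module.Finite A B := Module.Finite.equiv l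
  rw [depth_eq_of_equiv l, depth_eq_of_finite (B := B) B]

/-- a local ring with R1 and S2 is a normal domain -/
theorem isDomain_and_isIntegrallyClosed_local (A : Type u) [CommRing A] [IsLocalRing A]
    [IsNoetherianRing A] [IsReduced A]
    (hreg : ∀ (P : Ideal A) [P.IsPrime], P.height ≤ 1 → IsRegularLocalRing (Localization.AtPrime P))
    (hdepth : ∀ (P : Ideal A) [P.IsPrime], 2 ≤ P.height →
      2 ≤ LocCoh.depth (Localization.AtPrime P) (Localization.AtPrime P)) :
    IsDomain A ∧ IsIntegrallyClosed A := by
  classical
  -- integral fractions with nonzerodivisor denominators are in the ring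
  have key : ∀ a b : A, b ∈ nonZeroDivisors A →
      (∃ f : Polynomial A, f.Monic ∧ ∀ (B : Type u) [CommRing B] [Algebra A B] (u : B),
        u * algebraMap A B b = algebraMap A B a → IsUnit (algebraMap A B b) →
          Polynomial.aeval u f = 0) →
      ∀ (P : Ideal A) [P.IsPrime], P.height ≤ 1 →
        ∃ s ∈ P.primeCompl, s * a ∈ Ideal.span {b} := by
    rintro a b hb ⟨f, hf, hroot⟩ P _ hP
    have := hreg P hP
    let B := Localization.AtPrime P
    have := isDomain_regular B
    have hdim : Ring.KrullDimLE 1 B := Ring.krullDimLE_iff.mpr (by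
      rw [IsLocalization.AtPrime.ringKrullDim_eq_height P B]; exact_mod_cast hP)
    have : IsPrincipalIdealRing B := by
      by_cases hfld : IsField B
      · let := hfld.toField
        infer_instance
      have hd1 : ringKrullDim B = 1 := le_antisymm (Ring.krullDimLE_iff.mp hdim) (by
        rw [IsLocalization.AtPrime.ringKrullDim_eq_height P B]
        refine WithBot.coe_le_coe.mpr (Order.one_le_iff_pos.mpr (pos_iff_ne_zero.mpr fun h0 => hfld ?_))
        have : Ring.KrullDimLE 0 B := Ring.krullDimLE_iff.mpr (by
          rw [IsLocalization.AtPrime.ringKrullDim_eq_height P B, h0]; simp)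
        exact Ring.KrullDimLE.isField_of_isReduced)
      have hs := IsRegularLocalRing.spanFinrank_maximalIdeal (R := B)
      rw [hd1] at hs
      have hp : (maximalIdeal B).IsPrincipal :=
        ((Submodule.spanFinrank_eq_one_iff _).mp (by exact_mod_cast hs)).1
      have : IsDiscreteValuationRing B := ((IsDiscreteValuationRing.TFAE B hfld).out 0 4).mpr hp
      infer_instance
    have hb0 : algebraMap A B b ≠ 0 := fun h => by
      obtain ⟨⟨t, ht⟩, htb⟩ := (IsLocalization.map_eq_zero_iff P.primeCompl B b).mp h
      exact ht ((mem_nonZeroDivisors_iff_right.mp hb t htb) ▸ P.zero_mem)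
    let K := FractionRing B
    have hbK : algebraMap A K b ≠ 0 := by
      rw [IsScalarTower.algebraMap_apply A B K]
      exact (map_ne_zero_iff _ (IsFractionRing.injective B K)).mpr hb0
    have hu := hroot K (algebraMap A K a / algebraMap A K b) (div_mul_cancel₀ _ hbK)
      (isUnit_iff_ne_zero.mpr hbK)
    have hint : IsIntegral B (algebraMap A K a / algebraMap A K b) :=
      IsIntegral.tower_top ⟨f, hf, hu⟩
    obtain ⟨c, hc⟩ := IsIntegrallyClosed.isIntegral_iff.mp hint
    obtain ⟨⟨c₀, s⟩, hs⟩ := IsLocalization.surj P.primeCompl c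
    have heq : algebraMap A B ((s : A) * a) = algebraMap A B (c₀ * b) := by
      apply IsFractionRing.injective B K
      rw [map_mul, map_mul, map_mul, map_mul, ← hs, map_mul, hc,
        ← IsScalarTower.algebraMap_apply A B K, ← IsScalarTower.algebraMap_apply A B K,
        ← IsScalarTower.algebraMap_apply A B K, div_mul_eq_mul_div, div_mul_cancel₀ _ hbK, mul_comm]
    obtain ⟨⟨t, ht⟩, htt⟩ := (IsLocalization.eq_iff_exists P.primeCompl B).mp heq
    refine ⟨t * s, P.primeCompl.mul_mem ht s.2, Ideal.mem_span_singleton'.mpr ⟨t * c₀, ?_⟩⟩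
    rw [mul_assoc, mul_assoc]
    exact htt.symm
  have closed : ∀ a b : A, b ∈ nonZeroDivisors A →
      (∃ f : Polynomial A, f.Monic ∧ ∀ (B : Type u) [CommRing B] [Algebra A B] (u : B),
        u * algebraMap A B b = algebraMap A B a → IsUnit (algebraMap A B b) →
          Polynomial.aeval u f = 0) →
      a ∈ Ideal.span {b} := by
    intro a b hb hf
    by_contra ha
    have hne : (Ideal.Quotient.mk (Ideal.span {b}) a) ≠ 0 := fun h => ha (Ideal.Quotient.eq_zero_iff_mem.mp h)
    obtain ⟨P, hP, hann⟩ := exists_le_isAssociatedPrime_of_isNoetherianRing (R := A) _ hne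
    have := hP.isPrime
    have hsmall : P.height ≤ 1 := by
      by_contra hlt
      rw [not_le] at hlt
      have h2 := hdepth P (Order.add_one_le_of_lt hlt)
      let B := Localization.AtPrime P
      have : IsNoetherianRing B := IsLocalization.isNoetherianRing P.primeCompl _ inferInstance
      have hbP : b ∈ P := hann (by
        rw [Submodule.mem_colon_singleton, Submodule.mem_bot, Algebra.smul_def,
          Ideal.Quotient.algebraMap_eq, ← map_mul, Ideal.Quotient.eq_zero_iff_mem]
        exact Ideal.mul_mem_right _ _ (Ideal.mem_span_singleton_self b))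
      have hbm : algebraMap A B b ∈ maximalIdeal B := by
        rw [← Localization.AtPrime.map_eq_maximalIdeal]; exact Ideal.mem_map_of_mem _ hbP
      have hbreg : IsSMulRegular B (algebraMap A B b) := by
        have h0 : algebraMap A B b ∈ nonZeroDivisors B :=
          IsLocalization.map_nonZeroDivisors_le P.primeCompl B (Submonoid.mem_map_of_mem _ hb)
        intro x y hxy
        exact (mul_cancel_left_mem_nonZeroDivisors h0).mp hxy
      have hd := depth_quotSMulTop_add_one hbm hbreg
      have h0 : LocCoh.depth B (QuotSMulTop (algebraMap A B b) B) = 0 := by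
        rw [depth_eq_zero_iff]
        have hass := (assoc_atPrime_iff (M := A ⧸ Ideal.span {b}) P).mpr hP
        let g : A →ₗ[A] B := Algebra.linearMap A B
        have hsub : (Ideal.span {b}).localized' B P.primeCompl g =
            (algebraMap A B b) • (⊤ : Submodule B B) := by
          rw [← Submodule.ideal_span_singleton_smul, smul_eq_mul, Ideal.mul_top]
          refine (Ideal.localized'_eq_map B P.primeCompl _).trans ?_
          rw [Ideal.map_span, Set.image_singleton]
        let i1 := (IsLocalizedModule.iso P.primeCompl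
            ((Ideal.span {b}).toLocalizedQuotient' B P.primeCompl g)).extendScalarsOfIsLocalization
          P.primeCompl B
        let i2 := i1.trans (Submodule.quotEquivOfEq _ _ hsub)
        exact (LinearEquiv.AssociatedPrimes.eq i2) ▸ hass
      rw [h0, zero_add] at hd
      rw [← hd] at h2
      exact absurd h2 (by decide)
    obtain ⟨s, hs, hsa⟩ := key a b hb hf P hsmall
    refine hs (hann ?_)
    rw [Submodule.mem_colon_singleton, Submodule.mem_bot, Algebra.smul_def,
      Ideal.Quotient.algebraMap_eq, ← map_mul, Ideal.Quotient.eq_zero_iff_mem]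
    exact hsa
  have hfin := minimalPrimes.finite_of_isNoetherianRing A
  have hsingle : ∀ p ∈ minimalPrimes A, ∀ q ∈ minimalPrimes A, p = q := by
    intro p hp q hq
    by_contra hpq
    let others := hfin.toFinset.erase p
    have hp' := Ideal.minimalPrimes_isPrime hp
    have hqo : q ∈ others := Finset.mem_erase.mpr ⟨Ne.symm hpq, hfin.mem_toFinset.mpr hq⟩
    have hother : ∀ r ∈ others, r.IsPrime ∧ r ∈ minimalPrimes A ∧ r ≠ p := fun r hr => by
      obtain ⟨h1, h2⟩ := Finset.mem_erase.mp hr
      exact ⟨Ideal.minimalPrimes_isPrime (hfin.mem_toFinset.mp h2), hfin.mem_toFinset.mp h2, h1⟩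
    obtain ⟨s, hs, hsp⟩ : ∃ s ∈ others.inf id, s ∉ p := by
      by_contra hne
      push Not at hne
      obtain ⟨r, hr, hrp⟩ := (Ideal.IsPrime.inf_le' hp').mp (show others.inf id ≤ p from hne)
      obtain ⟨hr1, hr2, hr3⟩ := hother r hr
      exact hr3 (le_antisymm hrp (hp.2 ⟨hr1, bot_le⟩ hrp))
    obtain ⟨t, htp, hto⟩ : ∃ t ∈ p, ∀ r ∈ others, t ∉ r := by
      by_contra hne
      push Not at hne
      have hsub : (p : Set A) ⊆ ⋃ r ∈ (others : Set (Ideal A)), (r : Set A) := fun t ht => by
        obtain ⟨r, hr, htr⟩ := hne t ht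
        exact Set.mem_biUnion hr htr
      obtain ⟨r, hr, hpr⟩ := (Ideal.subset_union_prime (f := id) p p
        (fun i hi _ _ => (hother i hi).1)).mp hsub
      obtain ⟨hr1, hr2, hr3⟩ := hother r hr
      exact hr3 (le_antisymm (hr2.2 ⟨hp', bot_le⟩ hpr) hpr)
    have hall : ∀ z : A, (∀ r ∈ minimalPrimes A, z ∈ r) → z = 0 := fun z hz => by
      have : z ∈ nilradical A := by
        rw [nilradical, ← Ideal.sInf_minimalPrimes, Submodule.mem_sInf]
        exact hz
      rwa [nilradical_eq_zero] at this
    have hst : s * t = 0 := hall _ fun r hr => by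
      by_cases hrp : r = p
      · exact hrp ▸ Ideal.mul_mem_left _ _ htp
      · exact Ideal.mul_mem_right _ _ (Finset.inf_le (f := id)
          (Finset.mem_erase.mpr ⟨hrp, hfin.mem_toFinset.mpr hr⟩) hs)
    let b := s + t
    have hb : b ∈ nonZeroDivisors A := mem_nonZeroDivisors_iff_right.mpr fun z hz => hall z fun r hr => by
      have hr' := Ideal.minimalPrimes_isPrime hr
      refine (hr'.mem_or_mem (show z * b ∈ r by rw [hz]; exact zero_mem _)).resolve_right fun hbr => ?_
      by_cases hrp : r = p
      · subst hrp; exact hsp ((Submodule.add_mem_iff_left _ htp).mp hbr)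
      · have hr2 : r ∈ others := Finset.mem_erase.mpr ⟨hrp, hfin.mem_toFinset.mpr hr⟩
        exact hto r hr2 ((Submodule.add_mem_iff_right _ (Finset.inf_le (f := id) hr2 hs)).mp hbr)
    have hsb : s * b = s * s := by rw [mul_add, hst, add_zero]
    obtain ⟨c, hc⟩ := Ideal.mem_span_singleton'.mp (closed s b hb
      ⟨Polynomial.X ^ 2 - Polynomial.X, Polynomial.monic_X_pow_sub (by simp),
        fun B _ _ u hu hub => by
          simp only [map_sub, map_pow, Polynomial.aeval_X, sub_eq_zero]
          have h2 : (u ^ 2) * (algebraMap A B b * algebraMap A B b) =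
              u * (algebraMap A B b * algebraMap A B b) := by
            rw [← mul_assoc u, hu, ← map_mul, ← map_mul, hsb, map_mul, map_mul, ← hu]
            ring
          exact (hub.mul hub).mul_right_cancel h2⟩)
    have hcc : c * c = c := by
      have hbb : b * b ∈ nonZeroDivisors A := mul_mem hb hb
      refine (mul_cancel_right_mem_nonZeroDivisors hbb).mp ?_
      calc c * c * (b * b) = (c * b) * (c * b) := by ring
        _ = s * s := by rw [hc]
        _ = s * b := hsb.symm
        _ = c * (b * b) := by rw [← hc]; ring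
    rcases IsLocalRing.isUnit_or_isUnit_one_sub_self c with hu | hu
    · have : c = 1 := hu.mul_left_cancel (by rw [mul_one]; exact hcc)
      have ht0 : t = 0 := by rw [this, one_mul] at hc; linear_combination hc
      exact hto q hqo (ht0 ▸ zero_mem q)
    · have : c = 0 := by
        have h0 : c * (1 - c) = 0 := by rw [mul_sub, mul_one, hcc, sub_self]
        exact (hu.mul_left_eq_zero).mp h0
      exact hsp (by rw [← hc, this, zero_mul]; exact zero_mem p)
  have hdom : IsDomain A := by
    obtain ⟨p, hp, -⟩ := Ideal.exists_minimalPrimes_le (I := (⊥ : Ideal A))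
      (bot_le : ⊥ ≤ maximalIdeal A)
    have hbot : p = ⊥ := by
      rw [eq_bot_iff]
      intro z hz
      have : z ∈ nilradical A := by
        rw [nilradical, ← Ideal.sInf_minimalPrimes, Submodule.mem_sInf]
        exact fun r hr => hsingle p hp r hr ▸ hz
      rwa [nilradical_eq_zero] at this
    have : (⊥ : Ideal A).IsPrime := hbot ▸ Ideal.minimalPrimes_isPrime hp
    exact IsDomain.of_bot_isPrime A
  refine ⟨hdom, (isIntegrallyClosed_iff (FractionRing A)).mpr fun {x} hx => ?_⟩
  obtain ⟨a, b, hb, rfl⟩ := IsFractionRing.div_surjective (A := A) x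
  obtain ⟨f, hf, hfx⟩ := hx
  obtain ⟨c, hc⟩ := Ideal.mem_span_singleton'.mp (closed a b hb ⟨f, hf, fun B _ _ u hu hub => by
    have hg := Polynomial.scaleRoots_eval₂_eq_zero (algebraMap A (FractionRing A)) hfx (s := b)
    have hbK : algebraMap A (FractionRing A) b ≠ 0 :=
      (map_ne_zero_iff _ (IsFractionRing.injective A _)).mpr (nonZeroDivisors.ne_zero hb)
    rw [mul_div_cancel₀ _ hbK, Polynomial.eval₂_at_apply] at hg
    have hg0 : (f.scaleRoots b).eval a = 0 :=
      IsFractionRing.injective A (FractionRing A) (hg.trans (map_zero _).symm)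
    have hb2 : (f.scaleRoots b).eval₂ (algebraMap A B) (algebraMap A B a) = 0 := by
      rw [Polynomial.eval₂_at_apply, hg0, map_zero]
    rw [← hu, mul_comm u, Polynomial.scaleRoots_eval₂_mul] at hb2
    exact (hub.pow _).mul_right_eq_zero.mp hb2⟩)
  refine ⟨c, ?_⟩
  rw [eq_div_iff ((map_ne_zero_iff _ (IsFractionRing.injective A _)).mpr (nonZeroDivisors.ne_zero hb)),
    ← map_mul, hc]

theorem serre_normal :
    (∀ (p : Ideal R) [p.IsPrime], IsDomain (Localization.AtPrime p) ∧
      IsIntegrallyClosed (Localization.AtPrime p)) ↔ (LocCoh.HasRk 1 R ∧ LocCoh.HasSk 2 R R) := by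
  constructor
  · intro h
    refine ⟨fun p hp hht => ?_, fun p hp => ?_⟩
    · obtain ⟨hd, hic⟩ := h p
      have : IsNoetherianRing (Localization.AtPrime p) :=
        IsLocalization.isNoetherianRing p.primeCompl _ inferInstance
      refine regular_of_isIntegrallyClosed_dim_le_one _ ?_
      rw [IsLocalization.AtPrime.ringKrullDim_eq_height p]
      exact_mod_cast hht
    · obtain ⟨hd, hic⟩ := h p
      have : IsNoetherianRing (Localization.AtPrime p) :=
        IsLocalization.isNoetherianRing p.primeCompl _ inferInstance
      rw [supportDim_locSelf, depth_locSelf, ← WithBot.coe_natCast, ← WithBot.coe_min,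
        WithBot.coe_le_coe]
      by_cases h2 : (2 : ℕ∞) ≤ p.height
      · refine (min_le_left _ _).trans ?_
        exact two_le_depth_of_isIntegrallyClosed _ (by
          rw [IsLocalization.AtPrime.ringKrullDim_eq_height p]; exact WithBot.coe_le_coe.mpr h2)
      · rcases eq_or_ne p.height 0 with h0 | h0
        · rw [h0]; simp
        · have h1 : p.height ≤ 1 := by
            rw [not_le, ← one_add_one_eq_two] at h2
            exact Order.le_of_lt_add_one h2
          refine (min_le_right _ _).trans (h1.trans ?_)
          rw [Order.one_le_iff_pos, pos_iff_ne_zero, Ne, depth_eq_zero_iff]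
          intro hass
          have hf : IsField (Localization.AtPrime p) := by
            obtain ⟨-, x, hx⟩ := isAssociatedPrime_iff.mp hass
            refine IsLocalRing.isField_iff_maximalIdeal_eq.mpr ?_
            rw [eq_bot_iff, hx]
            intro a ha
            rw [Submodule.mem_colon_singleton, Submodule.mem_bot, smul_eq_mul, mul_eq_zero] at ha
            refine ha.resolve_right fun hx0 => ?_
            subst hx0
            exact (maximalIdeal.isMaximal (Localization.AtPrime p)).ne_top (by rw [hx]; simp)
          have := ringKrullDim_eq_zero_of_isField hf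
          rw [IsLocalization.AtPrime.ringKrullDim_eq_height p] at this
          exact h0 (by exact_mod_cast this)
  · rintro ⟨hR, hS⟩ p hp
    let A := Localization.AtPrime p
    have : IsNoetherianRing A := IsLocalization.isNoetherianRing p.primeCompl _ inferInstance
    have hred : IsReduced R := reduced_iff_R0_S1.mpr ⟨fun q hq h => hR q (h.trans (by simp)),
      fun q hq => le_trans (min_le_min_right _ (by norm_num)) (hS q)⟩
    have : IsReduced A := inferInstance
    have hcomp : ∀ (P : Ideal A) [P.IsPrime], ∃ (q : Ideal R) (_ : q.IsPrime),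
        P.height = q.height ∧ Nonempty (Localization.AtPrime q ≃+* Localization.AtPrime P) := by
      intro P _
      refine ⟨P.comap (algebraMap R A), inferInstance, ?_, ⟨?_⟩⟩
      · exact (IsLocalization.height_under p.primeCompl P).symm
      · exact (IsLocalization.localizationLocalizationAtPrimeIsoLocalization p.primeCompl P).toRingEquiv
    refine isDomain_and_isIntegrallyClosed_local A (fun P _ hP => ?_) (fun P _ hP => ?_)
    · obtain ⟨q, hq, hh, ⟨e⟩⟩ := hcomp P
      have := hR q (by rw [← hh]; exact_mod_cast hP)
      exact IsRegularLocalRing.of_ringEquiv e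
    · obtain ⟨q, hq, hh, ⟨e⟩⟩ := hcomp P
      have : IsNoetherianRing (Localization.AtPrime q) :=
        IsLocalization.isNoetherianRing q.primeCompl _ inferInstance
      have : IsNoetherianRing (Localization.AtPrime P) :=
        IsLocalization.isNoetherianRing P.primeCompl _ inferInstance
      rw [← depth_eq_of_ringEquiv e]
      have := hS q
      rw [supportDim_locSelf, depth_locSelf, ← WithBot.coe_natCast, ← WithBot.coe_min,
        WithBot.coe_le_coe, min_eq_left (hh ▸ hP)] at this
      exact this

end Groth.Agent.CAlg1
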