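import Mathlib
import Groth.Prelude.Def_CAlg
import Groth.Agent.EGA4Alg4.FibreDim
import Groth.Agent.CAlg1.FlatDepth
import Groth.Agent.CAlg1.SerreNormal

/-! Depth and dimension along flat maps, in terms of fibre rings. -/

open IsLocalRing TensorProduct

universe u

namespace Groth.Agent.CAlg1

open Groth.Agent.EGA4Alg4

theorem depth_quotient_self (A : Type u) [CommRing A] [IsLocalRing A] [IsNoetherianRing A]
    (J : Ideal A) [Nontrivial (A ⧸ J)] :
    haveI := IsLocalRing.of_surjective' (Ideal.Quotient.mk J) Ideal.Quotient.mk_surjective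
    LocCoh.depth A (A ⧸ J) = LocCoh.depth (A ⧸ J) (A ⧸ J) := by
  have := IsLocalRing.of_surjective' (Ideal.Quotient.mk J) Ideal.Quotient.mk_surjective
  have : IsLocalHom (algebraMap A (A ⧸ J)) :=
    IsLocalHom.of_surjective _ (by rw [Ideal.Quotient.algebraMap_eq]; exact Ideal.Quotient.mk_surjective)
  exact depth_eq_of_finite (A ⧸ J)

theorem depth_of_flat_local (A B : Type u) [CommRing A] [CommRing B] [IsLocalRing A] [IsLocalRing B]
    [IsNoetherianRing A] [IsNoetherianRing B] [Algebra A B] [IsLocalHom (algebraMap A B)]
    [Module.Flat A B] :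
    LocCoh.depth B B = LocCoh.depth A A +
      LocCoh.depth B (B ⧸ (maximalIdeal A).map (algebraMap A B)) := by
  have h := depth_tensor_flat (R := A) (S := B) (N := B) (M := A)
  rw [depth_eq_of_equiv (AlgebraTensorModule.rid A B B)] at h
  rw [h]
  congr 1
  exact depth_eq_of_equiv (Submodule.quotEquivOfEq _ _ (by rw [smul_eq_mul, Ideal.mul_top]))

variable {R S : Type u} [CommRing R] [CommRing S] [IsNoetherianRing R] [IsNoetherianRing S]
  [Algebra R S] [Module.Flat R S]

/-- depth is additive and dimension subadditive at a point of a fibre -/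
theorem depth_dim_fibre (p : Ideal R) [p.IsPrime] (Q : Ideal (p.Fiber S)) [Q.IsPrime] :
    LocCoh.depth (Localization.AtPrime (Q.comap Algebra.TensorProduct.includeRight))
        (Localization.AtPrime (Q.comap Algebra.TensorProduct.includeRight)) =
      LocCoh.depth (Localization.AtPrime p) (Localization.AtPrime p) +
        LocCoh.depth (Localization.AtPrime Q) (Localization.AtPrime Q) ∧
    ringKrullDim (Localization.AtPrime (Q.comap Algebra.TensorProduct.includeRight)) ≤
      ringKrullDim (Localization.AtPrime p) + ringKrullDim (Localization.AtPrime Q) := by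
  let r : Ideal S := Q.comap (Algebra.TensorProduct.includeRight : S →ₐ[R] p.Fiber S)
  have hr : r.LiesOver p := ⟨by
    show p = (Q.comap (Algebra.TensorProduct.includeRight : S →ₐ[R] p.Fiber S)).comap (algebraMap R S)
    rw [← Ideal.comap_coe (Algebra.TensorProduct.includeRight : S →ₐ[R] p.Fiber S), Ideal.comap_comap,
      AlgHom.comp_algebraMap]
    exact Ideal.over_def Q p⟩
  let := Localization.AtPrime.algebraOfLiesOver p r
  let A := Localization.AtPrime p
  let B := Localization.AtPrime r
  have : IsNoetherianRing A := IsLocalization.isNoetherianRing p.primeCompl _ inferInstance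
  have : IsNoetherianRing B := IsLocalization.isNoetherianRing r.primeCompl _ inferInstance
  have : IsLocalHom (algebraMap A B) := Localization.isLocalHom_localRingHom p r _ _
  have : Module.Flat A B := inferInstance
  let e : Localization.AtPrime Q ≃ₐ[A] B ⧸ p.map (algebraMap R B) :=
    Ideal.Fiber.localizationAlgEquivQuotient p Q
  have hm : (maximalIdeal A).map (algebraMap A B) = p.map (algebraMap R B) := by
    rw [← Localization.AtPrime.map_eq_maximalIdeal, Ideal.map_map, ← IsScalarTower.algebraMap_eq]
  have : Nontrivial (B ⧸ p.map (algebraMap R B)) := e.toEquiv.symm.nontrivial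
  have := IsLocalRing.of_surjective' (Ideal.Quotient.mk (p.map (algebraMap R B))) Ideal.Quotient.mk_surjective
  have : IsNoetherianRing (Localization.AtPrime Q) := isNoetherianRing_of_ringEquiv _ e.symm.toRingEquiv
  constructor
  · show LocCoh.depth B B = LocCoh.depth A A + _
    have hQ := depth_eq_of_ringEquiv (A := Localization.AtPrime Q) (B := B ⧸ p.map (algebraMap R B))
      e.toRingEquiv
    rw [depth_of_flat_local A B, hQ,
      depth_eq_of_equiv (Submodule.quotEquivOfEq _ _ hm), depth_quotient_self]
  · show ringKrullDim B ≤ ringKrullDim A + _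
    rw [ringKrullDim_eq_of_ringEquiv e.toRingEquiv, ← hm]
    exact ringKrullDim_le_add_fibre A B

omit [IsNoetherianRing R] [IsNoetherianRing S] [Module.Flat R S] in
theorem exists_fibre_prime (q : Ideal S) [q.IsPrime] :
    ∃ (Q : Ideal ((q.under R).Fiber S)) (_ : Q.IsPrime), Q.comap Algebra.TensorProduct.includeRight = q := by
  let p : PrimeSpectrum R := ⟨q.under R, inferInstance⟩
  let x : PrimeSpectrum.comap (algebraMap R S) ⁻¹' {p} := ⟨⟨q, inferInstance⟩, rfl⟩
  refine ⟨(PrimeSpectrum.preimageEquivFiber R S p x).asIdeal,
    (PrimeSpectrum.preimageEquivFiber R S p x).isPrime, ?_⟩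
  have := congrArg (fun y => (Subtype.val y).asIdeal) ((PrimeSpectrum.preimageEquivFiber R S p).symm_apply_apply x)
  exact this

end Groth.Agent.CAlg1
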