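import Mathlib
import Groth.Prelude.Def_CAlg
import Groth.Agent.CAlg1.FlatFibre

/-! Serre's conditions and Cohen-Macaulayness ascend along flat maps with such fibres. -/

open IsLocalRing TensorProduct

universe u

namespace Groth.Agent.CAlg1

open Groth.Agent.EGA4Alg4

theorem enat_min_le {k x y s a b : ℕ∞} (hs : s ≤ x + y) (hx : min k x ≤ a) (hy : min k y ≤ b) :
    min k s ≤ a + b := by
  rcases le_total k x with h | h
  · exact (min_le_left _ _).trans ((min_eq_left h ▸ hx).trans le_self_add)
  rcases le_total k y with h' | h'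
  · exact (min_le_left _ _).trans ((min_eq_left h' ▸ hy).trans le_add_self)
  exact (min_le_right _ _).trans (hs.trans (add_le_add (min_eq_right h ▸ hx) (min_eq_right h' ▸ hy)))

theorem hasSk_self_iff {R : Type u} [CommRing R] [IsNoetherianRing R] (k : ℕ) :
    LocCoh.HasSk k R R ↔ ∀ (p : Ideal R) [p.IsPrime],
      min (k : ℕ∞) p.height ≤ LocCoh.depth (Localization.AtPrime p) (Localization.AtPrime p) := by
  refine forall_congr' fun p => forall_congr' fun hp => ?_
  rw [supportDim_locSelf, depth_locSelf, ← WithBot.coe_natCast, ← WithBot.coe_min, WithBot.coe_le_coe]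

variable {R S : Type u} [CommRing R] [CommRing S] [IsNoetherianRing R] [IsNoetherianRing S]
  [Algebra R S] [Module.Flat R S]

omit [IsNoetherianRing R] [Module.Flat R S] in
theorem isNoetherianRing_fiber (p : Ideal R) [p.IsPrime] : IsNoetherianRing (p.Fiber S) := by
  let := Algebra.TensorProduct.rightAlgebra (R := R) (A := p.ResidueField) (B := S)
  have : IsNoetherianRing (Localization (Algebra.algebraMapSubmonoid S p.primeCompl)) :=
    IsLocalization.isNoetherianRing (Algebra.algebraMapSubmonoid S p.primeCompl) _ inferInstance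
  exact isNoetherianRing_of_ringEquiv _ (Ideal.Fiber.algEquivAux₁ (S := S) p).toRingEquiv.symm

theorem min_height_le_depth (k : ℕ) (hR : LocCoh.HasSk k R R) (p : Ideal R) [p.IsPrime]
    (hfib : LocCoh.HasSk k (p.Fiber S) (p.Fiber S)) (Q : Ideal (p.Fiber S)) [Q.IsPrime]
    (q : Ideal S) [q.IsPrime] (hq : Q.comap Algebra.TensorProduct.includeRight = q) :
    min (k : ℕ∞) q.height ≤ LocCoh.depth (Localization.AtPrime q) (Localization.AtPrime q) := by
  subst hq
  have := isNoetherianRing_fiber (S := S) p
  obtain ⟨h1, h2⟩ := depth_dim_fibre (S := S) p Q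
  rw [IsLocalization.AtPrime.ringKrullDim_eq_height (Q.comap Algebra.TensorProduct.includeRight),
    IsLocalization.AtPrime.ringKrullDim_eq_height p, IsLocalization.AtPrime.ringKrullDim_eq_height Q (Localization.AtPrime Q),
    ← WithBot.coe_add, WithBot.coe_le_coe] at h2
  rw [h1]
  exact enat_min_le h2 ((hasSk_self_iff k).mp hR p) ((hasSk_self_iff k).mp hfib Q)

theorem hasSk_of_flat_of_fibres (k : ℕ) (hR : LocCoh.HasSk k R R)
    (hfib : ∀ (p : Ideal R) [p.IsPrime], LocCoh.HasSk k (p.Fiber S) (p.Fiber S)) :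
    LocCoh.HasSk k S S := by
  rw [hasSk_self_iff]
  intro q _
  obtain ⟨Q, hQ, h⟩ := exists_fibre_prime (R := R) q
  exact min_height_le_depth k hR _ (hfib _) Q q h

end Groth.Agent.CAlg1
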