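import Mathlib

open Polynomial

namespace Groth.Agent.CAlg1

universe u

variable {A : Type u} [CommRing A]

lemma sub_mem_of_step {M : Type*} [AddCommGroup M] [Module A M] {N : ℕ → Submodule A M}
    (hN : Antitone N) {f : ℕ → M} (h : ∀ n, f (n + 1) - f n ∈ N n) {m n : ℕ} (hmn : m ≤ n) :
    f n - f m ∈ N m := by
  induction n, hmn using Nat.le_induction with
  | base => simp
  | succ k hk ih =>
    have := (N m).add_mem (hN hk (h k)) ih
    simpa using this

lemma exists_limit_module (I : Ideal A) {M : Type*} [AddCommGroup M] [Module A M]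
    [IsPrecomplete I M] (f : ℕ → M)
    (h : ∀ n, f (n + 1) - f n ∈ (I ^ n • ⊤ : Submodule A M)) :
    ∃ L, ∀ n, L - f n ∈ (I ^ n • ⊤ : Submodule A M) := by
  have hN : Antitone fun n => (I ^ n • ⊤ : Submodule A M) :=
    fun a b hab => Submodule.pow_smul_top_le I M hab
  obtain ⟨L, hL⟩ := IsPrecomplete.prec ‹IsPrecomplete I M› (f := f) fun {m n} hmn =>
    (SModEq.sub_mem.mpr (sub_mem_of_step hN h hmn)).symm
  exact ⟨L, fun n => SModEq.sub_mem.mp (hL n).symm⟩

lemma smul_top_self (I : Ideal A) : (I • ⊤ : Submodule A A) = I := by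
  simp [Ideal.mul_top]

lemma exists_limit (I : Ideal A) [IsPrecomplete I A] (f : ℕ → A)
    (h : ∀ n, f (n + 1) - f n ∈ I ^ n) : ∃ L, ∀ n, L - f n ∈ I ^ n := by
  simpa only [smul_top_self] using
    exists_limit_module I f (fun n => by rw [smul_top_self]; exact h n)

lemma eq_zero_of_forall_mem (I : Ideal A) [IsHausdorff I A] {x : A} (h : ∀ n, x ∈ I ^ n) :
    x = 0 :=
  IsHausdorff.haus ‹_› x fun n => by
    rw [SModEq.zero, smul_top_self]; exact h n

theorem isNoetherianRing_of_isAdicComplete (I : Ideal A) (hI : I.FG) [IsAdicComplete I A]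
    [IsNoetherianRing (A ⧸ I)] : IsNoetherianRing A := by
  classical
  have : Algebra.FiniteType A (reesAlgebra I) :=
    ⟨(reesAlgebra I).fg_top.mpr (reesAlgebra.fg hI)⟩
  let K : Ideal (reesAlgebra I) := I.map (algebraMap A (reesAlgebra I))
  have : Algebra.FiniteType A (reesAlgebra I ⧸ K) :=
    .of_surjective (Ideal.Quotient.mkₐ A K) Ideal.Quotient.mk_surjective
  have : Algebra.FiniteType (A ⧸ I) (reesAlgebra I ⧸ K) :=
    Algebra.FiniteType.of_restrictScalars_finiteType A _ _
  have : IsNoetherianRing (reesAlgebra I ⧸ K) :=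
    Algebra.FiniteType.isNoetherianRing (A ⧸ I) (reesAlgebra I ⧸ K)
  have hcoeff : ∀ b ∈ K, ∀ d : ℕ, (b : A[X]).coeff d ∈ I ^ (d + 1) := by
    intro b hb d
    have hb' : b ∈ (I • ⊤ : Submodule A (reesAlgebra I)) := by
      rw [Ideal.smul_top_eq_map]; exact hb
    refine Submodule.smul_induction_on hb' ?_ ?_
    · intro r hr y _
      rw [SetLike.val_smul, coeff_smul, smul_eq_mul, pow_succ']
      exact Ideal.mul_mem_mul hr (y.2 d)
    · intro x y hx hy
      rw [Subalgebra.coe_add, coeff_add]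
      exact add_mem hx hy
  rw [isNoetherianRing_iff_ideal_fg]
  intro J
  let g : {p : ℕ × A // p.2 ∈ J ∧ p.2 ∈ I ^ p.1} → reesAlgebra I ⧸ K := fun p =>
    Ideal.Quotient.mk K ⟨monomial p.1.1 p.1.2, reesAlgebra.monomial_mem.mpr p.2.2⟩
  have hfg : (Submodule.span (reesAlgebra I ⧸ K) (Set.range g)).FG := IsNoetherian.noetherian _
  obtain ⟨t, ht, htspan⟩ := Submodule.fg_span_iff_fg_span_finset_subset _ |>.mp hfg
  choose p hp using fun i : t => ht i.2
  let x : t → A := fun i => (p i).1.2
  let dg : t → ℕ := fun i => (p i).1.1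
  let D := Finset.univ.sup dg
  refine ⟨Finset.univ.image x, le_antisymm ?_ ?_⟩
  · rw [Ideal.span_le]
    intro y hy
    obtain ⟨i, -, rfl⟩ := Finset.mem_image.mp (Finset.mem_coe.mp hy)
    exact (p i).2.1
  intro a ha
  have hstep : ∀ (n : ℕ) (y : A), y ∈ J → y ∈ I ^ n → ∃ c : t → A,
      (∀ i, c i ∈ I ^ (n - D)) ∧ y - ∑ i, c i * x i ∈ I ^ (n + 1) := by
    intro n y hyJ hyn
    have hgy : g ⟨(n, y), hyJ, hyn⟩ ∈ Submodule.span (reesAlgebra I ⧸ K) (t : Set _) := by
      rw [← htspan]; exact Submodule.subset_span ⟨_, rfl⟩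
    obtain ⟨b, hb⟩ := Submodule.mem_span_finset'.mp hgy
    choose β hβ using fun i => Ideal.Quotient.mk_surjective (I := K) (b i)
    have hmem : (⟨monomial n y, reesAlgebra.monomial_mem.mpr hyn⟩ : reesAlgebra I) -
        ∑ i, β i * ⟨monomial (dg i) (x i), reesAlgebra.monomial_mem.mpr (p i).2.2⟩ ∈ K := by
      rw [← Ideal.Quotient.eq_zero_iff_mem, map_sub, map_sum, sub_eq_zero]
      refine hb.symm.trans (Finset.sum_congr rfl fun i _ => ?_)
      rw [map_mul, hβ, smul_eq_mul]
      congr 1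
      exact (hp i).symm
    have h := hcoeff _ hmem n
    refine ⟨fun i => if dg i ≤ n then (β i : A[X]).coeff (n - dg i) else 0, ?_, ?_⟩
    · intro i
      dsimp only
      split
      · refine Ideal.pow_le_pow_right ?_ ((β i).2 _)
        have : dg i ≤ D := Finset.le_sup (Finset.mem_univ i)
        omega
      · exact zero_mem _
    · convert h using 1
      rw [AddSubgroupClass.coe_sub, coeff_sub, coeff_monomial_same,
        AddSubmonoidClass.coe_finsetSum, finsetSum_coeff]
      congr 1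
      refine Finset.sum_congr rfl fun i _ => ?_
      show _ = ((β i : A[X]) * monomial (dg i) (x i)).coeff n
      rw [← C_mul_X_pow_eq_monomial, ← mul_assoc, coeff_mul_X_pow']
      by_cases hle : dg i ≤ n
      · simp only [if_pos hle, coeff_mul_C]
      · simp only [if_neg hle, zero_mul]
  let S : ℕ → Set (t → A) := fun n => {c | a - ∑ i, c i * x i ∈ I ^ n}
  have hs0 : (fun _ => 0) ∈ S 0 := by
    show a - _ ∈ I ^ 0
    rw [pow_zero, Ideal.one_eq_top]
    trivial
  have hnext : ∀ n, ∀ c : S n, ∃ c' : S (n + 1), ∀ i, (c' : t → A) i - (c : t → A) i ∈ I ^ (n - D) := by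
    rintro n ⟨c, hc⟩
    obtain ⟨e, he, he'⟩ := hstep n (a - ∑ i, c i * x i)
      (J.sub_mem ha (J.sum_mem fun i _ => J.mul_mem_left _ (p i).2.1)) hc
    refine ⟨⟨c + e, ?_⟩, fun i => by simpa using he i⟩
    show a - ∑ i, (c i + e i) * x i ∈ I ^ (n + 1)
    convert he' using 1
    simp only [add_mul, Finset.sum_add_distrib]
    abel
  choose next hnext using hnext
  let c : (n : ℕ) → S n := fun n => Nat.rec ⟨_, hs0⟩ next n
  have hc : ∀ n i, (c (n + 1)).1 i - (c n).1 i ∈ I ^ (n - D) := fun n i => hnext n (c n) i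
  choose L hL using fun i : t => exists_limit I (fun n => (c (n + D)).1 i) fun n => by
    have := hc (n + D) i
    rw [Nat.add_sub_cancel] at this
    convert this using 2
    rw [show n + 1 + D = n + D + 1 by omega]
  have hz : a - ∑ i, L i * x i = 0 := eq_zero_of_forall_mem I fun n => by
    have h1 := Ideal.pow_le_pow_right (Nat.le_add_right n D) (c (n + D)).2
    have h2 : ∑ i, (L i - (c (n + D)).1 i) * x i ∈ I ^ n :=
      Ideal.sum_mem _ fun i _ => Ideal.mul_mem_right _ _ (hL i n)
    convert (I ^ n).sub_mem h1 h2 using 1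
    simp only [sub_mul, Finset.sum_sub_distrib]
    abel
  rw [sub_eq_zero] at hz
  rw [hz]
  exact Ideal.sum_mem _ fun i _ => Ideal.mul_mem_left _ _
    (Ideal.subset_span (Finset.mem_coe.mpr (Finset.mem_image_of_mem x (Finset.mem_univ i))))

theorem isNoetherianRing_adicCompletion {R : Type u} [CommRing R] (I : Ideal R) (hI : I.FG)
    [IsNoetherianRing (R ⧸ I)] : IsNoetherianRing (AdicCompletion I R) := by
  let J := I.map (algebraMap R (AdicCompletion I R))
  have : IsAdicComplete J (AdicCompletion I R) := AdicCompletion.isAdicComplete_self I hI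
  let e : (AdicCompletion I R ⧸ J) ≃+* (R ⧸ I) :=
    (Ideal.quotEquivOfEq (AdicCompletion.ker_evalOneₐ_eq_map I hI).symm).trans
      (RingHom.quotientKerEquivOfSurjective (AdicCompletion.evalOneₐ_surjective I))
  have : IsNoetherianRing (AdicCompletion I R ⧸ J) := isNoetherianRing_of_ringEquiv _ e.symm
  exact isNoetherianRing_of_isAdicComplete J (hI.map _)

theorem isAdicComplete_of_le {M : Type*} [AddCommGroup M] [Module A M] {I J : Ideal A} (hIJ : I ≤ J)
    (hI : I.FG) [IsAdicComplete J M] : IsAdicComplete I M where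
  haus' x hx := IsHausdorff.haus (inferInstanceAs (IsHausdorff J M)) x fun n =>
    (hx n).mono (Submodule.smul_mono_left (Ideal.pow_right_mono hIJ n))
  prec' f hf := by
    have hle : ∀ n, (I ^ n • ⊤ : Submodule A M) ≤ J ^ n • ⊤ := fun n =>
      Submodule.smul_mono_left (Ideal.pow_right_mono hIJ n)
    obtain ⟨L, hL⟩ := exists_limit_module J f fun n =>
      hle n (SModEq.sub_mem.mp (hf (Nat.le_add_right n 1)).symm)
    refine ⟨L, fun n => SModEq.sub_mem.mpr ?_⟩
    obtain ⟨k, a, ha⟩ := Submodule.fg_iff_exists_fin_generating_family.mp (hI.pow (n := n))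
    let φ : (Fin k → M) →ₗ[A] M :=
      ∑ j, (a j) • (LinearMap.proj j : (Fin k → M) →ₗ[A] M)
    have hφ : ∀ Y, φ Y = ∑ j, a j • Y j := fun Y => by simp [φ]
    have hspan : ∀ m y, y ∈ (I ^ (n + m) • ⊤ : Submodule A M) →
        ∃ Y : Fin k → M, (∀ j, Y j ∈ (I ^ m • ⊤ : Submodule A M)) ∧ φ Y = y := by
      intro m y hy
      rw [pow_add, mul_smul] at hy
      refine Submodule.smul_induction_on hy (fun r hr w hw => ?_) ?_
      · rw [← ha, Submodule.mem_span_range_iff_exists_fun] at hr
        obtain ⟨co, rfl⟩ := hr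
        refine ⟨fun j => co j • w, fun j => Submodule.smul_mem _ _ hw, ?_⟩
        rw [hφ, Finset.sum_smul]
        refine Finset.sum_congr rfl fun j _ => ?_
        rw [smul_smul, smul_eq_mul, mul_comm]
      · rintro u v ⟨U, hU, rfl⟩ ⟨V, hV, rfl⟩
        exact ⟨U + V, fun j => add_mem (hU j) (hV j), map_add _ _ _⟩
    choose Y hY hY' using fun m => hspan m (f (n + m + 1) - f (n + m))
      (SModEq.sub_mem.mp (hf (Nat.le_add_right _ 1)).symm)
    choose Z hZ using fun j => exists_limit_module J (fun m => ∑ i ∈ Finset.range m, Y i j)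
      fun m => by simpa [Finset.sum_range_succ] using hle m (hY m j)
    have hZmem : φ (fun j => Z j) ∈ (I ^ n • ⊤ : Submodule A M) := by
      rw [hφ]
      exact Submodule.sum_mem _ fun j _ => Submodule.smul_mem_smul
        (ha ▸ Submodule.subset_span (Set.mem_range_self j)) trivial
    suffices h : L = f n + φ (fun j => Z j) by
      rw [h, sub_add_cancel_left]; exact neg_mem hZmem
    rw [IsHausdorff.eq_iff_smodEq (I := J)]
    intro m
    rw [SModEq.sub_mem]
    have h1 : L - f (n + m) ∈ (J ^ m • ⊤ : Submodule A M) :=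
      Submodule.pow_smul_top_le J M (Nat.le_add_left m n) (hL _)
    have h2 : φ (fun j => ∑ i ∈ Finset.range m, Y i j) = f (n + m) - f n := by
      rw [show f (n + m) - f n = ∑ i ∈ Finset.range m, (f (n + i + 1) - f (n + i)) from
        (Finset.sum_range_sub (fun i => f (n + i)) m).symm]
      have : (fun j => ∑ i ∈ Finset.range m, Y i j) = ∑ i ∈ Finset.range m, Y i := by
        funext j; simp
      rw [this, map_sum]
      exact Finset.sum_congr rfl fun i _ => hY' i
    have h3 : φ (fun j => Z j) - φ (fun j => ∑ i ∈ Finset.range m, Y i j) ∈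
        (J ^ m • ⊤ : Submodule A M) := by
      rw [hφ, hφ, ← Finset.sum_sub_distrib]
      exact Submodule.sum_mem _ fun j _ => by
        rw [← smul_sub]; exact Submodule.smul_mem _ _ (hZ j m)
    rw [h2] at h3
    convert (J ^ m • ⊤ : Submodule A M).sub_mem h1 h3 using 1
    abel

theorem le_jacobson_of_quotient (I J : Ideal A) (hI : I ≤ (⊥ : Ideal A).jacobson)
    (hJ : J.map (Ideal.Quotient.mk I) ≤ (⊥ : Ideal (A ⧸ I)).jacobson) :
    J ≤ (⊥ : Ideal A).jacobson := fun x hx => by
  rw [Ideal.mem_jacobson_bot]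
  intro y
  have h := Ideal.mem_jacobson_bot.mp (hJ (Ideal.mem_map_of_mem _ hx)) (Ideal.Quotient.mk I y)
  obtain ⟨u, hu⟩ := Ideal.Quotient.mk_surjective (I := I) (↑h.unit⁻¹ : A ⧸ I)
  have h1 : (x * y + 1) * u - 1 ∈ I := by
    rw [← Ideal.Quotient.eq_zero_iff_mem, map_sub, map_mul, hu, map_add, map_mul, map_one,
      h.mul_val_inv, sub_self]
  have h2 := Ideal.mem_jacobson_bot.mp (hI h1) 1
  rw [mul_one, sub_add_cancel] at h2
  exact isUnit_of_mul_isUnit_left h2

theorem isAdicComplete_of_isAdicComplete_quotient [IsNoetherianRing A] (I J : Ideal A)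
    [IsAdicComplete I A] [IsAdicComplete (J.map (Ideal.Quotient.mk I)) (A ⧸ I)] :
    IsAdicComplete J A := by
  have hjac : J ≤ (⊥ : Ideal A).jacobson := le_jacobson_of_quotient I J
    (IsAdicComplete.le_jacobson_bot I) (IsAdicComplete.le_jacobson_bot _)
  refine { toIsHausdorff := IsHausdorff.of_le_jacobson J A hjac, toIsPrecomplete := ⟨?_⟩ }
  intro f hf
  have hf' : ∀ {m n}, m ≤ n → f n - f m ∈ J ^ m := fun {m n} h => by
    have := SModEq.sub_mem.mp (hf h).symm
    rwa [smul_top_self] at this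
  have hbase : ∀ (g : ℕ → A), (∀ m, g (m + 1) - g m ∈ J ^ m ⊔ I) →
      ∃ L, ∀ m, L - g m ∈ J ^ m ⊔ I := by
    intro g hg
    have key : ∀ m (z : A), Ideal.Quotient.mk I z ∈ (J.map (Ideal.Quotient.mk I)) ^ m ↔
        z ∈ J ^ m ⊔ I := fun m z => by
      rw [← Ideal.map_pow]
      exact Ideal.mem_quotient_iff_mem_sup
    obtain ⟨L, hL⟩ := exists_limit (J.map (Ideal.Quotient.mk I))
      (fun m => Ideal.Quotient.mk I (g m)) fun m => by rw [← map_sub, key]; exact hg m
    obtain ⟨L, rfl⟩ := Ideal.Quotient.mk_surjective L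
    exact ⟨L, fun m => by rw [← key, map_sub]; exact hL m⟩
  have hn : ∀ n, ∀ L : {L : A // ∀ m, f m - L ∈ J ^ m ⊔ I ^ n},
      ∃ L' : {L : A // ∀ m, f m - L ∈ J ^ m ⊔ I ^ (n + 1)}, L'.1 - L.1 ∈ I ^ n := by
    rintro n ⟨L, hL⟩
    obtain ⟨c, hc⟩ := Ideal.exists_pow_inf_eq_pow_smul J (I ^ n : Submodule A A)
    choose j hj i hi hij using fun m => Submodule.mem_sup.mp (hL m)
    obtain ⟨k, a, ha⟩ :=
      Submodule.fg_iff_exists_fin_generating_family.mp (IsNoetherian.noetherian (I ^ n))
    have hstep : ∀ m, ∃ e : Fin k → A, (∀ l, e l ∈ J ^ m) ∧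
        i (m + 1 + c) - i (m + c) = ∑ l, e l * a l := by
      intro m
      have h1 : i (m + 1 + c) - i (m + c) ∈ J ^ (m + c) := by
        have h := hf' (show m + c ≤ m + 1 + c by omega)
        have := (J ^ (m + c)).sub_mem h ((J ^ (m + c)).sub_mem
          (Ideal.pow_le_pow_right (show m + c ≤ m + 1 + c by omega) (hj (m + 1 + c))) (hj (m + c)))
        convert this using 1
        linear_combination hij (m + 1 + c) - hij (m + c)
      have h2 : i (m + 1 + c) - i (m + c) ∈ J ^ m • (I ^ n : Submodule A A) := by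
        have h := hc (m + c) (Nat.le_add_left c m)
        rw [Nat.add_sub_cancel, smul_top_self] at h
        have hm : i (m + 1 + c) - i (m + c) ∈ (J ^ (m + c) ⊓ I ^ n : Submodule A A) :=
          Submodule.mem_inf.mpr ⟨h1, (I ^ n).sub_mem (hi _) (hi _)⟩
        rw [h] at hm
        exact Submodule.smul_mono le_rfl inf_le_right hm
      refine Submodule.smul_induction_on h2 (fun r hr w hw => ?_) ?_
      · rw [← ha, Submodule.mem_span_range_iff_exists_fun] at hw
        obtain ⟨co, rfl⟩ := hw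
        exact ⟨fun l => r * co l, fun l => Ideal.mul_mem_right _ _ hr,
          by simp [Finset.mul_sum, mul_assoc]⟩
      · rintro u v ⟨U, hU, rfl⟩ ⟨V, hV, rfl⟩
        exact ⟨U + V, fun l => add_mem (hU l) (hV l),
          by simp [add_mul, Finset.sum_add_distrib]⟩
    choose e he he' using hstep
    choose S hS using fun l => hbase (fun m => ∑ q ∈ Finset.range m, e q l)
      fun m => by simpa [Finset.sum_range_succ] using Ideal.mem_sup_left (T := I) (he m l)
    refine ⟨⟨L + (i c + ∑ l, S l * a l), fun m => ?_⟩, ?_⟩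
    · have hsum : ∀ m, i (m + c) = i c + ∑ l, (∑ q ∈ Finset.range m, e q l) * a l := by
        intro m
        induction m with
        | zero => simp
        | succ m ih =>
          simp only [Finset.sum_range_succ, add_mul, Finset.sum_add_distrib]
          rw [← he' m, ← add_assoc, ← ih]
          ring_nf
      have h1 : ∑ l, (S l - ∑ q ∈ Finset.range m, e q l) * a l ∈ J ^ m ⊔ I ^ (n + 1) := by
        refine Ideal.sum_mem _ fun l _ => ?_
        have hal : a l ∈ I ^ n := ha ▸ Submodule.subset_span (Set.mem_range_self l)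
        obtain ⟨u, hu, v, hv, huv⟩ := Submodule.mem_sup.mp (hS l m)
        rw [← huv, add_mul, pow_succ']
        exact add_mem (Ideal.mem_sup_left (Ideal.mul_mem_right _ _ hu))
          (Ideal.mem_sup_right (Ideal.mul_mem_mul hv hal))
      have h2 : f m - f (m + c) ∈ J ^ m ⊔ I ^ (n + 1) := Ideal.mem_sup_left <| by
        rw [← neg_sub]; exact neg_mem (hf' (Nat.le_add_right m c))
      have h3 : j (m + c) ∈ J ^ m ⊔ I ^ (n + 1) :=
        Ideal.mem_sup_left (Ideal.pow_le_pow_right (Nat.le_add_right m c) (hj _))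
      convert sub_mem (add_mem h2 h3) h1 using 1
      simp only [sub_mul, Finset.sum_sub_distrib]
      linear_combination -hij (m + c) + hsum m
    · simp only [add_sub_cancel_left]
      exact add_mem (hi c) (Ideal.sum_mem _ fun l _ =>
        Ideal.mul_mem_left _ _ (ha ▸ Submodule.subset_span (Set.mem_range_self l)))
  choose next hnext using hn
  let L : (n : ℕ) → {L : A // ∀ m, f m - L ∈ J ^ m ⊔ I ^ n} := fun n =>
    Nat.rec ⟨0, fun m => by rw [pow_zero, Ideal.one_eq_top, sup_top_eq]; trivial⟩ next n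
  obtain ⟨L', hL'⟩ := exists_limit I (fun n => (L n).1) fun n => hnext n (L n)
  refine ⟨L', fun m => ?_⟩
  rw [SModEq.sub_mem, smul_top_self, ← Submodule.Quotient.mk_eq_zero]
  have : IsHausdorff I (A ⧸ J ^ m) :=
    IsHausdorff.of_le_jacobson I _ (IsAdicComplete.le_jacobson_bot I)
  refine IsHausdorff.haus ‹_› _ fun n => ?_
  rw [SModEq.zero]
  have h : f m - L' ∈ J ^ m ⊔ I ^ n := by
    have := sub_mem ((L n).2 m) (Ideal.mem_sup_right (S := J ^ m) (hL' n))
    simpa using this
  obtain ⟨u, hu, v, hv, huv⟩ := Submodule.mem_sup.mp h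
  rw [← huv, Submodule.Quotient.mk_add, (Submodule.Quotient.mk_eq_zero _).mpr hu, zero_add,
    ← mul_one v, ← smul_eq_mul, Submodule.Quotient.mk_smul]
  exact Submodule.smul_mem_smul hv trivial

end Groth.Agent.CAlg1
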