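import Mathlib
import Groth.Prelude.Def_CAlg
import Groth.Agent.CAlg1.SkFlat
import Groth.Agent.CAlg1.Regular

/-! Polynomial rings over Cohen-Macaulay rings are Cohen-Macaulay. -/

open IsLocalRing TensorProduct

universe u

namespace Groth.Agent.CAlg1

open Groth.Agent.EGA4Alg4

theorem cm_of_isRegularLocalRing (A : Type u) [CommRing A] [IsRegularLocalRing A] :
    LocCoh.IsCohenMacaulayLocalRing A := by
  refine { supportDim_eq_depth := le_antisymm ?_ depth_le_supportDim }
  obtain ⟨s, hcard, hspan⟩ := Submodule.FG.exists_span_finset_card_eq_spanFinrank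
    (maximalIdeal A).fg_of_isNoetherianRing
  have hl : Ideal.ofList s.toList = maximalIdeal A := by
    rw [Ideal.ofList, ← hspan]
    simp [Ideal.span]
  have hmem : ∀ r ∈ s.toList, r ∈ maximalIdeal A := fun r hr => hl ▸ Ideal.subset_span hr
  have h := length_le_depth (isWeaklyRegular_params A s.toList hl (by rw [Finset.length_toList, hcard])) hmem
  rw [Finset.length_toList, hcard] at h
  rw [Module.supportDim_self_eq_ringKrullDim, ← IsRegularLocalRing.spanFinrank_maximalIdeal]
  exact_mod_cast h

theorem cmLocal_iff {A : Type u} [CommRing A] [IsLocalRing A] [IsNoetherianRing A] :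
    LocCoh.IsCohenMacaulayLocalRing A ↔ ringKrullDim A ≤ ((LocCoh.depth A A : ℕ∞) : WithBot ℕ∞) :=
  ⟨fun h => by
    rw [← Module.supportDim_self_eq_ringKrullDim]
    exact h.supportDim_eq_depth.le,
  fun h => { supportDim_eq_depth :=
    le_antisymm (by rwa [Module.supportDim_self_eq_ringKrullDim]) depth_le_supportDim }⟩

theorem cm_of_ringEquiv {A B : Type u} [CommRing A] [CommRing B] (e : A ≃+* B)
    (h : LocCoh.IsCohenMacaulayLocalRing A) : LocCoh.IsCohenMacaulayLocalRing B := by
  have := h.toIsLocalRing
  have : IsNoetherianRing A := h.toIsNoetherian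
  have : Nontrivial B := e.toEquiv.symm.nontrivial
  have := IsLocalRing.of_surjective' e.toRingHom e.surjective
  have : IsNoetherianRing B := isNoetherianRing_of_ringEquiv A e
  rw [cmLocal_iff, ← ringKrullDim_eq_of_ringEquiv e, ← depth_eq_of_ringEquiv e]
  exact cmLocal_iff.mp h

theorem cmRing_of_ringEquiv {A B : Type u} [CommRing A] [CommRing B] (e : A ≃+* B)
    (h : LocCoh.IsCohenMacaulayRing A) : LocCoh.IsCohenMacaulayRing B := by
  have : IsNoetherianRing A := h.toIsNoetherian
  have : IsNoetherianRing B := isNoetherianRing_of_ringEquiv A e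
  refine ⟨fun p _ => ?_⟩
  refine cm_of_ringEquiv (IsLocalization.ringEquivOfRingEquiv
      (M := (p.comap e.toRingHom).primeCompl) (T := p.primeCompl) (Localization.AtPrime (p.comap e.toRingHom))
      (Localization.AtPrime p) e ?_) (h.isCohenMacaulayLocalRing_localization _)
  ext x
  simp only [Submonoid.mem_map, Ideal.mem_primeCompl_iff, Ideal.mem_comap]
  exact ⟨fun ⟨y, hy, hxy⟩ => hxy ▸ hy, fun hx => ⟨e.symm x, by simpa using hx, e.apply_symm_apply x⟩⟩

theorem cm_of_pid (F : Type u) [CommRing F] [IsDomain F] [IsPrincipalIdealRing F] :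
    LocCoh.IsCohenMacaulayRing F where
  isCohenMacaulayLocalRing_localization p _ := by
    have : IsDomain (Localization.AtPrime p) := IsLocalization.isDomain_localization p.primeCompl_le_nonZeroDivisors
    have : IsPrincipalIdealRing (Localization.AtPrime p) := inferInstance
    have : IsRegularLocalRing (Localization.AtPrime p) :=
      regular_of_isIntegrallyClosed_dim_le_one _ (Ring.krullDimLE_iff.mp inferInstance)
    exact cm_of_isRegularLocalRing _

theorem cmLocal_fibre {R S : Type u} [CommRing R] [CommRing S] [IsNoetherianRing R]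
    [IsNoetherianRing S] [Algebra R S] [Module.Flat R S] (p : Ideal R) [p.IsPrime]
    (Q : Ideal (p.Fiber S)) [Q.IsPrime] (q : Ideal S) [q.IsPrime]
    (hq : Q.comap Algebra.TensorProduct.includeRight = q)
    (hA : LocCoh.IsCohenMacaulayLocalRing (Localization.AtPrime p))
    (hF : LocCoh.IsCohenMacaulayLocalRing (Localization.AtPrime Q)) :
    LocCoh.IsCohenMacaulayLocalRing (Localization.AtPrime q) := by
  subst hq
  obtain ⟨h1, h2⟩ := depth_dim_fibre (S := S) p Q
  have : IsNoetherianRing (Localization.AtPrime p) := hA.toIsNoetherian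
  have : IsNoetherianRing (Localization.AtPrime Q) := hF.toIsNoetherian
  have : IsNoetherianRing (Localization.AtPrime (Q.comap Algebra.TensorProduct.includeRight)) :=
    IsLocalization.isNoetherianRing (Q.comap Algebra.TensorProduct.includeRight).primeCompl _ inferInstance
  rw [cmLocal_iff, h1, WithBot.coe_add]
  exact h2.trans (add_le_add (cmLocal_iff.mp hA) (cmLocal_iff.mp hF))

theorem cm_of_flat_of_fibres {R S : Type u} [CommRing R] [CommRing S] [LocCoh.IsCohenMacaulayRing R]
    [IsNoetherianRing S] [Algebra R S] [Module.Flat R S]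
    (hfib : ∀ (p : Ideal R) [p.IsPrime], LocCoh.IsCohenMacaulayRing (p.Fiber S)) :
    LocCoh.IsCohenMacaulayRing S where
  isCohenMacaulayLocalRing_localization q _ := by
    obtain ⟨Q, hQ, h⟩ := exists_fibre_prime (R := R) q
    exact cmLocal_fibre _ Q q h
      (LocCoh.IsCohenMacaulayRing.isCohenMacaulayLocalRing_localization _)
      ((hfib _).isCohenMacaulayLocalRing_localization Q)

theorem cm_polynomial {R : Type u} [CommRing R] [LocCoh.IsCohenMacaulayRing R] :
    LocCoh.IsCohenMacaulayRing (Polynomial R) := by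
  refine cm_of_flat_of_fibres (R := R) fun p _ => ?_
  exact cmRing_of_ringEquiv (polyEquivTensor R p.ResidueField).toRingEquiv (cm_of_pid _)

theorem cm_mvPolynomial {R : Type u} [CommRing R] [LocCoh.IsCohenMacaulayRing R] :
    ∀ n : ℕ, LocCoh.IsCohenMacaulayRing (MvPolynomial (Fin n) R)
  | 0 => cmRing_of_ringEquiv (MvPolynomial.isEmptyRingEquiv R (Fin 0)).symm inferInstance
  | n + 1 =>
    have := cm_mvPolynomial (R := R) n
    cmRing_of_ringEquiv (MvPolynomial.finSuccEquiv R n).symm.toRingEquiv cm_polynomial

end Groth.Agent.CAlg1
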