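import Mathlib
import Groth.Prelude.Def_CAlg
import Groth.Agent.EGA4Alg4.CMMod
import Groth.Agent.EGA4Alg4.CMLoc
import Groth.Agent.Ega11.SupportLoc

open IsLocalRing

universe u

namespace Groth.Agent.CAlg1

open Groth.Agent.EGA4Alg4

section

variable {R : Type u} [CommRing R]

/-- for adjacent primes the local quotient has dimension one -/
theorem supportDim_loc_quotient_covBy {p q : PrimeSpectrum R} (h : p ⋖ q) :
    Module.supportDim (Localization.AtPrime q.asIdeal) (LocalizedModule q.asIdeal.primeCompl (R ⧸ p.asIdeal)) = 1 := by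
  rw [Groth.Agent.Ega11.SupportLoc.supportDim_localizedModule_eq]
  have hsupp : ∀ x : PrimeSpectrum R, x ∈ Module.support R (R ⧸ p.asIdeal) ↔ p.asIdeal ≤ x.asIdeal := fun x => by
    rw [Module.mem_support_iff_of_finite, Ideal.annihilator_quotient]
  let S := Groth.Agent.Ega11.SupportLoc.suppBelow R (R ⧸ p.asIdeal) q.asIdeal
  let a : S := ⟨p, (hsupp p).mpr le_rfl, h.le⟩
  let b : S := ⟨q, (hsupp q).mpr h.le, le_rfl⟩
  have hmem : ∀ x : S, x = a ∨ x = b := fun x => by
    rcases h.eq_or_eq ((hsupp _).mp x.2.1 : p ≤ x.1) (x.2.2 : x.1 ≤ q) with hx | hx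
    · exact Or.inl (Subtype.ext hx)
    · exact Or.inr (Subtype.ext hx)
  refine le_antisymm ?_ ?_
  · refine iSup_le fun s => ?_
    by_contra hlt
    rw [not_le] at hlt
    have hlen : 2 ≤ s.length := by
      have : (1 : WithBot ℕ∞) < ((s.length : ℕ∞) : WithBot ℕ∞) := hlt
      rw [← WithBot.coe_one, WithBot.coe_lt_coe] at this
      have : (1 : ℕ) < s.length := by exact_mod_cast this
      omega
    have h1 : s ⟨0, by omega⟩ < s ⟨1, by omega⟩ := s.strictMono (by simp [Fin.lt_def])
    have h2 : s ⟨1, by omega⟩ < s ⟨2, by omega⟩ := s.strictMono (by simp [Fin.lt_def])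
    rcases hmem (s ⟨1, by omega⟩) with e | e <;> rw [e] at h1 h2
    · rcases hmem (s ⟨0, by omega⟩) with e' | e' <;> rw [e'] at h1
      · exact lt_irrefl _ h1
      · exact absurd (show q ≤ p from le_of_lt h1) (not_le_of_gt h.lt)
    · rcases hmem (s ⟨2, by omega⟩) with e' | e' <;> rw [e'] at h2
      · exact absurd (show q ≤ p from le_of_lt h2) (not_le_of_gt h.lt)
      · exact lt_irrefl _ h2
  · exact Order.LTSeries.length_le_krullDim (α := S)
      (((RelSeries.singleton _ a).snoc b (show a < b from h.lt)))

theorem supportDim_loc_of_univ {M : Type u} [AddCommGroup M] [Module R M]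
    (hsupp : Module.support R M = Set.univ) (p : PrimeSpectrum R) :
    Module.supportDim (Localization.AtPrime p.asIdeal) (LocalizedModule p.asIdeal.primeCompl M) =
      ((p.asIdeal.height : ℕ∞) : WithBot ℕ∞) := by
  have : Module.support (Localization.AtPrime p.asIdeal) (LocalizedModule p.asIdeal.primeCompl M) = Set.univ :=
    Set.eq_univ_of_forall fun x =>
      (Groth.Agent.Ega11.SupportLoc.mem_support_localizedModule_iff _ _).mpr (hsupp ▸ trivial)
  rw [Module.supportDim, this, Order.krullDim_eq_of_orderIso OrderIso.Set.univ,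
    ← ringKrullDim, IsLocalization.AtPrime.ringKrullDim_eq_height p.asIdeal]

theorem loc_dim_quotient {M : Type u} [AddCommGroup M] [Module R M] [Module.Finite R M]
    (hsupp : Module.support R M = Set.univ) (p q : Ideal R) [p.IsPrime] [q.IsPrime] (hpq : p ≤ q)
    (Q : Ideal (Localization.AtPrime q)) [Q.IsPrime] (hQ : Q.comap (algebraMap R _) = p) :
    Module.supportDim (Localization.AtPrime q)
        (LocalizedModule q.primeCompl M ⧸
          (Q • (⊤ : Submodule (Localization.AtPrime q) (LocalizedModule q.primeCompl M)))) =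
      Module.supportDim (Localization.AtPrime q) (LocalizedModule q.primeCompl (R ⧸ p)) := by
  suffices h : Module.support (Localization.AtPrime q)
      (LocalizedModule q.primeCompl M ⧸
        (Q • (⊤ : Submodule (Localization.AtPrime q) (LocalizedModule q.primeCompl M)))) =
      Module.support (Localization.AtPrime q) (LocalizedModule q.primeCompl (R ⧸ p)) by
    rw [Module.supportDim, Module.supportDim, h]
  ext x
  rw [Module.support_quotient, Groth.Agent.Ega11.SupportLoc.mem_support_localizedModule_iff,
    Set.mem_inter_iff, Groth.Agent.Ega11.SupportLoc.mem_support_localizedModule_iff, hsupp,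
    Module.mem_support_iff_of_finite (M := R ⧸ p), Ideal.annihilator_quotient,
    PrimeSpectrum.mem_zeroLocus, SetLike.coe_subset_coe]
  refine ⟨fun h => ?_, fun h => ⟨trivial, ?_⟩⟩
  · rw [← hQ]; exact Ideal.comap_mono h.2
  · rw [← IsLocalization.map_under q.primeCompl (Localization.AtPrime q) Q,
      ← IsLocalization.map_under q.primeCompl (Localization.AtPrime q) x.asIdeal]
    refine Ideal.map_mono ?_
    show Q.comap (algebraMap R _) ≤ _
    rw [hQ]; exact h

theorem height_succ_of_covBy [IsLocalRing R] [IsNoetherianRing R] {M : Type u} [AddCommGroup M]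
    [Module R M] [Module.Finite R M] (hM : LocCoh.IsCohenMacaulayModule R M)
    (hsupp : Module.support R M = Set.univ) {p q : PrimeSpectrum R} (h : p ⋖ q) :
    q.asIdeal.height = p.asIdeal.height + 1 := by
  have hcm := (localization_cm_and_dim hM q (hsupp ▸ trivial)).1
  let Rq := Localization.AtPrime q.asIdeal
  have : IsNoetherianRing Rq := IsLocalization.isNoetherianRing q.asIdeal.primeCompl _ inferInstance
  have hple : p.asIdeal ≤ q.asIdeal := h.le
  have hdisj : Disjoint (q.asIdeal.primeCompl : Set R) p.asIdeal :=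
    Set.disjoint_left.mpr fun a ha hap => ha (hple hap)
  let Q : PrimeSpectrum Rq := ⟨p.asIdeal.map (algebraMap R Rq),
    IsLocalization.isPrime_of_isPrime_disjoint q.asIdeal.primeCompl _ _ inferInstance hdisj⟩
  have hQ : Q.asIdeal.comap (algebraMap R Rq) = p.asIdeal :=
    IsLocalization.under_map_of_isPrime_disjoint q.asIdeal.primeCompl _ inferInstance hdisj
  have hsuppq : Module.support Rq (LocalizedModule q.asIdeal.primeCompl M) = Set.univ :=
    Set.eq_univ_of_forall fun x =>
      (Groth.Agent.Ega11.SupportLoc.mem_support_localizedModule_iff _ _).mpr (hsupp ▸ trivial)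
  have := Q.isPrime
  have h2 := (localization_cm_and_dim hcm Q (hsuppq ▸ trivial)).2
  have hquot : Module.supportDim Rq (LocalizedModule q.asIdeal.primeCompl M ⧸
      (Q.asIdeal • (⊤ : Submodule Rq (LocalizedModule q.asIdeal.primeCompl M)))) = 1 := by
    rw [← supportDim_loc_quotient_covBy h]
    exact loc_dim_quotient hsupp p.asIdeal q.asIdeal hple Q.asIdeal hQ
  rw [supportDim_loc_of_univ hsupp q, hquot, supportDim_loc_of_univ hsuppq Q,
    ← IsLocalization.height_under q.asIdeal.primeCompl Q.asIdeal, Ideal.under_def, hQ] at h2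
  rw [add_comm] at h2
  exact_mod_cast h2

theorem maximal_chain_length [IsLocalRing R] [IsNoetherianRing R] {M : Type u} [AddCommGroup M]
    [Module R M] [Module.Finite R M] (hM : LocCoh.IsCohenMacaulayModule R M)
    (hsupp : Module.support R M = Set.univ) (s : LTSeries (PrimeSpectrum R))
    (hhead : s.head.asIdeal ∈ minimalPrimes R) (hlast : s.last.asIdeal = maximalIdeal R)
    (hsat : ∀ i : Fin s.length, s (Fin.castSucc i) ⋖ s (Fin.succ i)) :
    (s.length : WithBot ℕ∞) = ringKrullDim R := by
  have key : ∀ i : ℕ, ∀ hi : i ≤ s.length, (s ⟨i, by omega⟩).asIdeal.height = i := by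
    intro i
    induction i with
    | zero =>
      intro _
      have := Ideal.height_eq_zero_iff.mpr hhead
      exact_mod_cast this
    | succ i ih =>
      intro hi
      have := height_succ_of_covBy hM hsupp (hsat ⟨i, by omega⟩)
      push_cast
      rw [← ih (by omega)]
      exact this
  have := key s.length le_rfl
  rw [show (⟨s.length, by omega⟩ : Fin (s.length + 1)) = Fin.last _ from rfl] at this
  rw [← maximalIdeal_height_eq_ringKrullDim, ← hlast]
  exact_mod_cast this.symm

end

end Groth.Agent.CAlg1
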