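import Mathlib
import Groth.Prelude.Def_Found
import Groth.Agent.CAlg1.CMPoly
import Groth.Agent.CAlg1.Chain

/-! Catenary rings: permanence and locality. -/

open IsLocalRing TensorProduct

universe u

namespace Groth.Agent.CAlg1

variable {A B : Type u} [CommRing A] [CommRing B]

theorem exists_series_lift (f : PrimeSpectrum B ↪o PrimeSpectrum A) (s : LTSeries (PrimeSpectrum A))
    (hs : ∀ i, s i ∈ Set.range f) :
    ∃ t : LTSeries (PrimeSpectrum B), ∃ h : t.length = s.length,
      ∀ i : Fin (t.length + 1), f (t i) = s (Fin.cast (by rw [h]) i) := by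
  choose g hg using hs
  exact ⟨LTSeries.mk s.length g (fun i j hij => f.lt_iff_lt.mp (by rw [hg, hg]; exact s.strictMono hij)),
    rfl, fun i => hg i⟩

/-- locality: intervals of primes may be tested in other rings -/
theorem isCatenary_of_local
    (h : ∀ q : PrimeSpectrum A, ∃ (C : Type u) (_ : CommRing C) (f : PrimeSpectrum C ↪o PrimeSpectrum A),
      CAlg.IsCatenary C ∧ (Set.range f).OrdConnected ∧ Set.Iic q ⊆ Set.range f) :
    CAlg.IsCatenary A := by
  constructor
  · intro p q hpq
    obtain ⟨C, _, f, ⟨hb, -⟩, -, hr⟩ := h q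
    obtain ⟨p', hp'⟩ := hr (Set.mem_Iic.mpr hpq)
    obtain ⟨q', hq'⟩ := hr (Set.mem_Iic.mpr le_rfl)
    obtain ⟨n, hn⟩ := hb p' q' (f.le_iff_le.mp (by rw [hp', hq']; exact hpq))
    refine ⟨n, fun s hh hl => ?_⟩
    obtain ⟨t, ht, htv⟩ := exists_series_lift f s
      (fun i => hr (Set.mem_Iic.mpr (hl ▸ s.monotone (Fin.le_last i))))
    rw [← ht]
    refine hn t (f.injective ?_) (f.injective ?_)
    · rw [hp', ← hh]; exact (htv 0).trans rfl
    · rw [hq', ← hl]
      exact (htv (Fin.last _)).trans (congrArg s (Fin.ext (by simp [ht])))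
  · intro s t hh hl hs ht
    obtain ⟨C, _, f, ⟨-, hc⟩, hconv, hr⟩ := h s.last
    obtain ⟨s', hs', hsv⟩ := exists_series_lift f s
      (fun i => hr (Set.mem_Iic.mpr (s.monotone (Fin.le_last i))))
    obtain ⟨t', ht', htv⟩ := exists_series_lift f t
      (fun i => hr (Set.mem_Iic.mpr (hl ▸ t.monotone (Fin.le_last i))))
    rw [← hs', ← ht']
    refine hc s' t' (f.injective ?_) (f.injective ?_) (fun i => ?_) (fun i => ?_)
    · refine (hsv 0).trans (Eq.trans ?_ (htv 0).symm)
      exact hh
    · refine (hsv (Fin.last _)).trans (Eq.trans ?_ (htv (Fin.last _)).symm)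
      rw [show Fin.cast (by rw [hs']) (Fin.last s'.length) = Fin.last s.length from Fin.ext (by simp [hs']),
        show Fin.cast (by rw [ht']) (Fin.last t'.length) = Fin.last t.length from Fin.ext (by simp [ht'])]
      exact hl
    · rw [← hconv.apply_covBy_apply_iff, hsv, hsv]
      exact hs (Fin.cast hs' i)
    · rw [← hconv.apply_covBy_apply_iff, htv, htv]
      exact ht (Fin.cast ht' i)

/-- transport along a convex order embedding of spectra -/
theorem isCatenary_of_embedding (f : PrimeSpectrum B ↪o PrimeSpectrum A)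
    (hf : (Set.range f).OrdConnected) (hA : CAlg.IsCatenary A) : CAlg.IsCatenary B := by
  constructor
  · intro p q hpq
    obtain ⟨n, hn⟩ := hA.1 (f p) (f q) (f.monotone hpq)
    exact ⟨n, fun s hh hl => hn (s.map f f.strictMono) (by rw [← hh]; rfl) (by rw [← hl]; rfl)⟩
  · intro s t hh hl hs ht
    exact hA.2 (s.map f f.strictMono) (t.map f f.strictMono) (congrArg f hh) (congrArg f hl)
      (fun i => (hs i).image f hf) (fun i => (ht i).image f hf)

theorem isCatenary_of_surjective (g : A →+* B) (hg : Function.Surjective g) (hA : CAlg.IsCatenary A) :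
    CAlg.IsCatenary B := by
  let f : PrimeSpectrum B ↪o PrimeSpectrum A := OrderEmbedding.ofMapLEIff (PrimeSpectrum.comap g) fun p q =>
    Ideal.comap_le_comap_iff_of_surjective g hg p.asIdeal q.asIdeal
  refine isCatenary_of_embedding f ⟨fun a ha b _ c hc => ?_⟩ hA
  change c ∈ Set.range (PrimeSpectrum.comap g)
  change a ∈ Set.range (PrimeSpectrum.comap g) at ha
  rw [range_comap_of_surjective _ g hg, PrimeSpectrum.mem_zeroLocus,
    SetLike.coe_subset_coe] at ha ⊢
  exact ha.trans hc.1

theorem isCatenary_of_ringEquiv (e : A ≃+* B) (hA : CAlg.IsCatenary A) : CAlg.IsCatenary B :=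
  isCatenary_of_surjective e.toRingHom e.surjective hA

/-- the spectrum of a localization inside the spectrum -/
noncomputable def locEmb [Algebra A B] (M : Submonoid A) [IsLocalization M B] :
    PrimeSpectrum B ↪o PrimeSpectrum A :=
  OrderEmbedding.ofMapLEIff (PrimeSpectrum.comap (algebraMap A B)) fun p q => by
    refine ⟨fun h => ?_, fun h => Ideal.comap_mono h⟩
    change p.asIdeal ≤ q.asIdeal
    rw [← IsLocalization.map_under M B p.asIdeal, ← IsLocalization.map_under M B q.asIdeal]
    exact Ideal.map_mono h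

theorem mem_range_locEmb [Algebra A B] (M : Submonoid A) [IsLocalization M B] (x : PrimeSpectrum A) :
    x ∈ Set.range (locEmb (B := B) M) ↔ Disjoint (M : Set A) x.asIdeal := by
  change x ∈ Set.range (PrimeSpectrum.comap (algebraMap A B)) ↔ _
  rw [PrimeSpectrum.localization_comap_range B M]
  rfl

theorem isCatenary_of_isLocalization [Algebra A B] (M : Submonoid A) [IsLocalization M B]
    (hA : CAlg.IsCatenary A) : CAlg.IsCatenary B := by
  refine isCatenary_of_embedding (locEmb (B := B) M) ⟨fun a _ b hb c hc => ?_⟩ hA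
  rw [mem_range_locEmb] at hb ⊢
  exact hb.mono_right hc.2

theorem isCatenary_of_localization
    (h : ∀ q : PrimeSpectrum A, ∃ M : Submonoid A, Disjoint (M : Set A) q.asIdeal ∧
      CAlg.IsCatenary (Localization M)) :
    CAlg.IsCatenary A := by
  refine isCatenary_of_local fun q => ?_
  obtain ⟨M, hM, hc⟩ := h q
  refine ⟨Localization M, inferInstance, locEmb M, hc, ⟨fun a _ b hb c hc => ?_⟩, fun x hx => ?_⟩
  · rw [mem_range_locEmb] at hb ⊢
    exact hb.mono_right hc.2
  · rw [mem_range_locEmb]
    exact hM.mono_right hx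

theorem isCatenary_iff_localization_maximal (R : Type u) [CommRing R] :
    CAlg.IsCatenary R ↔ ∀ (m : Ideal R) [m.IsMaximal], CAlg.IsCatenary (Localization.AtPrime m) := by
  refine ⟨fun h m _ => isCatenary_of_isLocalization m.primeCompl h, fun h => ?_⟩
  refine isCatenary_of_localization fun q => ?_
  obtain ⟨m, hm, hqm⟩ := Ideal.exists_le_maximal q.asIdeal q.isPrime.ne_top
  exact ⟨m.primeCompl, Set.disjoint_left.mpr fun a ha haq => ha (hqm haq), h m⟩

theorem isUniversallyCatenary_of_isLocalization [Algebra A B] (M : Submonoid A) [IsLocalization M B]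
    (hA : CAlg.IsUniversallyCatenary A) : CAlg.IsUniversallyCatenary B := by
  obtain ⟨hN, hc⟩ := hA
  refine ⟨IsLocalization.isNoetherianRing M B inferInstance, fun S _ _ hS => ?_⟩
  obtain ⟨s, hs⟩ := hS.1
  let : Algebra A S := ((algebraMap B S).comp (algebraMap A B)).toAlgebra
  have : IsScalarTower A B S := IsScalarTower.of_algebraMap_eq' rfl
  let S' : Subalgebra A S := Algebra.adjoin A (s : Set S)
  have hft : Algebra.FiniteType A S' := Subalgebra.fg_iff_finiteType S' |>.mp ⟨s, rfl⟩
  let N : Submonoid S' := Algebra.algebraMapSubmonoid S' M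
  have hN : IsLocalization N S := by
    refine ⟨?_, ?_, ?_⟩
    · rintro ⟨_, m, hm, rfl⟩
      show IsUnit (algebraMap A S m)
      rw [IsScalarTower.algebraMap_apply A B S]
      exact (IsLocalization.map_units B (⟨m, hm⟩ : M)).map _
    · intro z
      have hz : z ∈ Algebra.adjoin B (s : Set S) := hs ▸ trivial
      suffices h : ∃ m ∈ M, algebraMap A S m * z ∈ S' by
        obtain ⟨m, hm, hmz⟩ := h
        refine ⟨⟨⟨_, hmz⟩, ⟨algebraMap A S' m, m, hm, rfl⟩⟩, ?_⟩
        show z * algebraMap A S m = algebraMap A S m * z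
        rw [mul_comm]
      induction hz using Algebra.adjoin_induction with
      | mem x hx => exact ⟨1, M.one_mem, by rw [map_one, one_mul]; exact Algebra.subset_adjoin hx⟩
      | algebraMap b =>
        obtain ⟨⟨a, m⟩, hb⟩ := IsLocalization.surj M b
        refine ⟨m, m.2, ?_⟩
        rw [IsScalarTower.algebraMap_apply A B S, ← map_mul, mul_comm, hb,
          ← IsScalarTower.algebraMap_apply A B S]
        exact S'.algebraMap_mem a
      | add x y _ _ hx hy =>
        obtain ⟨m, hm, hx⟩ := hx; obtain ⟨n, hn, hy⟩ := hy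
        refine ⟨m * n, M.mul_mem hm hn, ?_⟩
        have e : algebraMap A S (m * n) * (x + y) =
            algebraMap A S n * (algebraMap A S m * x) + algebraMap A S m * (algebraMap A S n * y) := by
          rw [map_mul]; ring
        rw [e]
        exact add_mem (mul_mem (S'.algebraMap_mem _) hx) (mul_mem (S'.algebraMap_mem _) hy)
      | mul x y _ _ hx hy =>
        obtain ⟨m, hm, hx⟩ := hx; obtain ⟨n, hn, hy⟩ := hy
        refine ⟨m * n, M.mul_mem hm hn, ?_⟩
        have e : algebraMap A S (m * n) * (x * y) =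
            (algebraMap A S m * x) * (algebraMap A S n * y) := by
          rw [map_mul]; ring
        rw [e]
        exact mul_mem hx hy
    · intro x y h
      exact ⟨1, by rw [Subtype.ext h]⟩
  exact isCatenary_of_isLocalization N (hc S' hft)

theorem isUniversallyCatenary_iff_localization_maximal (R : Type u) [CommRing R] [IsNoetherianRing R] :
    CAlg.IsUniversallyCatenary R ↔
      ∀ (m : Ideal R) [m.IsMaximal], CAlg.IsUniversallyCatenary (Localization.AtPrime m) := by
  refine ⟨fun h m _ => isUniversallyCatenary_of_isLocalization m.primeCompl h,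
    fun h => ⟨inferInstance, fun S _ _ hS => ?_⟩⟩
  refine isCatenary_of_localization fun q => ?_
  obtain ⟨m, hm, hqm⟩ := Ideal.exists_le_maximal (q.asIdeal.under R) (Ideal.IsPrime.under R q.asIdeal).ne_top
  refine ⟨Algebra.algebraMapSubmonoid S m.primeCompl, ?_, ?_⟩
  · refine Set.disjoint_left.mpr ?_
    rintro _ ⟨a, ha, rfl⟩ haq
    exact ha (hqm haq)
  · let R' := Localization.AtPrime m
    have hc : CAlg.IsCatenary (R' ⊗[R] S) := (h m).2 _ inferInstance
    exact isCatenary_of_ringEquiv
      ((Algebra.TensorProduct.comm R R' S).toRingEquiv.trans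
        (Localization.tensorLeftAlgEquiv m.primeCompl S).toRingEquiv) hc

theorem height_succ_of_covBy_cm [LocCoh.IsCohenMacaulayRing A] {p q : PrimeSpectrum A} (h : p ⋖ q) :
    q.asIdeal.height = p.asIdeal.height + 1 := by
  have hcm := LocCoh.IsCohenMacaulayRing.isCohenMacaulayLocalRing_localization (R := A) q.asIdeal
  let Aq := Localization.AtPrime q.asIdeal
  have : IsNoetherianRing Aq := IsLocalization.isNoetherianRing q.asIdeal.primeCompl _ inferInstance
  have hp : p ∈ Set.range (locEmb (B := Aq) q.asIdeal.primeCompl) :=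
    (mem_range_locEmb _ _).mpr (Set.disjoint_left.mpr fun a ha hap => ha (h.le hap))
  have hq : q ∈ Set.range (locEmb (B := Aq) q.asIdeal.primeCompl) :=
    (mem_range_locEmb _ _).mpr (Set.disjoint_left.mpr fun a ha haq => ha haq)
  obtain ⟨p', rfl⟩ := hp
  obtain ⟨q', hq'⟩ := hq
  have hconv : (Set.range (locEmb (B := Aq) q.asIdeal.primeCompl)).OrdConnected :=
    ⟨fun a _ b hb c hc => by rw [mem_range_locEmb] at hb ⊢; exact hb.mono_right hc.2⟩
  have h' : locEmb (B := Aq) q.asIdeal.primeCompl p' ⋖ locEmb (B := Aq) q.asIdeal.primeCompl q' := by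
    rw [hq']; exact h
  rw [hconv.apply_covBy_apply_iff] at h'
  have hq'' : q.asIdeal = q'.asIdeal.comap (algebraMap A Aq) := (congrArg PrimeSpectrum.asIdeal hq').symm
  have := height_succ_of_covBy (M := Aq) hcm.supportDim_eq_depth (Set.eq_univ_of_forall fun x => (Module.mem_support_iff_exists_annihilator).mpr ⟨1, fun r hr => by
      have hr1 : r * 1 = 0 := Submodule.mem_annihilator.mp hr 1 (Submodule.mem_span_singleton_self 1)
      rw [mul_one] at hr1
      rw [hr1]; exact zero_mem _⟩) h'
  have hh : q.asIdeal.height = q'.asIdeal.height :=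
    (congrArg Ideal.height hq'').trans (IsLocalization.height_under q.asIdeal.primeCompl q'.asIdeal)
  have hh' : ((locEmb (B := Aq) q.asIdeal.primeCompl) p').asIdeal.height = p'.asIdeal.height :=
    IsLocalization.height_under q.asIdeal.primeCompl p'.asIdeal
  rw [hh, hh']
  exact this

theorem isCatenary_of_cm [LocCoh.IsCohenMacaulayRing A] : CAlg.IsCatenary A := by
  constructor
  · intro p q hpq
    obtain ⟨n, hn⟩ := ENat.ne_top_iff_exists.mp (Ideal.height_ne_top (I := q.asIdeal) q.isPrime.ne_top)
    refine ⟨n, fun s hh hl => ?_⟩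
    have : (s.length : ℕ∞) ≤ q.asIdeal.height := by
      rw [PrimeSpectrum.height_eq_orderHeight]
      exact Order.length_le_height (hl ▸ le_rfl)
    rw [← hn] at this
    exact_mod_cast this
  · intro s t hh hl hs ht
    have key : ∀ s : LTSeries (PrimeSpectrum A),
        (∀ i : Fin s.length, s (Fin.castSucc i) ⋖ s (Fin.succ i)) →
        s.last.asIdeal.height = s.head.asIdeal.height + s.length := by
      intro s hs
      suffices ∀ i (hi : i ≤ s.length), (s ⟨i, by omega⟩).asIdeal.height = s.head.asIdeal.height + i from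
        this s.length le_rfl
      intro i
      induction i with
      | zero => intro _; simp [RelSeries.head]
      | succ i ih =>
        intro hi
        have := height_succ_of_covBy_cm (hs ⟨i, by omega⟩)
        push_cast
        rw [← add_assoc, ← ih (by omega)]
        exact this
    obtain ⟨a, ha⟩ := ENat.ne_top_iff_exists.mp (Ideal.height_ne_top (I := s.head.asIdeal) s.head.isPrime.ne_top)
    have h1 := key s hs
    have h2 := key t ht
    rw [hl, h2, ← hh, ← ha] at h1
    have : a + t.length = a + s.length := by exact_mod_cast h1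
    omega

theorem isUniversallyCatenary_of_cm (R : Type u) [CommRing R] [LocCoh.IsCohenMacaulayRing R] :
    CAlg.IsUniversallyCatenary R := by
  refine ⟨LocCoh.IsCohenMacaulayRing.toIsNoetherian, fun S _ _ hS => ?_⟩
  obtain ⟨n, f, hf⟩ := Algebra.FiniteType.iff_quotient_mvPolynomial''.mp hS
  have := cm_mvPolynomial (R := R) n
  exact isCatenary_of_surjective f.toRingHom hf isCatenary_of_cm

end Groth.Agent.CAlg1
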