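import Mathlib
import Groth.Prelude.Def_CAlg
import Groth.Agent.EGA4Alg4.CMMod
import Groth.Agent.EGA4Alg4.FibreDim
import Groth.Agent.FlatCrit65.Basic
import Groth.Agent.CAlg1.Regular
import Groth.Agent.CAlg1.CMPoly

/-! Miracle flatness. -/

open IsLocalRing TensorProduct

universe u

namespace Groth.Agent.CAlg1

open Groth.Agent.EGA4Alg4

theorem flat_of_quotient_singleton {A B : Type u} [CommRing A] [CommRing B] [IsLocalRing A] [IsLocalRing B]
    [IsNoetherianRing A] [IsNoetherianRing B] [Algebra A B] [IsLocalHom (algebraMap A B)]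
    {x : A} (hx : x ∈ maximalIdeal A) (hA : IsSMulRegular A x) (hB : IsSMulRegular B (algebraMap A B x))
    (h2 : Module.Flat (A ⧸ Ideal.span {x}) (B ⧸ (Ideal.span {x}).map (algebraMap A B))) :
    Module.Flat A B := by
  let I : Ideal A := Ideal.span {x}
  have hxB : IsSMulRegular B x := fun a b h => hB (show algebraMap A B x • a = algebraMap A B x • b by
    rw [algebraMap_smul, algebraMap_smul]; exact h)
  have h1 : Function.Injective (I.subtype.lTensor B) := by
    let e : A →ₗ[A] I := LinearMap.toSpanSingleton A I ⟨x, Ideal.mem_span_singleton_self x⟩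
    have he : Function.Surjective e := by
      rintro ⟨y, hy⟩
      obtain ⟨a, rfl⟩ := Ideal.mem_span_singleton'.mp hy
      exact ⟨a, Subtype.ext rfl⟩
    have hcomp : Function.Injective ((I.subtype.comp e).lTensor B) := by
      rw [injective_iff_map_eq_zero]
      intro t ht
      obtain ⟨b, rfl⟩ := (TensorProduct.rid A B).symm.surjective t
      have h0 : (TensorProduct.rid A B) ((I.subtype.comp e).lTensor B ((TensorProduct.rid A B).symm b)) = x • b := by
        simp [e]
      rw [ht, map_zero] at h0
      rw [hxB.right_eq_zero_of_smul h0.symm, map_zero]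
    intro s t hst
    obtain ⟨s', rfl⟩ := LinearMap.lTensor_surjective B he s
    obtain ⟨t', rfl⟩ := LinearMap.lTensor_surjective B he t
    rw [← LinearMap.lTensor_comp_apply, ← LinearMap.lTensor_comp_apply] at hst
    rw [hcomp hst]
  have hflat : Module.Flat (A ⧸ I) ((A ⧸ I) ⊗[A] B) := by
    let l : (A ⧸ I) ⊗[A] B ≃ₗ[A] B ⧸ (I.map (algebraMap A B)) :=
      (TensorProduct.quotTensorEquivQuotSMul B I).trans
        ((Submodule.quotEquivOfEq _ _ (by rw [← Ideal.smul_top_eq_map])).trans
          (Submodule.Quotient.restrictScalarsEquiv A (I.map (algebraMap A B))))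
    exact Module.Flat.of_linearEquiv (l.extendScalarsOfSurjective Ideal.Quotient.mk_surjective)
  refine Groth.Agent.FlatCrit65.flat_of_lexQuot_of_isLocalRing (S := B) (I := I) ?_
    (Groth.Agent.FlatCrit65.torTriv_of_injective h1 hflat).lexQuot
  exact span_singleton_ne_top hx

theorem miracle_flatness : ∀ (n : ℕ) (A B : Type u) [CommRing A] [CommRing B] [IsRegularLocalRing A]
    [LocCoh.IsCohenMacaulayLocalRing B] [Algebra A B] [IsLocalHom (algebraMap A B)],
    (maximalIdeal A).spanFinrank = n →
    ringKrullDim B = ringKrullDim A + ringKrullDim (B ⧸ (maximalIdeal A).map (algebraMap A B)) →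
    Module.Flat A B := by
  intro n
  induction n with
  | zero =>
    intro A B _ _ _ _ _ _ hn _
    have hbot := (Submodule.spanFinrank_eq_zero_iff_eq_bot (maximalIdeal A).fg_of_isNoetherianRing).mp hn
    let := (IsLocalRing.isField_iff_maximalIdeal_eq.mpr hbot).toField
    infer_instance
  | succ n ih =>
    intro A B _ _ _ _ _ _ hn hdim
    obtain ⟨x, hx, hx2⟩ : ∃ x ∈ maximalIdeal A, x ∉ maximalIdeal A ^ 2 := by
      by_contra hc
      push Not at hc
      have : maximalIdeal A = ⊥ := Submodule.eq_bot_of_le_smul_of_le_jacobson_bot (maximalIdeal A)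
        (maximalIdeal A) (maximalIdeal A).fg_of_isNoetherianRing
        (by rw [smul_eq_mul, ← pow_two]; exact hc) (maximalIdeal_le_jacobson _)
      rw [this] at hn
      simp at hn
    have := isDomain_regular A
    have hx0 : x ≠ 0 := fun h => hx2 (h ▸ zero_mem _)
    have hA : IsSMulRegular A x := fun a b h => mul_left_cancel₀ hx0 h
    have hxB : algebraMap A B x ∈ maximalIdeal B := map_mem_maximalIdeal hx
    have hregA' := (regular_quotient_singleton hx hx2).1
    have hn' : (maximalIdeal (A ⧸ Ideal.span ({x} : Set A))).spanFinrank = n := by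
      have := spanFinrank_quotient_succ hx hx2
      omega
    let J : Ideal B := (Ideal.span ({x} : Set A)).map (algebraMap A B)
    have hJ : J ≤ maximalIdeal B := by
      rw [Ideal.map_le_iff_le_comap, Ideal.span_le, Set.singleton_subset_iff]; exact hxB
    have : Nontrivial (B ⧸ J) := Ideal.Quotient.nontrivial_iff.mpr fun h =>
      (maximalIdeal.isMaximal B).ne_top (top_le_iff.mp (h ▸ hJ))
    have := IsLocalRing.of_surjective' (Ideal.Quotient.mk J) Ideal.Quotient.mk_surjective
    have : IsLocalHom (algebraMap (A ⧸ Ideal.span ({x} : Set A)) (B ⧸ J)) := by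
      refine ⟨fun a ha => ?_⟩
      obtain ⟨a, rfl⟩ := Ideal.Quotient.mk_surjective a
      have hloc : IsLocalHom (Ideal.Quotient.mk J) := IsLocalHom.of_surjective _ Ideal.Quotient.mk_surjective
      exact (isUnit_of_map_unit (algebraMap A B) a (isUnit_of_map_unit (Ideal.Quotient.mk J) _ ha)).map _
    -- the fibre is unchanged
    have hm : (maximalIdeal (A ⧸ Ideal.span ({x} : Set A))).map
        (algebraMap (A ⧸ Ideal.span ({x} : Set A)) (B ⧸ J)) =
        ((maximalIdeal A).map (algebraMap A B)).map (Ideal.Quotient.mk J) := by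
      rw [maximalIdeal_quotient, Ideal.map_map, Ideal.map_map]; rfl
    have hfib : ringKrullDim ((B ⧸ J) ⧸ (maximalIdeal (A ⧸ Ideal.span ({x} : Set A))).map
        (algebraMap (A ⧸ Ideal.span ({x} : Set A)) (B ⧸ J))) =
        ringKrullDim (B ⧸ (maximalIdeal A).map (algebraMap A B)) := by
      rw [hm]
      exact ringKrullDim_eq_of_ringEquiv ((DoubleQuot.quotQuotEquivQuotOfLE
        (Ideal.map_mono ((Ideal.span_singleton_le_iff_mem _).mpr hx))))
    have hle := ringKrullDim_le_add_fibre (A ⧸ Ideal.span ({x} : Set A)) (B ⧸ J)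
    rw [hfib] at hle
    have hdA : ringKrullDim (A ⧸ Ideal.span ({x} : Set A)) = (n : ℕ) := by
      rw [← IsRegularLocalRing.spanFinrank_maximalIdeal, hn']
    have hdA0 : ringKrullDim A = ((n + 1 : ℕ) : ℕ) := by
      rw [← IsRegularLocalRing.spanFinrank_maximalIdeal, hn]
    have hJe : Ideal.ofList [algebraMap A B x] = J := by
      rw [Ideal.ofList_singleton]
      show _ = Ideal.map _ _
      rw [Ideal.map_span, Set.image_singleton]
    have hsupp : Module.supportDim B (B ⧸ (Ideal.ofList [algebraMap A B x] • (⊤ : Submodule B B))) =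
        ringKrullDim (B ⧸ J) := by
      rw [hJe, Module.supportDim_eq_of_equiv (Submodule.quotEquivOfEq _ J (by rw [smul_eq_mul, Ideal.mul_top])),
        Module.supportDim_quotient_eq_ringKrullDim]
    have hup : Module.supportDim B B ≤ ringKrullDim (B ⧸ J) + 1 := by
      have := supportDim_le_quotient_add_length (A := B) (M := B) (xs := [algebraMap A B x])
        (List.forall_mem_singleton.mpr hxB)
      rw [hsupp] at this
      simpa using this
    rw [Module.supportDim_self_eq_ringKrullDim] at hup
    have : Nontrivial (B ⧸ (maximalIdeal A).map (algebraMap A B)) := Ideal.Quotient.nontrivial_iff.mpr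
      fun h => (maximalIdeal.isMaximal B).ne_top (top_le_iff.mp (h ▸
        Ideal.map_le_iff_le_comap.mpr fun a ha => map_mem_maximalIdeal ha))
    obtain ⟨a, ha⟩ := exists_supportDim_eq (A := B) (M := B ⧸ (maximalIdeal A).map (algebraMap A B))
    obtain ⟨b, hb⟩ := exists_supportDim_eq (A := B) (M := B ⧸ J)
    rw [Module.supportDim_quotient_eq_ringKrullDim] at ha hb
    rw [hdim, hdA0, ha, hb] at hup
    rw [hdA, ha, hb] at hle
    have k1 : n + 1 + a ≤ b + 1 := by exact_mod_cast hup
    have k2 : b ≤ n + a := by exact_mod_cast hle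
    have hdrop : Module.supportDim B (B ⧸ (Ideal.ofList [algebraMap A B x] • (⊤ : Submodule B B))) +
        ([algebraMap A B x].length : ℕ) = Module.supportDim B B := by
      rw [hsupp, Module.supportDim_self_eq_ringKrullDim, hdim, hdA0, ha, hb, List.length_singleton]
      exact_mod_cast (by omega : b + 1 = n + 1 + a)
    have hcm : LocCoh.IsCohenMacaulayModule B B := LocCoh.IsCohenMacaulayLocalRing.supportDim_eq_depth
    have hreg := isWeaklyRegular_of_supportDim hcm (List.forall_mem_singleton.mpr hxB) hdrop
    have hB : IsSMulRegular B (algebraMap A B x) := (RingTheory.Sequence.isWeaklyRegular_singleton_iff B _).mp hreg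
    have : LocCoh.IsCohenMacaulayLocalRing (B ⧸ J) := by
      have hq := isCohenMacaulayModule_quotient hcm hreg (List.forall_mem_singleton.mpr hxB)
      let e := Submodule.quotEquivOfEq (Ideal.ofList [algebraMap A B x] • (⊤ : Submodule B B)) J
        (by rw [hJe, smul_eq_mul, Ideal.mul_top])
      rw [LocCoh.IsCohenMacaulayModule, Module.supportDim_eq_of_equiv e, depth_eq_of_equiv e,
        Module.supportDim_quotient_eq_ringKrullDim, depth_quotient_self] at hq
      exact cmLocal_iff.mpr hq.le
    have := ih (A ⧸ Ideal.span ({x} : Set A)) (B ⧸ J) hn' (by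
      rw [hfib, hdA, ha, hb]
      exact_mod_cast (by omega : b = n + a))
    exact flat_of_quotient_singleton hx hA hB this

end Groth.Agent.CAlg1
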