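import Mathlib
import Groth.Prelude.Def_Found
import Groth.Agent.CAlg5.NFinite
import Groth.Agent.S4710

/-! Finite algebras over Nagata rings. -/

set_option autoImplicit false
set_option linter.style.haveILetI false
universe u

namespace Groth.Agent.CAlg1.Nag

/-- A finite domain over an N-2 domain is N-2. -/
theorem isN2_of_finite {A B : Type u} [CommRing A] [IsDomain A] [CommRing B] [IsDomain B] [Algebra A B]
    [Module.Finite A B] (hinj : Function.Injective (algebraMap A B)) (h : CAlg.IsN2 A) : CAlg.IsN2 B := by
  intro L _ _ _ _ hfin
  haveI := hfin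
  letI : Algebra A L := ((algebraMap B L).comp (algebraMap A B)).toAlgebra
  haveI : IsScalarTower A B L := IsScalarTower.of_algebraMap_eq' rfl
  haveI : FaithfulSMul A B := (faithfulSMul_iff_algebraMap_injective A B).mpr hinj
  letI : Algebra (FractionRing A) (FractionRing B) := FractionRing.liftAlgebra A (FractionRing B)
  letI : Algebra (FractionRing A) L :=
    ((algebraMap (FractionRing B) L).comp (algebraMap (FractionRing A) (FractionRing B))).toAlgebra
  haveI : IsScalarTower (FractionRing A) (FractionRing B) L := IsScalarTower.of_algebraMap_eq' rfl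
  haveI : IsScalarTower A (FractionRing A) L := IsScalarTower.of_algebraMap_eq fun a => by
    show algebraMap B L (algebraMap A B a) = algebraMap (FractionRing B) L
      (algebraMap (FractionRing A) (FractionRing B) (algebraMap A (FractionRing A) a))
    rw [← IsScalarTower.algebraMap_apply A (FractionRing A) (FractionRing B),
      IsScalarTower.algebraMap_apply A B (FractionRing B), ← IsScalarTower.algebraMap_apply B (FractionRing B) L]
  haveI : Algebra.IsAlgebraic A B := inferInstance
  haveI : IsLocalization (Algebra.algebraMapSubmonoid B (nonZeroDivisors A)) (FractionRing B) :=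
    inferInstance
  haveI : FiniteDimensional (FractionRing A) (FractionRing B) :=
    Module.Finite.of_isLocalization A B (nonZeroDivisors A)
  haveI : FiniteDimensional (FractionRing A) L := Module.Finite.trans (FractionRing B) L
  obtain ⟨T, h1, h2⟩ := (CAlg5.finite_integralClosure_iff A L).mp (h L inferInstance)
  refine (CAlg5.finite_integralClosure_iff B L).mpr ⟨T, fun t ht => (h1 t ht).tower_top, fun x hx => ?_⟩
  exact Submodule.span_le_restrictScalars A B (T : Set L) (h2 x (isIntegral_trans x hx))

theorem isNagata_of_finite {A B : Type u} [CommRing A] [CommRing B] [Algebra A B] [Module.Finite A B]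
    (h : CAlg.IsNagata A) : CAlg.IsNagata B := by
  haveI := h.1
  refine ⟨IsNoetherianRing.of_finite A B, fun Q _ => ?_⟩
  haveI : Module.Finite (A ⧸ Q.under A) (B ⧸ Q) := Module.Finite.of_restrictScalars_finite A _ _
  exact isN2_of_finite Ideal.algebraMap_quotient_injective (h.2 (Q.under A))

theorem isNagata_of_ringEquiv {A B : Type u} [CommRing A] [CommRing B] (e : A ≃+* B) (h : CAlg.IsNagata A) :
    CAlg.IsNagata B := by
  letI : Algebra A B := e.toRingHom.toAlgebra
  haveI : Module.Finite A B := Module.Finite.of_surjective (Algebra.linearMap A B) e.surjective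
  exact isNagata_of_finite h

theorem isNagata_quotient {A : Type u} [CommRing A] (I : Ideal A) (h : CAlg.IsNagata A) : CAlg.IsNagata (A ⧸ I) :=
  isNagata_of_finite (A := A) h

theorem isNagata_localization {A : Type u} [CommRing A] (h : CAlg.IsNagata A) (M : Submonoid A) (S : Type u)
    [CommRing S] [Algebra A S] [IsLocalization M S] : CAlg.IsNagata S :=
  isNagata_of_ringEquiv (IsLocalization.algEquiv M (Localization M) S).toRingEquiv (S4710.result A h M)

theorem isN2_of_isNagata {A : Type u} [CommRing A] [IsDomain A] (h : CAlg.IsNagata A) : CAlg.IsN2 A := by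
  haveI : IsDomain (A ⧸ (⊥ : Ideal A)) := Ideal.Quotient.isDomain _
  letI : Algebra (A ⧸ (⊥ : Ideal A)) A := (RingEquiv.quotientBot A).toRingHom.toAlgebra
  haveI : Module.Finite (A ⧸ (⊥ : Ideal A)) A :=
    Module.Finite.of_surjective (Algebra.linearMap (A ⧸ (⊥ : Ideal A)) A) (RingEquiv.quotientBot A).surjective
  exact isN2_of_finite (RingEquiv.quotientBot A).injective (h.2 ⊥)

end Groth.Agent.CAlg1.Nag
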