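import Mathlib
import Groth.Agent.CAlg1.FlatDepth
import Groth.Agent.S4722

/-! Associated primes of `N ⊗ M` for `N` flat over the base. -/

open TensorProduct

universe u

namespace Groth.Agent.CAlg1

variable {R : Type u} [CommRing R] [IsNoetherianRing R] {S : Type u} [CommRing S] [Algebra R S]
variable {N : Type u} [AddCommGroup N] [Module R N] [Module S N] [IsScalarTower R S N] [Module.Flat R N]

theorem exists_coprimary {M : Type u} [AddCommGroup M] [Module R M] [Module.Finite R M] (p : Ideal R) :
    ∃ K : Submodule R M, p ∉ associatedPrimes R K ∧ associatedPrimes R (M ⧸ K) ⊆ {p} := by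
  obtain ⟨K, hK, hmax⟩ := set_has_maximal_iff_noetherian.mpr (inferInstance : IsNoetherian R M)
    {K : Submodule R M | p ∉ associatedPrimes R K}
    ⟨⊥, by simp [associatedPrimes.eq_empty_of_subsingleton]⟩
  refine ⟨K, hK, fun q hq => ?_⟩
  by_contra hne
  rw [Set.mem_singleton_iff] at hne
  have hq' := hq.isPrime
  obtain ⟨g, hg⟩ := ((isAssociatedPrime_iff_exists_injective_linearMap (I := q) (M := M ⧸ K)).mp hq).2
  let K' : Submodule R M := (LinearMap.range g).comap K.mkQ
  have hlt : K < K' := by
    refine lt_of_le_of_ne (fun x hx => ?_) fun h => ?_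
    · show K.mkQ x ∈ LinearMap.range g
      rw [Submodule.mkQ_apply, (Submodule.Quotient.mk_eq_zero K).mpr hx]
      exact zero_mem _
    · obtain ⟨x, hx⟩ := Submodule.Quotient.mk_surjective K (g 1)
      have hxK : x ∈ K := h ▸ (show K.mkQ x ∈ LinearMap.range g from ⟨1, hx.symm⟩)
      rw [(Submodule.Quotient.mk_eq_zero K).mpr hxK] at hx
      have h1 : (1 : R ⧸ q) = 0 := hg (hx.symm.trans (map_zero g).symm)
      exact hq'.ne_top ((Ideal.eq_top_iff_one q).mpr (Ideal.Quotient.eq_zero_iff_mem.mp h1))
  refine hmax K' ?_ hlt
  show p ∉ associatedPrimes R K'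
  intro hp
  let π : K' →ₗ[R] LinearMap.range g := LinearMap.codRestrict _ (K.mkQ.comp K'.subtype) fun x => x.2
  have hex : Function.Exact (Submodule.inclusion hlt.le) π := by
    intro x
    refine ⟨fun h => ⟨⟨x.1, (Submodule.Quotient.mk_eq_zero K).mp (congrArg Subtype.val h)⟩, Subtype.ext rfl⟩, ?_⟩
    rintro ⟨y, rfl⟩
    exact Subtype.ext ((Submodule.Quotient.mk_eq_zero K).mpr y.2)
  rcases associatedPrimes.subset_union_of_exact (Submodule.inclusion_injective hlt.le) hex hp with h | h
  · exact hK h
  · rw [← LinearEquiv.AssociatedPrimes.eq (LinearEquiv.ofInjective g hg),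
      associatedPrimes.eq_singleton_of_isPrimary hq'.isPrimary, hq'.isRadical.radical] at h
    exact hne h.symm

theorem ass_tensor_single {M : Type u} [AddCommGroup M] [Module R M] [Module.Finite R M] (p : Ideal R)
    (hp : associatedPrimes R M = {p}) :
    associatedPrimes S (N ⊗[R] M) ⊆
      associatedPrimes S (N ⧸ p.map (algebraMap R S) • (⊤ : Submodule S N)) := by
  obtain ⟨m, F, hF, h0, hlast, hg⟩ := Groth.Agent.S4722.result R M p hp
  suffices key : ∀ i : Fin (m + 1), associatedPrimes S (N ⊗[R] F i) ⊆
      associatedPrimes S (N ⧸ p.map (algebraMap R S) • (⊤ : Submodule S N)) by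
    have := key 0
    rw [h0] at this
    refine Set.Subset.trans ?_ this
    exact associatedPrimes.subset_of_injective
      (f := AlgebraTensorModule.lTensor S N (Submodule.topEquiv (R := R) (M := M)).symm.toLinearMap)
      (LinearEquiv.lTensor N (Submodule.topEquiv (R := R) (M := M)).symm).injective
  intro i
  induction i using Fin.reverseInduction with
  | last =>
    have : Subsingleton (F (Fin.last m)) := by rw [hlast]; infer_instance
    have : Subsingleton (N ⊗[R] F (Fin.last m)) := inferInstance
    rw [associatedPrimes.eq_empty_of_subsingleton]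
    exact Set.empty_subset _
  | cast i ih =>
    obtain ⟨g, hg⟩ := hg i
    let inc : F i.succ →ₗ[R] F i.castSucc := Submodule.inclusion (hF i.castSucc_le_succ)
    let π : F i.castSucc →ₗ[R] R ⧸ p := g.comp (Submodule.mkQ _)
    have hex : Function.Exact inc π := by
      intro x
      show g (Submodule.Quotient.mk x) = 0 ↔ _
      rw [map_eq_zero_iff g hg, Submodule.Quotient.mk_eq_zero]
      exact ⟨fun h => ⟨⟨x.1, h⟩, Subtype.ext rfl⟩, by rintro ⟨y, rfl⟩; exact y.2⟩
    refine (associatedPrimes.subset_union_of_exact
      (f := AlgebraTensorModule.lTensor S N inc) (g := AlgebraTensorModule.lTensor S N π)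
      (Module.Flat.lTensor_preserves_injective_linearMap inc (Submodule.inclusion_injective _))
      (Module.Flat.lTensor_exact N hex)).trans (Set.union_subset ih ?_)
    rw [← LinearEquiv.AssociatedPrimes.eq (tensorQuotEquiv (S := S) (N := N) p)]

theorem ass_tensor_finite {M : Type u} [AddCommGroup M] [Module R M] [Module.Finite R M] :
    associatedPrimes S (N ⊗[R] M) ⊆
      ⋃ p ∈ associatedPrimes R M, associatedPrimes S (N ⧸ p.map (algebraMap R S) • (⊤ : Submodule S N)) := by
  classical
  choose Q hQ hQass using fun p : Ideal R => exists_coprimary (M := M) p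
  have hfin := associatedPrimes.finite R M
  let U := ⋃ p ∈ associatedPrimes R M, associatedPrimes S (N ⧸ p.map (algebraMap R S) • (⊤ : Submodule S N))
  have hstep : ∀ s : Finset (Ideal R), (∀ p ∈ s, p ∈ associatedPrimes R M) →
      associatedPrimes S (N ⊗[R] (M ⧸ s.inf Q)) ⊆ U := by
    intro s
    induction s using Finset.induction with
    | empty =>
      intro _
      rw [Finset.inf_empty]
      have : Subsingleton (M ⧸ (⊤ : Submodule R M)) := Submodule.Quotient.subsingleton_iff.mpr rfl
      have : Subsingleton (N ⊗[R] (M ⧸ (⊤ : Submodule R M))) := inferInstance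
      rw [associatedPrimes.eq_empty_of_subsingleton]
      exact Set.empty_subset _
    | insert p s _ ih =>
      intro h
      rw [Finset.inf_insert]
      let f : M ⧸ (Q p ⊓ s.inf Q) →ₗ[R] (M ⧸ Q p) × (M ⧸ s.inf Q) :=
        LinearMap.prod (Submodule.factor inf_le_left) (Submodule.factor inf_le_right)
      have hf : Function.Injective f := by
        rw [injective_iff_map_eq_zero]
        intro x hx
        obtain ⟨x, rfl⟩ := Submodule.Quotient.mk_surjective _ x
        have h1 : (Submodule.Quotient.mk x : M ⧸ Q p) = 0 := congrArg Prod.fst hx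
        have h2 : (Submodule.Quotient.mk x : M ⧸ s.inf Q) = 0 := congrArg Prod.snd hx
        rw [Submodule.Quotient.mk_eq_zero] at h1 h2 ⊢
        exact ⟨h1, h2⟩
      refine (associatedPrimes.subset_of_injective (f := AlgebraTensorModule.lTensor S N f)
        (Module.Flat.lTensor_preserves_injective_linearMap f hf)).trans ?_
      rw [LinearEquiv.AssociatedPrimes.eq (TensorProduct.prodRight R S N (M ⧸ Q p) (M ⧸ s.inf Q)),
        associatedPrimes.prod]
      refine Set.union_subset ?_ (ih fun q hq => h q (Finset.mem_insert_of_mem hq))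
      have hp := h p (Finset.mem_insert_self p s)
      rcases Set.subset_singleton_iff_eq.mp (hQass p) with he | he
      · have : Subsingleton (M ⧸ Q p) := by
          by_contra hc
          rw [not_subsingleton_iff_nontrivial] at hc
          exact (associatedPrimes.nonempty R (M ⧸ Q p)).ne_empty he
        have : Subsingleton (N ⊗[R] (M ⧸ Q p)) := inferInstance
        rw [associatedPrimes.eq_empty_of_subsingleton]
        exact Set.empty_subset _
      · exact (ass_tensor_single p he).trans
          (Set.subset_biUnion_of_mem (u := fun p : Ideal R =>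
            associatedPrimes S (N ⧸ p.map (algebraMap R S) • (⊤ : Submodule S N))) hp)
  have hbot : hfin.toFinset.inf Q = ⊥ := by
    by_contra hne
    have : Nontrivial (hfin.toFinset.inf Q : Submodule R M) := Submodule.nontrivial_iff_ne_bot.mpr hne
    obtain ⟨q, hq⟩ := associatedPrimes.nonempty R (hfin.toFinset.inf Q : Submodule R M)
    have hqM := associatedPrimes.subset_of_injective (Submodule.injective_subtype _) hq
    exact hQ q (associatedPrimes.subset_of_injective
      (Submodule.inclusion_injective (Finset.inf_le (hfin.mem_toFinset.mpr hqM))) hq)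
  have h := hstep hfin.toFinset fun p hp => hfin.mem_toFinset.mp hp
  rw [hbot] at h
  refine Set.Subset.trans ?_ h
  exact associatedPrimes.subset_of_injective
    (f := AlgebraTensorModule.lTensor S N (Submodule.quotEquivOfEqBot (⊥ : Submodule R M) rfl).symm.toLinearMap)
    (LinearEquiv.lTensor N (Submodule.quotEquivOfEqBot (⊥ : Submodule R M) rfl).symm).injective

theorem associatedPrimes_tensor_of_flat {M : Type u} [AddCommGroup M] [Module R M] :
    associatedPrimes S (N ⊗[R] M) =
      ⋃ p ∈ associatedPrimes R M, associatedPrimes S (N ⧸ p.map (algebraMap R S) • (⊤ : Submodule S N)) := by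
  classical
  refine Set.Subset.antisymm (fun P hP => ?_) (Set.iUnion₂_subset fun p hp => ?_)
  · obtain ⟨hPp, t, ht⟩ := hP
    obtain ⟨T, hT⟩ := TensorProduct.exists_finset t
    let M' : Submodule R M := Submodule.span R (T.image Prod.snd : Set M)
    have : Module.Finite R M' := Module.Finite.iff_fg.mpr (Submodule.fg_span (Finset.finite_toSet _))
    let t' : N ⊗[R] M' := ∑ i ∈ T.attach, i.1.1 ⊗ₜ ⟨i.1.2, Submodule.subset_span
      (Finset.mem_coe.mpr (Finset.mem_image_of_mem _ i.2))⟩
    have htt : AlgebraTensorModule.lTensor S N M'.subtype t' = t := by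
      rw [map_sum, hT, ← Finset.sum_attach T]
      exact Finset.sum_congr rfl fun i _ => rfl
    have hinj : Function.Injective (AlgebraTensorModule.lTensor S N M'.subtype) :=
      Module.Flat.lTensor_preserves_injective_linearMap _ M'.injective_subtype
    have hP' : P ∈ associatedPrimes S (N ⊗[R] M') := by
      refine ⟨hPp, t', ?_⟩
      rw [ht]
      congr 1
      ext r
      rw [Submodule.mem_colon_singleton, Submodule.mem_colon_singleton, Submodule.mem_bot,
        Submodule.mem_bot, ← htt, ← map_smul, map_eq_zero_iff _ hinj]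
    exact Set.biUnion_subset_biUnion_left
      (associatedPrimes.subset_of_injective M'.injective_subtype) (ass_tensor_finite hP')
  · obtain ⟨g, hg⟩ := ((isAssociatedPrime_iff_exists_injective_linearMap (I := p) (M := M)).mp hp).2
    rw [LinearEquiv.AssociatedPrimes.eq (tensorQuotEquiv (S := S) (N := N) p)]
    exact associatedPrimes.subset_of_injective (f := AlgebraTensorModule.lTensor S N g)
      (Module.Flat.lTensor_preserves_injective_linearMap g hg)

end Groth.Agent.CAlg1
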