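import Mathlib
import Groth.Prelude.Def_Found
import Groth.Agent.CAlg5.NFinite
import Groth.Agent.Cohen12.Completion
import Groth.Agent.EGA4H10.CompleteNagata

/-! An analytically unramified local domain is N-1. -/

set_option autoImplicit false
set_option linter.style.haveILetI false
universe u

open IsLocalRing

namespace Groth.Agent.CAlg1.Nag

/-- N-1 from a flat faithfully flat reduced Noetherian extension whose prime quotients are N-1. -/
theorem isN1_of_faithfullyFlat_reduced {R : Type u} [CommRing R] [IsDomain R] (A : Type u) [CommRing A]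
    [Algebra R A] [Module.FaithfullyFlat R A] [IsNoetherianRing A] [IsReduced A]
    (h : ∀ (P : Ideal A) [P.IsPrime], CAlg.IsN1 (A ⧸ P)) : CAlg.IsN1 R := by
  classical
  show Module.Finite R (integralClosure R (FractionRing R))
  let K := FractionRing R
  haveI hfin : Finite (minimalPrimes A) := (minimalPrimes.finite_of_isNoetherianRing A).to_subtype
  haveI hP : ∀ P : minimalPrimes A, (P : Ideal A).IsPrime := fun P => P.2.1.1
  have hu : ∀ (P : minimalPrimes A) (y : nonZeroDivisors R),
      IsUnit (algebraMap R (FractionRing (A ⧸ (P : Ideal A))) y) := by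
    intro P y
    rw [isUnit_iff_ne_zero, IsScalarTower.algebraMap_apply R (A ⧸ (P : Ideal A)) (FractionRing (A ⧸ (P : Ideal A))),
      Ne, map_eq_zero_iff _ (IsFractionRing.injective _ _), IsScalarTower.algebraMap_apply R A (A ⧸ (P : Ideal A)),
      Ideal.Quotient.algebraMap_eq, Ideal.Quotient.eq_zero_iff_mem]
    intro hy
    have hnzd : algebraMap R A y ∈ nonZeroDivisors A := by
      rw [mem_nonZeroDivisors_iff_right]
      intro z hz
      have hreg : IsSMulRegular A (y : R) :=
        (Module.Flat.isSMulRegular_of_nonZeroDivisors y.2)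
      exact hreg (by simp [Algebra.smul_def, mul_comm, hz])
    exact Set.disjoint_left.mp (Ideal.disjoint_nonZeroDivisors_of_mem_minimalPrimes P.2) hy hnzd
  let ψ : ∀ P : minimalPrimes A, K →ₐ[R] FractionRing (A ⧸ (P : Ideal A)) := fun P =>
    IsLocalization.liftAlgHom (M := nonZeroDivisors R) (f := Algebra.ofId R _) (hu P)
  let N : ∀ P : minimalPrimes A, Submodule A (FractionRing (A ⧸ (P : Ideal A))) := fun P =>
    (integralClosure (A ⧸ (P : Ideal A)) (FractionRing (A ⧸ (P : Ideal A)))).toSubmodule.restrictScalars A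
  haveI hN : ∀ P : minimalPrimes A, Module.Finite A (N P) := fun P => by
    have h1 : Module.Finite (A ⧸ (P : Ideal A))
        (integralClosure (A ⧸ (P : Ideal A)) (FractionRing (A ⧸ (P : Ideal A)))).toSubmodule := h P
    exact Module.Finite.iff_fg.mpr ((Module.Finite.iff_fg.mp h1).restrictScalars_of_surjective
      Ideal.Quotient.mk_surjective)
  let R' := integralClosure R K
  let Φ : R' → ∀ P : minimalPrimes A, N P := fun x P =>
    ⟨ψ P x, (x.2.map (ψ P)).tower_top⟩
  let M : Submodule A (∀ P : minimalPrimes A, N P) := Submodule.span A (Set.range Φ)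
  obtain ⟨s', hs', hspan⟩ := Submodule.fg_span_iff_fg_span_finset_subset (Set.range Φ) |>.mp (IsNoetherian.noetherian M)
  let w : s' → R' := fun y => (hs' y.2).choose
  have hw : ∀ y : s', Φ (w y) = y.1 := fun y => (hs' y.2).choose_spec
  let T : Finset R' := Finset.univ.image w
  refine ⟨⟨T, eq_top_iff.mpr fun x _ => ?_⟩⟩
  have hx : Φ x ∈ Submodule.span A (Φ '' (T : Set R')) := by
    have h1 : Φ x ∈ M := Submodule.subset_span ⟨x, rfl⟩
    change Φ x ∈ Submodule.span A (Set.range Φ) at h1
    rw [hspan] at h1
    refine Submodule.span_mono ?_ h1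
    intro y hy
    exact ⟨w ⟨y, hy⟩, Finset.mem_coe.mpr (Finset.mem_image_of_mem w (Finset.mem_univ _)), hw ⟨y, hy⟩⟩
  rw [Submodule.mem_span_image_finset_iff_exists_fun] at hx
  obtain ⟨α, hα⟩ := hx
  obtain ⟨d, hd⟩ := IsLocalization.exist_integer_multiples (nonZeroDivisors R) (insert x T) (fun t : R' => (t : K))
  choose a ha using hd
  have key : algebraMap R A (a x (Finset.mem_insert_self _ _)) =
      ∑ t : T, α t * algebraMap R A (a t.1 (Finset.mem_insert_of_mem t.2)) := by
    rw [← sub_eq_zero]
    have hnil : ∀ z : A, (∀ P : minimalPrimes A, z ∈ (P : Ideal A)) → z = 0 := fun z hz => by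
      have : z ∈ nilradical A := by
        rw [nilradical, ← Ideal.sInf_minimalPrimes, Ideal.mem_sInf]
        exact fun {P} hP' => hz ⟨P, hP'⟩
      simpa [nilradical_eq_zero] using this
    refine hnil _ fun P => ?_
    have hmap : ∀ r : R, algebraMap A (FractionRing (A ⧸ (P : Ideal A))) (algebraMap R A r) = ψ P (algebraMap R K r) :=
      fun r => by rw [AlgHom.commutes, ← IsScalarTower.algebraMap_apply]
    rw [← Ideal.Quotient.eq_zero_iff_mem, ← Ideal.Quotient.algebraMap_eq,
      ← map_eq_zero_iff _ (IsFractionRing.injective (A ⧸ (P : Ideal A)) (FractionRing (A ⧸ (P : Ideal A)))),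
      ← IsScalarTower.algebraMap_apply, map_sub, map_sum, sub_eq_zero]
    simp_rw [map_mul, hmap, ha, map_smul]
    have h1 := congrArg (fun f : ∀ P : minimalPrimes A, N P => (f P : FractionRing (A ⧸ (P : Ideal A)))) hα
    simp only [Finset.sum_apply, AddSubmonoidClass.coe_finsetSum, Pi.smul_apply, SetLike.val_smul] at h1
    rw [show ψ P (x : K) = ((Φ x P : N P) : FractionRing (A ⧸ (P : Ideal A))) from rfl, ← h1, Finset.smul_sum]
    refine Finset.sum_congr rfl fun t _ => ?_
    show (d : R) • (α t • ψ P ((t.1 : R') : K)) = algebraMap A _ (α t) * ((d : R) • ψ P ((t.1 : R') : K))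
    rw [smul_comm, Algebra.smul_def (α t)]
  have hmem : a x (Finset.mem_insert_self _ _) ∈
      Ideal.span (Set.range fun t : T => a t.1 (Finset.mem_insert_of_mem t.2)) := by
    rw [← Ideal.comap_map_eq_self_of_faithfullyFlat (B := A)
      (Ideal.span (Set.range fun t : T => a t.1 (Finset.mem_insert_of_mem t.2))), Ideal.mem_comap, key]
    exact sum_mem fun t _ => Ideal.mul_mem_left _ _ (Ideal.mem_map_of_mem _ (Ideal.subset_span ⟨t, rfl⟩))
  rw [Ideal.span, Submodule.mem_span_range_iff_exists_fun] at hmem
  obtain ⟨c, hc⟩ := hmem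
  have hxeq : x = ∑ t : T, c t • (t.1 : R') := by
    apply Subtype.ext
    have hd0 : algebraMap R K (d : R) ≠ 0 :=
      (map_ne_zero_iff _ (IsFractionRing.injective R K)).mpr (nonZeroDivisors.ne_zero d.2)
    refine mul_left_cancel₀ hd0 ?_
    rw [← Algebra.smul_def, ← Algebra.smul_def, ← ha x (Finset.mem_insert_self _ _), ← hc, map_sum,
      AddSubmonoidClass.coe_finsetSum, Finset.smul_sum]
    refine Finset.sum_congr rfl fun t _ => ?_
    rw [smul_eq_mul, map_mul, ha t.1 (Finset.mem_insert_of_mem t.2), SetLike.val_smul, smul_comm, Algebra.smul_def (c t)]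
  rw [hxeq]
  exact sum_mem fun t _ => Submodule.smul_mem _ _ (Submodule.subset_span t.2)

theorem faithfullyFlat_completion (R : Type u) [CommRing R] [IsLocalRing R] [IsNoetherianRing R] :
    Module.FaithfullyFlat R (AdicCompletion (maximalIdeal R) R) := by
  have : Module.Flat R (AdicCompletion (maximalIdeal R) R) := AdicCompletion.flat_of_isNoetherian _
  have : IsLocalHom (algebraMap R (AdicCompletion (maximalIdeal R) R)) :=
    ((IsLocalRing.local_hom_TFAE _).out 2 0 rfl rfl).mp AdicCompletion.maximalIdeal_eq_map.symm.le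
  exact Module.FaithfullyFlat.of_flat_of_isLocalHom

theorem isN2_isN1 {R : Type u} [CommRing R] [IsDomain R] (h : CAlg.IsN2 R) : CAlg.IsN1 R :=
  h (FractionRing R) inferInstance

theorem isN1_of_reduced_completion (R : Type u) [CommRing R] [IsDomain R] [IsLocalRing R]
    [IsNoetherianRing R] [IsReduced (AdicCompletion (maximalIdeal R) R)] : CAlg.IsN1 R := by
  haveI := faithfullyFlat_completion R
  haveI := Cohen12.isNoetherianRing_completion (A := R)
  haveI := Cohen12.isAdicComplete_completion (A := R)
  exact isN1_of_faithfullyFlat_reduced (AdicCompletion (maximalIdeal R) R) fun P _ =>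
    isN2_isN1 ((EGA4H10.isNagata_of_complete (AdicCompletion (maximalIdeal R) R)).2 P)

end Groth.Agent.CAlg1.Nag
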