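import Mathlib
import Groth.Agent.CAlg1.AssTensor
import Groth.Agent.CAlg1.NagataUnram
import Groth.Agent.EGA4H10.CplQuot

/-! Reducedness of a flat local algebra is tested on a hypersurface. -/

set_option autoImplicit false
set_option linter.style.haveILetI false
universe u

open IsLocalRing TensorProduct

namespace Groth.Agent.CAlg1.Nag

/-- If every nilpotent is divisible by a regular element of the maximal ideal, the ring is reduced. -/
theorem isReduced_of_nilpotent_dvd {A : Type*} [CommRing A] [IsLocalRing A] [IsNoetherianRing A] (π : A)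
    (hπm : π ∈ maximalIdeal A) (hπ : π ∈ nonZeroDivisors A) (h : ∀ w : A, IsNilpotent w → π ∣ w) :
    IsReduced A := by
  refine ⟨fun w hw => ?_⟩
  have key : ∀ n : ℕ, ∀ w : A, IsNilpotent w → w ∈ Ideal.span {π} ^ n := by
    intro n
    induction n with
    | zero => intro w _; simp
    | succ n ih =>
      intro w hw
      obtain ⟨v, rfl⟩ := h w hw
      have hv : IsNilpotent v := by
        obtain ⟨k, hk⟩ := hw
        refine ⟨k, (mem_nonZeroDivisors_iff_right.mp (pow_mem hπ k)) _ ?_⟩
        rw [← mul_pow, mul_comm, hk]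
      rw [pow_succ', Ideal.mem_span_singleton_mul]
      exact ⟨v, ih v hv, rfl⟩
  have hne : Ideal.span {π} ≠ ⊤ := fun h' =>
    (maximalIdeal.isMaximal A).ne_top (top_le_iff.mp (h' ▸ (Ideal.span_singleton_le_iff_mem _).mpr hπm))
  have h2 : w ∈ (⊥ : Ideal A) := by
    rw [← Ideal.iInf_pow_eq_bot_of_isLocalRing _ hne]
    exact Ideal.mem_iInf.mpr fun n => key n w hw
  exact (Submodule.mem_bot A).mp h2

theorem mem_nzd_of_flat {R A : Type*} [CommRing R] [CommRing A] [Algebra R A] [Module.Flat R A] {r : R}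
    (hr : r ∈ nonZeroDivisors R) : algebraMap R A r ∈ nonZeroDivisors A := by
  rw [mem_nonZeroDivisors_iff_right]
  intro z hz
  exact (Module.Flat.isSMulRegular_of_nonZeroDivisors (M := A) hr) (by simp [Algebra.smul_def, mul_comm, hz])

/-- `A_q` is reduced at a prime where the maximal ideal comes from a regular element. -/
theorem isReduced_localization_of_max_eq {R A : Type u} [CommRing R] [IsDomain R] [IsNoetherianRing R]
    [CommRing A] [IsNoetherianRing A] [Algebra R A] [Module.Flat R A] (p : Ideal R) [p.IsPrime]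
    (π : R) (hπ0 : π ≠ 0) (hπp : π ∈ p) (hpπ : ∀ a ∈ p, ∃ s ∉ p, s * a ∈ Ideal.span {π})
    [IsReduced (A ⧸ p.map (algebraMap R A))] (q : Ideal A) [q.IsPrime]
    (hq : q ∈ (p.map (algebraMap R A)).minimalPrimes) (hqp : q.comap (algebraMap R A) = p) :
    IsReduced (Localization.AtPrime q) := by
  let Aq := Localization.AtPrime q
  haveI : IsNoetherianRing Aq := IsLocalization.isNoetherianRing q.primeCompl _ inferInstance
  refine isReduced_of_nilpotent_dvd (algebraMap A Aq (algebraMap R A π)) ?_ ?_ fun w hw => ?_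
  · rw [IsLocalization.AtPrime.to_map_mem_maximal_iff Aq q]
    exact (hqp.ge hπp : π ∈ q.comap (algebraMap R A))
  · exact mem_nzd_of_flat (R := A) (A := Aq) (mem_nzd_of_flat (mem_nonZeroDivisors_of_ne_zero hπ0))
  · -- the maximal ideal is generated by `π`
    obtain ⟨a, s, rfl⟩ := IsLocalization.exists_mk'_eq q.primeCompl w
    have ha : a ∈ q := by
      have := nilradical_le_prime (maximalIdeal Aq) (mem_nilradical.mpr hw)
      rwa [IsLocalization.AtPrime.mk'_mem_maximal_iff Aq q a s] at this
    -- the prime is locally the extended ideal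
    obtain ⟨t, htq, hta⟩ : ∃ t ∉ q, t * a ∈ p.map (algebraMap R A) := by
      let B := A ⧸ p.map (algebraMap R A)
      let qb : Ideal B := q.map (Ideal.Quotient.mk _)
      haveI : qb.IsPrime := Ideal.map_isPrime_of_surjective Ideal.Quotient.mk_surjective
        (by rw [Ideal.mk_ker]; exact hq.1.2)
      have hmin : qb ∈ minimalPrimes B := by
        rw [minimalPrimes_eq_minimals] at *
        refine ⟨inferInstance, fun Q hQ hQle => ?_⟩
        have h1 : Q.comap (Ideal.Quotient.mk (p.map (algebraMap R A))) ≤ q := by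
          refine (Ideal.comap_mono hQle).trans ?_
          rw [Ideal.comap_map_of_surjective _ Ideal.Quotient.mk_surjective, ← RingHom.ker_eq_comap_bot,
            Ideal.mk_ker]
          exact sup_le le_rfl hq.1.2
        have h2 := hq.2 ⟨hQ.comap _, by
          intro z hz
          rw [Ideal.mem_comap, Ideal.Quotient.eq_zero_iff_mem.mpr hz]; exact Q.zero_mem⟩ h1
        rw [← Ideal.map_comap_of_surjective _ Ideal.Quotient.mk_surjective Q]
        exact Ideal.map_mono h2
      haveI : Ring.KrullDimLE 0 (Localization.AtPrime qb) :=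
        IsLocalization.AtPrime.ringKrullDim_eq_height qb (Localization.AtPrime qb) |> fun h =>
          Ring.krullDimLE_iff.mpr (by rw [h, Ideal.height_eq_zero_iff.mpr hmin]; rfl)
      have hz : algebraMap B (Localization.AtPrime qb) (Ideal.Quotient.mk _ a) = 0 := by
        have hmem : algebraMap B (Localization.AtPrime qb) (Ideal.Quotient.mk _ a) ∈ maximalIdeal _ := by
          rw [IsLocalization.AtPrime.to_map_mem_maximal_iff (Localization.AtPrime qb) qb]
          exact Ideal.mem_map_of_mem _ ha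
        rw [← Ring.KrullDimLE.nilradical_eq_maximalIdeal, mem_nilradical] at hmem
        exact hmem.eq_zero
      obtain ⟨⟨t', ht'⟩, htt⟩ := (IsLocalization.map_eq_zero_iff qb.primeCompl _ _).mp hz
      obtain ⟨t, rfl⟩ := Ideal.Quotient.mk_surjective t'
      refine ⟨t, fun h' => ht' (Ideal.mem_map_of_mem _ h'), ?_⟩
      rw [← Ideal.Quotient.eq_zero_iff_mem, map_mul]
      exact htt
    have hp : ∀ b ∈ p.map (algebraMap R A), algebraMap A Aq b ∈ Ideal.span {algebraMap A Aq (algebraMap R A π)} := by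
      intro b hb
      have hle : p.map (algebraMap R A) ≤ (Ideal.span {algebraMap A Aq (algebraMap R A π)}).comap (algebraMap A Aq) := by
        rw [Ideal.map_le_iff_le_comap]
        intro c hc
        obtain ⟨r, hr, hrc⟩ := hpπ c hc
        obtain ⟨d, hd⟩ := Ideal.mem_span_singleton'.mp hrc
        have hu : IsUnit (algebraMap A Aq (algebraMap R A r)) :=
          IsLocalization.map_units Aq (⟨algebraMap R A r, fun h' => hr (hqp.le h')⟩ : q.primeCompl)
        rw [Ideal.mem_comap, Ideal.mem_comap]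
        rw [← Ideal.unit_mul_mem_iff_mem _ hu, ← map_mul, ← map_mul, ← hd, map_mul, map_mul]
        exact Ideal.mem_span_singleton'.mpr ⟨_, rfl⟩
      exact hle hb
    have h3 := hp _ hta
    rw [map_mul, Ideal.unit_mul_mem_iff_mem _ (IsLocalization.map_units Aq (⟨t, htq⟩ : q.primeCompl))] at h3
    rw [← Ideal.mem_span_singleton, IsLocalization.mk'_eq_mul_mk'_one]
    exact Ideal.mul_mem_right _ _ h3

theorem ass_reduced_quotient {A : Type u} [CommRing A] (J : Ideal A) [IsReduced (A ⧸ J)]
    (q : Ideal A) (hq : q ∈ associatedPrimes A (A ⧸ J)) :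
    q ∈ J.minimalPrimes ∧ ∃ z : A ⧸ J, z ≠ 0 ∧ ∀ r ∈ q, r • z = 0 := by
  obtain ⟨hqP, ⟨z, hz⟩⟩ := hq
  have hqcolon : ∀ r ∈ q, r • z = 0 := fun r hr => by
    rw [hz] at hr
    obtain ⟨k, hk⟩ := hr
    rw [Submodule.mem_colon_singleton, Submodule.mem_bot] at hk
    refine IsReduced.eq_zero _ ⟨k + 1, ?_⟩
    rw [smul_pow, pow_succ z, pow_succ r, mul_smul, smul_comm (r ^ k) r, ← mul_smul_comm (r ^ k), hk, mul_zero,
      smul_zero]
  have hz0 : z ≠ 0 := fun h0 => hqP.ne_top (by
    rw [hz, h0, Ideal.eq_top_iff_one]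
    exact Ideal.le_radical (by simp [Submodule.mem_colon_singleton]))
  refine ⟨?_, z, hz0, hqcolon⟩
  obtain ⟨P, hP, hzP⟩ : ∃ P ∈ minimalPrimes (A ⧸ J), z ∉ P := by
    by_contra h
    push Not at h
    refine hz0 (IsReduced.eq_zero _ (mem_nilradical.mp ?_))
    rw [nilradical, ← Ideal.sInf_minimalPrimes, Ideal.mem_sInf]
    exact fun {P} hP => h P hP
  haveI := hP.1.1
  have hqle : q ≤ P.comap (Ideal.Quotient.mk J) := fun r hr => by
    have := hqcolon r hr
    rw [Algebra.smul_def, Ideal.Quotient.algebraMap_eq] at this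
    exact Ideal.mem_comap.mpr (((Ideal.IsPrime.mem_or_mem inferInstance (this ▸ P.zero_mem : Ideal.Quotient.mk J r * z ∈ P))).resolve_right hzP)
  have hJq : J ≤ q := fun r hr => by
    rw [hz]
    refine Ideal.le_radical ?_
    obtain ⟨c, rfl⟩ := Ideal.Quotient.mk_surjective z
    rw [Submodule.mem_colon_singleton, Submodule.mem_bot, Algebra.smul_def, Ideal.Quotient.algebraMap_eq,
      ← map_mul, Ideal.Quotient.eq_zero_iff_mem]
    exact Ideal.mul_mem_right _ _ hr
  have hPJ : P.comap (Ideal.Quotient.mk J) ∈ J.minimalPrimes := by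
    rw [Ideal.minimalPrimes_eq_comap]
    exact ⟨P, hP, rfl⟩
  rwa [le_antisymm hqle (hPJ.2 ⟨hqP, hJq⟩ hqle)]

theorem isReduced_of_hypersurface {R A : Type u} [CommRing R] [IsDomain R] [IsNoetherianRing R]
    [CommRing A] [IsLocalRing A] [IsNoetherianRing A] [Algebra R A] [Module.Flat R A]
    (x : R) (hx : x ≠ 0) (hxm : algebraMap R A x ∈ maximalIdeal A)
    (hp : ∀ p ∈ associatedPrimes R (R ⧸ Ideal.span {x}),
      (∃ π ∈ p, π ≠ 0 ∧ ∀ a ∈ p, ∃ s ∉ p, s * a ∈ Ideal.span {π}) ∧ IsReduced (A ⧸ p.map (algebraMap R A))) :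
    IsReduced A := by
  refine isReduced_of_nilpotent_dvd (algebraMap R A x) hxm
    (mem_nzd_of_flat (mem_nonZeroDivisors_of_ne_zero hx)) fun w hw => ?_
  by_contra hndvd
  let e := Algebra.TensorProduct.quotIdealMapEquivTensorQuot A (Ideal.span {x})
  have hw0 : e (Ideal.Quotient.mk _ w) ≠ 0 := by
    rw [map_ne_zero_iff _ e.injective, Ne, Ideal.Quotient.eq_zero_iff_mem, Ideal.map_span, Set.image_singleton,
      Ideal.mem_span_singleton]
    exact hndvd
  obtain ⟨q, hq, hle⟩ := exists_le_isAssociatedPrime_of_isNoetherianRing A _ hw0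
  have hq' : q ∈ associatedPrimes A (A ⊗[R] (R ⧸ Ideal.span {x})) := hq
  rw [associatedPrimes_tensor_of_flat] at hq'
  obtain ⟨p, hpass, hqa⟩ := Set.mem_iUnion₂.mp hq'
  haveI := hpass.isPrime
  obtain ⟨⟨π, hπp, hπ0, hpπ⟩, hred⟩ := hp p hpass
  haveI := hqa.isPrime
  haveI := hred
  rw [smul_eq_mul, Ideal.mul_top] at hqa
  obtain ⟨hqmin, z, hz0, hqz⟩ := ass_reduced_quotient _ q hqa
  have hqp : q.comap (algebraMap R A) = p := by
    refine le_antisymm (fun r hr => ?_) (Ideal.map_le_iff_le_comap.mp hqmin.1.2)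
    by_contra hrp
    have hinj : Function.Injective (LinearMap.lsmul R (R ⧸ p) r) := by
      rw [injective_iff_map_eq_zero]
      intro c hc
      obtain ⟨c, rfl⟩ := Ideal.Quotient.mk_surjective c
      rw [LinearMap.lsmul_apply, Algebra.smul_def, Ideal.Quotient.algebraMap_eq, ← map_mul,
        Ideal.Quotient.eq_zero_iff_mem] at hc
      exact Ideal.Quotient.eq_zero_iff_mem.mpr (((Ideal.IsPrime.mem_or_mem inferInstance hc)).resolve_left hrp)
    have hinj' : Function.Injective (LinearMap.lTensor A (LinearMap.lsmul R (R ⧸ p) r)) :=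
      Module.Flat.lTensor_preserves_injective_linearMap _ hinj
    let ep := Algebra.TensorProduct.quotIdealMapEquivTensorQuot A p
    refine hz0 (ep.injective ((hinj' ?_).trans (map_zero ep).symm))
    have hl : LinearMap.lTensor A (LinearMap.lsmul R (R ⧸ p) r) (ep z) = r • ep z := by
      induction ep z using TensorProduct.induction_on with
      | zero => simp
      | tmul a b => rw [LinearMap.lTensor_tmul, LinearMap.lsmul_apply, TensorProduct.tmul_smul]
      | add a b ha hb => rw [map_add, ha, hb, smul_add]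
    rw [hl, map_zero, ← algebraMap_smul A r (ep z), ← map_smul, hqz _ hr, map_zero]
  haveI := isReduced_localization_of_max_eq p π hπ0 hπp hpπ q hqmin hqp
  have hwq : algebraMap A (Localization.AtPrime q) w = 0 := IsReduced.eq_zero _ (hw.map _)
  obtain ⟨⟨t, ht⟩, htw⟩ := (IsLocalization.map_eq_zero_iff q.primeCompl _ _).mp hwq
  refine ht (hle ?_)
  rw [Submodule.mem_colon_singleton, Submodule.mem_bot, ← map_smul, Algebra.smul_def, Ideal.Quotient.algebraMap_eq,
    ← map_mul, show t * w = 0 from htw, map_zero, map_zero]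

end Groth.Agent.CAlg1.Nag
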