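import Mathlib
import Groth.Agent.CAlg1.NagataReduced

/-! Analytic unramifiedness from a hypersurface. -/

set_option autoImplicit false
set_option linter.style.haveILetI false
universe u

open IsLocalRing

namespace Groth.Agent.CAlg1.Nag

theorem exists_uniformizer {R : Type u} [CommRing R] [IsDomain R] [IsNoetherianRing R] (x : R) (hx : x ≠ 0)
    (p : Ideal R) [p.IsPrime] (hp : p ∈ (Ideal.span {x}).minimalPrimes)
    (hreg : IsRegularLocalRing (Localization.AtPrime p)) :
    ∃ π ∈ p, π ≠ 0 ∧ ∀ a ∈ p, ∃ s ∉ p, s * a ∈ Ideal.span {π} := by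
  let Rp := Localization.AtPrime p
  haveI : (Ideal.span {x}).IsPrincipal := ⟨⟨x, rfl⟩⟩
  have hxp : x ∈ p := hp.1.2 (Ideal.mem_span_singleton_self x)
  have hh : p.height ≤ 1 := Ideal.height_le_one_of_isPrincipal_of_mem_minimalPrimes _ _ hp
  have hrank : (maximalIdeal Rp).spanFinrank ≤ 1 := by
    have h1 : ((maximalIdeal Rp).spanFinrank : WithBot ℕ∞) ≤ 1 := by
      rw [hreg.spanFinrank_maximalIdeal, IsLocalization.AtPrime.ringKrullDim_eq_height p Rp]
      exact_mod_cast hh
    exact_mod_cast h1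
  obtain ⟨s, hs, hspan⟩ := Submodule.FG.exists_span_finset_card_eq_spanFinrank
    (IsNoetherian.noetherian (maximalIdeal Rp))
  obtain ⟨g, hg⟩ : ∃ g : Rp, maximalIdeal Rp = Ideal.span {g} := by
    rcases Finset.card_le_one_iff_subset_singleton.mp (hs ▸ hrank) with ⟨g, hg⟩
    refine ⟨g, le_antisymm ?_ ((Ideal.span_singleton_le_iff_mem _).mpr ?_)⟩
    · rw [← hspan]
      exact Submodule.span_mono (by exact_mod_cast hg)
    · rcases Finset.subset_singleton_iff.mp hg with h | h
      · exfalso
        have hx0 : algebraMap R Rp x ∈ maximalIdeal Rp := (IsLocalization.AtPrime.to_map_mem_maximal_iff Rp p x).mpr hxp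
        rw [← hspan, h, Finset.coe_empty, Submodule.span_empty, Submodule.mem_bot] at hx0
        exact hx (IsLocalization.injective Rp p.primeCompl_le_nonZeroDivisors (hx0.trans (map_zero _).symm))
      · rw [← hspan]; exact Submodule.subset_span (by simp [h])
  obtain ⟨π, s', rfl⟩ := IsLocalization.exists_mk'_eq p.primeCompl g
  have hπp : π ∈ p := (IsLocalization.AtPrime.mk'_mem_maximal_iff Rp p π s').mp (hg ▸ Ideal.mem_span_singleton_self _)
  have hπ0 : π ≠ 0 := by
    rintro rfl
    have hx0 : algebraMap R Rp x ∈ maximalIdeal Rp := (IsLocalization.AtPrime.to_map_mem_maximal_iff Rp p x).mpr hxp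
    rw [hg, IsLocalization.mk'_zero, Ideal.span_singleton_zero, Submodule.mem_bot] at hx0
    exact hx (IsLocalization.injective Rp p.primeCompl_le_nonZeroDivisors (hx0.trans (map_zero _).symm))
  refine ⟨π, hπp, hπ0, fun a ha => ?_⟩
  have ha' : algebraMap R Rp a ∈ Ideal.span {algebraMap R Rp π} := by
    have h1 : algebraMap R Rp a ∈ maximalIdeal Rp := (IsLocalization.AtPrime.to_map_mem_maximal_iff Rp p a).mpr ha
    rw [hg, Ideal.mem_span_singleton'] at h1
    obtain ⟨c, hc⟩ := h1
    rw [Ideal.mem_span_singleton']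
    exact ⟨c * IsLocalization.mk' _ 1 s', by rw [mul_assoc, mul_comm (IsLocalization.mk' _ 1 s'),
      ← IsLocalization.mk'_eq_mul_mk'_one, hc]⟩
  rw [← Set.image_singleton, ← Ideal.map_span, IsLocalization.algebraMap_mem_map_algebraMap_iff p.primeCompl] at ha'
  obtain ⟨s, hs, hsa⟩ := ha'
  exact ⟨s, hs, hsa⟩

theorem isReduced_cpl_quotient {R : Type u} [CommRing R] [IsLocalRing R] [IsNoetherianRing R] (p : Ideal R) [p.IsPrime]
    [IsReduced (AdicCompletion (maximalIdeal (R ⧸ p)) (R ⧸ p))] :
    IsReduced (AdicCompletion (maximalIdeal R) R ⧸ p.map (algebraMap R (AdicCompletion (maximalIdeal R) R))) := by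
  let e := (Ideal.quotEquivOfEq (by rw [Ideal.Quotient.algebraMap_eq, Ideal.mk_ker] :
    p.map (algebraMap R (AdicCompletion (maximalIdeal R) R)) = _)).trans
      (EGA4H10.cplQuotEquiv R (R ⧸ p) Ideal.Quotient.mk_surjective)
  exact isReduced_of_injective e.toRingHom e.injective

theorem map_maximalIdeal_quotient {R : Type u} [CommRing R] [IsLocalRing R] (p : Ideal R) [p.IsPrime] :
    (maximalIdeal R).map (Ideal.Quotient.mk p) = maximalIdeal (R ⧸ p) :=
  IsLocalRing.map_maximalIdeal_of_surjective _ Ideal.Quotient.mk_surjective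

theorem isReduced_cpl_of_hypersurface {R : Type u} [CommRing R] [IsDomain R] [IsLocalRing R]
    [IsNoetherianRing R] (x : R) (hx : x ≠ 0) (hxm : x ∈ maximalIdeal R)
    (hemb : ∀ p ∈ associatedPrimes R (R ⧸ Ideal.span {x}), p ∈ (Ideal.span {x}).minimalPrimes)
    (hreg : ∀ p ∈ associatedPrimes R (R ⧸ Ideal.span {x}), ∀ (_ : p.IsPrime),
      IsRegularLocalRing (Localization.AtPrime p) ∧
        IsReduced (AdicCompletion (maximalIdeal (R ⧸ p)) (R ⧸ p))) :
    IsReduced (AdicCompletion (maximalIdeal R) R) := by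
  haveI := faithfullyFlat_completion R
  haveI := Cohen12.isNoetherianRing_completion (A := R)
  refine isReduced_of_hypersurface (A := AdicCompletion (maximalIdeal R) R) x hx ?_ fun p hp => ?_
  · rw [AdicCompletion.maximalIdeal_eq_map]
    exact Ideal.mem_map_of_mem _ hxm
  · haveI := hp.isPrime
    obtain ⟨h1, h2⟩ := hreg p hp inferInstance
    haveI := h2
    exact ⟨exists_uniformizer x hx p (hemb p hp) h1, isReduced_cpl_quotient p⟩

theorem isReduced_cpl_of_hypersurface' {R : Type u} [CommRing R] [IsDomain R] [IsLocalRing R]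
    [IsNoetherianRing R] (x : R) (hx : x ≠ 0) (hxm : x ∈ maximalIdeal R)
    (hemb : ∀ p ∈ associatedPrimes R (R ⧸ Ideal.span {x}), p ∈ (Ideal.span {x}).minimalPrimes)
    (hreg : ∀ p ∈ associatedPrimes R (R ⧸ Ideal.span {x}), ∀ (_ : p.IsPrime),
      IsRegularLocalRing (Localization.AtPrime p) ∧
        IsReduced (AdicCompletion ((IsLocalRing.maximalIdeal R).map (Ideal.Quotient.mk p)) (R ⧸ p))) :
    IsReduced (AdicCompletion (maximalIdeal R) R) :=
  isReduced_cpl_of_hypersurface x hx hxm hemb fun p hp hp' => by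
    haveI := hp'
    rw [← map_maximalIdeal_quotient p]
    exact hreg p hp hp'

end Groth.Agent.CAlg1.Nag
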