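import Mathlib
import Groth.Agent.CAlg1.NagataBasic
import Groth.Agent.CAlg1.NagataHyp
import Groth.Agent.EGA4Alg4.IntegralDim

/-! A Nagata local domain is analytically unramified. -/

set_option autoImplicit false
set_option linter.style.haveILetI false
universe u

open IsLocalRing

namespace Groth.Agent.CAlg1.Nag

/-- In a normal Noetherian domain the associated primes of a principal ideal are locally principal. -/
theorem exists_uniformizer_of_normal {R : Type u} [CommRing R] [IsDomain R] [IsNoetherianRing R] [IsIntegrallyClosed R]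
    (x : R) (hx : x ≠ 0) (p : Ideal R) (hp : p ∈ associatedPrimes R (R ⧸ Ideal.span {x})) :
    ∃ π ∈ p, π ≠ 0 ∧ ∀ a ∈ p, ∃ s ∉ p, s * a ∈ Ideal.span {π} := by
  classical
  obtain ⟨hpP, g, hg⟩ := (isAssociatedPrime_iff_exists_injective_linearMap (I := p) (M := R ⧸ Ideal.span {x})).mp hp
  obtain ⟨y, hy⟩ := Ideal.Quotient.mk_surjective (g 1)
  have hcol : ∀ a : R, a ∈ p ↔ x ∣ a * y := fun a => by
    rw [← Ideal.Quotient.eq_zero_iff_mem, ← Ideal.mem_span_singleton, ← Ideal.Quotient.eq_zero_iff_mem, map_mul, hy,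
      ← map_eq_zero_iff g hg, show (Ideal.Quotient.mk p a) = a • (1 : R ⧸ p) by
        rw [Algebra.smul_def, mul_one, Ideal.Quotient.algebraMap_eq], map_smul, Algebra.smul_def,
      Ideal.Quotient.algebraMap_eq]
  choose b hb using fun a : p => (hcol a).mp a.2
  -- if every quotient stays in `p` then `y / x` is integral
  by_cases hall : ∀ a : p, b a ∈ p
  · exfalso
    let K := FractionRing R
    let N : Submodule R K := Submodule.map (Algebra.linearMap R K) p
    have hx0 : algebraMap R K x ≠ 0 := (map_ne_zero_iff _ (IsFractionRing.injective R K)).mpr hx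
    have hxp : x ∈ p := (hcol x).mpr (dvd_mul_right x y)
    have hint : IsIntegral R (algebraMap R K y / algebraMap R K x) := by
      refine isIntegral_of_smul_mem_submodule N ?_ ((IsNoetherian.noetherian p).map _) _ ?_
      · intro hN
        have : algebraMap R K x ∈ N := Submodule.mem_map_of_mem hxp
        rw [hN, Submodule.mem_bot] at this
        exact hx0 this
      · rintro _ ⟨a, ha, rfl⟩
        refine ⟨b ⟨a, ha⟩, hall _, ?_⟩
        show algebraMap R K (b ⟨a, ha⟩) = algebraMap R K y / algebraMap R K x * algebraMap R K a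
        rw [div_mul_eq_mul_div, eq_div_iff hx0, ← map_mul, ← map_mul]
        exact congrArg (algebraMap R K) (by rw [mul_comm, ← hb ⟨a, ha⟩, mul_comm a y])
    obtain ⟨c, hc⟩ := IsIntegrallyClosed.isIntegral_iff.mp hint
    rw [eq_div_iff hx0, ← map_mul] at hc
    have hyx : x ∣ 1 * y := by
      rw [one_mul, ← IsFractionRing.injective R K hc]
      exact dvd_mul_left x c
    exact hpP.ne_top ((Ideal.eq_top_iff_one p).mpr ((hcol 1).mpr hyx))
  · push Not at hall
    obtain ⟨⟨π, hπ⟩, hbπ⟩ := hall
    have hπ0 : π ≠ 0 := by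
      rintro rfl
      have h0 := hb ⟨0, hπ⟩
      rw [zero_mul] at h0
      exact hbπ (by rw [(mul_eq_zero.mp h0.symm).resolve_left hx]; exact p.zero_mem)
    refine ⟨π, hπ, hπ0, fun a ha => ⟨b ⟨π, hπ⟩, hbπ, Ideal.mem_span_singleton'.mpr ⟨b ⟨a, ha⟩, ?_⟩⟩⟩
    refine mul_left_cancel₀ hx ?_
    calc x * (b ⟨a, ha⟩ * π) = (x * b ⟨a, ha⟩) * π := by ring
      _ = (a * y) * π := by rw [← hb ⟨a, ha⟩]
      _ = (π * y) * a := by ring
      _ = x * b ⟨π, hπ⟩ * a := by rw [← hb ⟨π, hπ⟩]
      _ = x * (b ⟨π, hπ⟩ * a) := by ring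

/-- Elements of the local ring deep in every maximal ideal of a finite extension are deep in the ring. -/
theorem exists_pow_mem_of_maximals {R B : Type u} [CommRing R] [IsLocalRing R] [IsNoetherianRing R]
    [CommRing B] [Algebra R B] [Module.Finite R B] (hinj : Function.Injective (algebraMap R B)) (k : ℕ) :
    ∃ N : ℕ, ∀ a : R, (∀ n : Ideal B, n.IsMaximal → algebraMap R B a ∈ n ^ N) → a ∈ maximalIdeal R ^ k := by
  classical
  haveI : IsNoetherianRing B := IsNoetherianRing.of_finite R B
  haveI : Algebra.IsIntegral R B := Algebra.IsIntegral.of_finite R B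
  let I : Ideal B := (maximalIdeal R).map (algebraMap R B)
  have hfin : {n : Ideal B | n.IsMaximal}.Finite := by
    refine (Ideal.finite_minimalPrimes_of_isNoetherianRing B I).subset fun n hn => ?_
    haveI : n.IsMaximal := hn
    have hcm : n.comap (algebraMap R B) = maximalIdeal R :=
      eq_maximalIdeal (Ideal.isMaximal_comap_of_isIntegral_of_isMaximal n)
    refine ⟨⟨inferInstance, Ideal.map_le_iff_le_comap.mpr hcm.ge⟩, fun Q ⟨hQ, hQI⟩ hQn => ?_⟩
    haveI := hQ
    have hQm : Q.comap (algebraMap R B) = maximalIdeal R :=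
      le_antisymm (le_maximalIdeal (Ideal.IsPrime.ne_top inferInstance)) (Ideal.map_le_iff_le_comap.mp hQI)
    have : Q.IsMaximal := Ideal.isMaximal_of_isIntegral_of_isMaximal_comap Q (hQm ▸ maximalIdeal.isMaximal R)
    exact (this.eq_of_le (Ideal.IsMaximal.ne_top hn) hQn).ge
  let J : Ideal B := ∏ n ∈ hfin.toFinset, n
  have hJ : J ≤ I.radical := by
    rw [Ideal.radical_eq_sInf]
    refine le_sInf fun Q ⟨hQI, hQ⟩ => ?_
    haveI := hQ
    have hQm : Q.comap (algebraMap R B) = maximalIdeal R :=
      le_antisymm (le_maximalIdeal (Ideal.IsPrime.ne_top inferInstance)) (Ideal.map_le_iff_le_comap.mp hQI)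
    have : Q.IsMaximal := Ideal.isMaximal_of_isIntegral_of_isMaximal_comap Q (hQm ▸ maximalIdeal.isMaximal R)
    exact Ideal.le_of_dvd (Finset.dvd_prod_of_mem _ (hfin.mem_toFinset.mpr this))
  obtain ⟨c, hc⟩ := Ideal.exists_pow_le_of_le_radical_of_fg hJ (IsNoetherian.noetherian J)
  obtain ⟨k₀, hk₀⟩ := Ideal.exists_pow_inf_eq_pow_smul (maximalIdeal R) (LinearMap.range (Algebra.linearMap R B))
  refine ⟨c * (k + k₀), fun a ha => ?_⟩
  have h1 : algebraMap R B a ∈ J ^ (c * (k + k₀)) := by
    rw [← Finset.prod_pow, Ideal.prod_eq_iInf_of_pairwise_isCoprime]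
    · rw [Submodule.mem_iInf]
      intro n
      rw [Submodule.mem_iInf]
      exact fun hn => ha n (hfin.mem_toFinset.mp hn)
    · intro n hn n' hn' hne
      haveI : n.IsMaximal := hfin.mem_toFinset.mp hn
      haveI : n'.IsMaximal := hfin.mem_toFinset.mp hn'
      exact (Ideal.isCoprime_of_isMaximal hne).pow
  have h2 : algebraMap R B a ∈ ((maximalIdeal R) ^ (k + k₀) • ⊤ : Submodule R B) := by
    rw [Ideal.smul_top_eq_map, Submodule.restrictScalars_mem, Ideal.map_pow]
    rw [pow_mul] at h1
    exact Ideal.pow_right_mono hc _ h1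
  have h3 : algebraMap R B a ∈ (maximalIdeal R) ^ (k + k₀) • (⊤ : Submodule R B) ⊓ LinearMap.range (Algebra.linearMap R B) :=
    ⟨h2, a, rfl⟩
  rw [hk₀ (k + k₀) (Nat.le_add_left _ _), show k + k₀ - k₀ = k by omega] at h3
  have h4 : algebraMap R B a ∈ Submodule.map (Algebra.linearMap R B) (maximalIdeal R ^ k) := by
    refine SetLike.le_def.mp ?_ h3
    calc (maximalIdeal R) ^ k • ((maximalIdeal R) ^ k₀ • (⊤ : Submodule R B) ⊓ LinearMap.range (Algebra.linearMap R B))
        ≤ (maximalIdeal R) ^ k • LinearMap.range (Algebra.linearMap R B) := Submodule.smul_mono le_rfl inf_le_right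
      _ = Submodule.map (Algebra.linearMap R B) ((maximalIdeal R) ^ k • (⊤ : Submodule R R)) := by
          rw [Submodule.map_smul'', Submodule.map_top]
      _ = _ := by rw [smul_eq_mul, Ideal.mul_top]
  obtain ⟨a', ha', haa⟩ := h4
  exact hinj haa ▸ ha'

/-- Reducedness of completions descends along a finite injective extension. -/
theorem isReduced_cpl_of_finite {R B : Type u} [CommRing R] [IsLocalRing R] [IsNoetherianRing R]
    [CommRing B] [Algebra R B] [Module.Finite R B] (hinj : Function.Injective (algebraMap R B))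
    (h : ∀ (n : Ideal B) [n.IsMaximal],
      IsReduced (AdicCompletion (maximalIdeal (Localization.AtPrime n)) (Localization.AtPrime n))) :
    IsReduced (AdicCompletion (maximalIdeal R) R) := by
  haveI : IsNoetherianRing B := IsNoetherianRing.of_finite R B
  haveI : Algebra.IsIntegral R B := Algebra.IsIntegral.of_finite R B
  refine ⟨fun z hz => AdicCompletion.ext_evalₐ fun k => ?_⟩
  rw [map_zero]
  obtain ⟨N, hN⟩ := exists_pow_mem_of_maximals hinj k
  obtain ⟨a, ha⟩ : ∃ a : R, z - algebraMap R _ a ∈
      maximalIdeal (AdicCompletion (maximalIdeal R) R) ^ (N + k) :=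
    Cohen12.exists_sub_mem_pow R (N + k) z
  have hk : z - algebraMap R _ a ∈ maximalIdeal (AdicCompletion (maximalIdeal R) R) ^ k :=
    Ideal.pow_le_pow_right (Nat.le_add_left k N) ha
  suffices hak : a ∈ maximalIdeal R ^ k by
    rw [Cohen12.evalₐ_eq_zero_iff, ← sub_add_cancel z (algebraMap R _ a)]
    exact add_mem hk ((Cohen12.algebraMap_mem_pow_iff R k a).mpr hak)
  refine hN a fun n hn => ?_
  haveI := hn
  let T := Localization.AtPrime n
  haveI : IsNoetherianRing T := IsLocalization.isNoetherianRing n.primeCompl _ inferInstance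
  haveI := Cohen12.isAdicComplete_completion (A := T)
  haveI := Cohen12.isNoetherianRing_completion (A := T)
  let f : R →+* AdicCompletion (maximalIdeal T) T :=
    ((algebraMap T _).comp (algebraMap B T)).comp (algebraMap R B)
  have hf : (maximalIdeal R).map f ≤ maximalIdeal (AdicCompletion (maximalIdeal T) T) := by
    rw [Ideal.map_le_iff_le_comap]
    intro r hr
    rw [Ideal.mem_comap, AdicCompletion.maximalIdeal_eq_map]
    refine Ideal.mem_map_of_mem (algebraMap T (AdicCompletion (maximalIdeal T) T))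
      ((IsLocalization.AtPrime.to_map_mem_maximal_iff T n (algebraMap R B r)).mpr ?_)
    have hcm : n.comap (algebraMap R B) = maximalIdeal R :=
      eq_maximalIdeal (Ideal.isMaximal_comap_of_isIntegral_of_isMaximal n)
    exact (hcm.ge hr : r ∈ n.comap (algebraMap R B))
  obtain ⟨g, hg⟩ := Cohen12.exists_extension (A := R) f hf
  have hgz : g z = 0 := IsReduced.eq_zero _ (hz.map g)
  have hmem : f a ∈ maximalIdeal (AdicCompletion (maximalIdeal T) T) ^ N := by
    have hle : (maximalIdeal (AdicCompletion (maximalIdeal R) R)).map g ≤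
        maximalIdeal (AdicCompletion (maximalIdeal T) T) := by
      rw [AdicCompletion.maximalIdeal_eq_map, Ideal.map_map, Ideal.map_le_iff_le_comap]
      intro r hr
      rw [Ideal.mem_comap, RingHom.comp_apply, hg]
      exact hf (Ideal.mem_map_of_mem _ hr)
    have h1 : g (z - algebraMap R _ a) ∈ maximalIdeal (AdicCompletion (maximalIdeal T) T) ^ (N + k) := by
      refine Ideal.pow_right_mono hle _ ?_
      rw [← Ideal.map_pow]
      exact Ideal.mem_map_of_mem _ ha
    rw [map_sub, hgz, zero_sub, hg, neg_mem_iff] at h1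
    exact Ideal.pow_le_pow_right (Nat.le_add_right N k) h1
  have hT : algebraMap B T (algebraMap R B a) ∈ maximalIdeal T ^ N :=
    (Cohen12.algebraMap_mem_pow_iff T N _).mp hmem
  rw [← Localization.AtPrime.map_eq_maximalIdeal, ← Ideal.map_pow,
    IsLocalization.algebraMap_mem_map_algebraMap_iff n.primeCompl] at hT
  obtain ⟨s, hs, hsa⟩ := hT
  have htop : n ^ N ⊔ Ideal.span {s} = ⊤ := by
    refine Ideal.pow_sup_eq_top (hn.1.2 _ (lt_of_le_of_ne le_sup_left fun he => hs ?_))
    rw [he]
    exact Ideal.mem_sup_right (Ideal.mem_span_singleton_self s)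
  obtain ⟨u, hu, v, hv, huv⟩ := Submodule.mem_sup.mp (show (1 : B) ∈ n ^ N ⊔ Ideal.span {s} by rw [htop]; exact Submodule.mem_top)
  obtain ⟨d, rfl⟩ := Ideal.mem_span_singleton'.mp hv
  rw [← one_mul (algebraMap R B a), ← huv, add_mul, mul_assoc]
  exact add_mem (Ideal.mul_mem_right _ _ hu) (Ideal.mul_mem_left _ _ hsa)

theorem isReduced_cpl_of_field {R : Type u} [CommRing R] [IsDomain R] [IsLocalRing R] [IsNoetherianRing R]
    (h : maximalIdeal R = ⊥) : IsReduced (AdicCompletion (maximalIdeal R) R) := by
  refine ⟨fun z hz => AdicCompletion.ext_evalₐ fun k => ?_⟩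
  rw [map_zero]
  obtain ⟨a, ha⟩ := Cohen12.exists_sub_mem_pow R (k + 1) z
  have hbot : maximalIdeal (AdicCompletion (maximalIdeal R) R) = ⊥ := by
    rw [AdicCompletion.maximalIdeal_eq_map, h, Ideal.map_bot]
  rw [hbot, Ideal.bot_pow (Nat.succ_ne_zero k), Submodule.mem_bot, sub_eq_zero] at ha
  have ha0 : a = 0 := by
    obtain ⟨m, hm⟩ := hz
    rw [ha, ← map_pow] at hm
    have : a ^ m = 0 := by
      have h2 := (Cohen12.algebraMap_mem_pow_iff R 1 (a ^ m)).mp (by rw [hm]; exact zero_mem _)
      simpa [h] using h2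
    exact IsReduced.eq_zero a ⟨m, this⟩
  rw [ha, ha0, map_zero, map_zero]

theorem isReduced_cpl_of_isNagata (R : Type u) [CommRing R] [IsDomain R] [IsLocalRing R]
    (hR : CAlg.IsNagata R) : IsReduced (AdicCompletion (maximalIdeal R) R) := by
  suffices key : ∀ (d : ℕ) (S : Type u) [CommRing S] [IsDomain S] [IsLocalRing S], CAlg.IsNagata S →
      ringKrullDim S ≤ d → IsReduced (AdicCompletion (maximalIdeal S) S) by
    haveI := hR.1
    exact key (maximalIdeal R).spanFinrank R hR (ringKrullDim_le_spanFinrank_maximalIdeal R)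
  intro d
  induction d with
  | zero =>
    intro S _ _ _ hS hd
    haveI := hS.1
    refine isReduced_cpl_of_field ?_
    haveI : Ring.KrullDimLE 0 S := Ring.krullDimLE_iff.mpr hd
    exact IsLocalRing.isField_iff_maximalIdeal_eq.mp Ring.KrullDimLE.isField_of_isDomain
  | succ d ih =>
    intro S _ _ _ hS hd
    haveI := hS.1
    -- the normal case
    have normal : ∀ (T : Type u) [CommRing T] [IsDomain T] [IsLocalRing T] [IsIntegrallyClosed T],
        CAlg.IsNagata T → ringKrullDim T ≤ ((d + 1 : ℕ) : WithBot ℕ∞) →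
          IsReduced (AdicCompletion (maximalIdeal T) T) := by
      intro T _ _ _ _ hT hTd
      haveI := hT.1
      by_cases hm : maximalIdeal T = ⊥
      · exact isReduced_cpl_of_field hm
      obtain ⟨x, hxm, hx⟩ := Submodule.exists_mem_ne_zero_of_ne_bot hm
      haveI := faithfullyFlat_completion T
      haveI := Cohen12.isNoetherianRing_completion (A := T)
      refine isReduced_of_hypersurface (A := AdicCompletion (maximalIdeal T) T) x hx ?_ fun p hp => ?_
      · rw [AdicCompletion.maximalIdeal_eq_map]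
        exact Ideal.mem_map_of_mem _ hxm
      haveI := hp.isPrime
      refine ⟨exists_uniformizer_of_normal x hx p hp, ?_⟩
      obtain ⟨π, hπp, hπ0, -⟩ := exists_uniformizer_of_normal x hx p hp
      have hdim : ringKrullDim (T ⧸ p) ≤ (d : WithBot ℕ∞) := by
        have h1 : ringKrullDim (T ⧸ p) + 1 ≤ ringKrullDim T := by
          refine le_trans (add_le_add_left ?_ 1) (ringKrullDim_quotient_succ_le_of_nonZeroDivisor
            (mem_nonZeroDivisors_of_ne_zero hπ0))
          exact ringKrullDim_le_of_surjective (Ideal.Quotient.factor ((Ideal.span_singleton_le_iff_mem p).mpr hπp))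
            (Ideal.Quotient.factor_surjective _)
        have h2 := h1.trans hTd
        rw [Nat.cast_add, Nat.cast_one] at h2
        exact ENat.WithBot.lt_add_one_iff.mp (ENat.WithBot.add_one_le_natCast_iff.mp (by exact_mod_cast h2) : _ < ((d + 1 : ℕ) : WithBot ℕ∞))
      haveI := ih (T ⧸ p) (isNagata_quotient p hT) hdim
      exact isReduced_cpl_quotient p
    -- normalisation
    let B := integralClosure S (FractionRing S)
    haveI : Module.Finite S B := isN2_isN1 (isN2_of_isNagata hS)
    haveI : IsIntegrallyClosed B := integralClosure.isIntegrallyClosedOfFiniteExtension (FractionRing S)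
    have hinj : Function.Injective (algebraMap S B) := fun a b h =>
      IsFractionRing.injective S (FractionRing S) (congrArg Subtype.val h)
    have hB : CAlg.IsNagata B := isNagata_of_finite hS
    refine isReduced_cpl_of_finite hinj fun n _ => ?_
    have hdimB : ringKrullDim B ≤ ringKrullDim S := by
      haveI : Algebra.IsIntegral S B := Algebra.IsIntegral.of_finite S B
      exact EGA4Alg4.ringKrullDim_le_of_integral S B
    haveI : IsIntegrallyClosed (Localization.AtPrime n) :=
      isIntegrallyClosed_of_isLocalization _ n.primeCompl n.primeCompl_le_nonZeroDivisors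
    exact normal (Localization.AtPrime n) (isNagata_localization hB n.primeCompl _)
      ((IsLocalization.AtPrime.ringKrullDim_eq_height n (Localization.AtPrime n)).le.trans
        ((Ideal.height_le_ringKrullDim_of_ne_top (Ideal.IsPrime.ne_top inferInstance)).trans (hdimB.trans hd)))

end Groth.Agent.CAlg1.Nag
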