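import Mathlib
import Groth.Agent.CAlg1.NagataAU

/-! The local rings of `A[y]` at primes containing `y` are analytically unramified. -/

set_option autoImplicit false
set_option linter.unusedSectionVars false
set_option synthInstance.maxHeartbeats 200000
set_option maxHeartbeats 800000
set_option linter.style.haveILetI false
universe u

open IsLocalRing Polynomial

namespace Groth.Agent.CAlg1.Nag

variable {A : Type u} [CommRing A] [IsDomain A] [IsIntegrallyClosed A]
variable {K : Type u} [Field K] [Algebra A K] [IsFractionRing A K]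

theorem exists_mul_of_mul_aeval (y : K) : ∀ (n : ℕ) (g : A[X]), g.natDegree ≤ n → ∀ a : A,
    y * aeval y g = algebraMap A K a → ∃ c : A, algebraMap A K a = y * algebraMap A K c := by
  intro n
  induction n with
  | zero =>
    intro g hg a h
    rw [eq_C_of_natDegree_le_zero hg, aeval_C] at h
    exact ⟨_, h.symm⟩
  | succ n ih =>
    intro g hg a h
    by_cases hdeg : g.natDegree ≤ n
    · exact ih g hdeg a h
    have hdeg' : g.natDegree = n + 1 := by omega
    have hP : aeval y (X * g - C a) = 0 := by rw [map_sub, map_mul, aeval_X, aeval_C, h, sub_self]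
    have hlead : (X * g - C a).leadingCoeff = g.leadingCoeff := by
      rw [leadingCoeff_sub_of_degree_lt, mul_comm, leadingCoeff_mul_X]
      refine degree_C_le.trans_lt ?_
      have hg0 : g ≠ 0 := fun h0 => by rw [h0, natDegree_zero] at hdeg'; omega
      rw [degree_eq_natDegree (mul_ne_zero X_ne_zero hg0), natDegree_X_mul hg0]
      exact_mod_cast Nat.succ_pos _
    have hint : IsIntegral A (g.leadingCoeff • y) := by
      rw [← hlead]
      exact isIntegral_leadingCoeff_smul (X * g - C a) y hP
    obtain ⟨d, hd⟩ := IsIntegrallyClosed.isIntegral_iff.mp hint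
    refine ih (g.eraseLead + monomial n d) ?_ a ?_
    · exact (natDegree_add_le _ _).trans (max_le ((eraseLead_natDegree_le g).trans (by omega)) (natDegree_monomial_le d))
    · rw [← h]
      conv_rhs => rw [← eraseLead_add_C_mul_X_pow g, hdeg']
      rw [map_add, map_add, map_mul, aeval_monomial, aeval_C, map_pow, aeval_X, hd, Algebra.smul_def, pow_succ]
      ring

theorem exists_decomp (y : K) (z : Algebra.adjoin A ({y} : Set K)) :
    ∃ (a : A) (h : Algebra.adjoin A ({y} : Set K)),
      z = algebraMap A _ a + ⟨y, Algebra.self_mem_adjoin_singleton A y⟩ * h := by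
  obtain ⟨g, hg⟩ := Algebra.adjoin_mem_exists_aeval A y z.2
  refine ⟨g.coeff 0, ⟨aeval y g.divX, aeval_mem_adjoin_singleton A y⟩, Subtype.ext ?_⟩
  conv_lhs => rw [← hg, ← X_mul_divX_add g]
  rw [map_add, map_mul, aeval_X, aeval_C, add_comm]
  rfl

variable [IsNoetherianRing A]

theorem ass_data (y : K) (hy : y ≠ 0) (P : Ideal (Algebra.adjoin A ({y} : Set K))) [P.IsPrime]
    (t : Algebra.adjoin A ({y} : Set K))
    (hP : ∀ z, z ∈ P ↔ (⟨y, Algebra.self_mem_adjoin_singleton A y⟩ : Algebra.adjoin A ({y} : Set K)) ∣ z * t) :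
    (∃ π ∈ P, π ≠ 0 ∧ ∀ z ∈ P, ∃ s ∉ P, s * z ∈ Ideal.span {π}) ∧
      Function.Surjective ((Ideal.Quotient.mk P).comp (algebraMap A (Algebra.adjoin A ({y} : Set K)))) := by
  let T := Algebra.adjoin A ({y} : Set K)
  let Y : T := ⟨y, Algebra.self_mem_adjoin_singleton A y⟩
  have hYP : Y ∈ P := (hP Y).mpr (dvd_mul_right Y t)
  obtain ⟨t0, h0, ht⟩ := exists_decomp y t
  obtain ⟨u, v, hv, huv⟩ := IsFractionRing.div_surjective A y
  have hv0 : algebraMap A K v ≠ 0 :=
    (map_ne_zero_iff _ (IsFractionRing.injective A K)).mpr (nonZeroDivisors.ne_zero hv)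
  have hu0 : u ≠ 0 := by rintro rfl; rw [map_zero, zero_div] at huv; exact hy huv.symm
  let p := P.comap (algebraMap A T)
  have hmul : ∀ a : A, a ∈ p ↔ ∃ c : A, algebraMap A K (a * t0) = y * algebraMap A K c := by
    intro a
    show algebraMap A T a ∈ P ↔ _
    rw [hP, ht, mul_add, dvd_add_left ((dvd_mul_right Y h0).mul_left _)]
    constructor
    · rintro ⟨w, hw⟩
      obtain ⟨g, hg⟩ := Algebra.adjoin_mem_exists_aeval A y w.2
      refine exists_mul_of_mul_aeval y g.natDegree g le_rfl _ ?_
      rw [hg, map_mul]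
      exact (congrArg Subtype.val hw).symm
    · rintro ⟨c, hc⟩
      rw [map_mul] at hc
      exact ⟨algebraMap A T c, Subtype.ext hc⟩
  have hass : p ∈ associatedPrimes A (A ⧸ Ideal.span {u}) := by
    refine ⟨inferInstance, Ideal.Quotient.mk _ (t0 * v), ?_⟩
    have hcol : (⊥ : Submodule A (A ⧸ Ideal.span {u})).colon {Ideal.Quotient.mk (Ideal.span {u}) (t0 * v)} = p := by
      ext a
      rw [Submodule.mem_colon_singleton, Submodule.mem_bot, Algebra.smul_def, Ideal.Quotient.algebraMap_eq, ← map_mul,
        Ideal.Quotient.eq_zero_iff_mem, Ideal.mem_span_singleton', hmul]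
      refine exists_congr fun c => ?_
      rw [← huv, div_mul_eq_mul_div, eq_div_iff hv0, ← map_mul, ← map_mul, (IsFractionRing.injective A K).eq_iff,
        mul_comm u c, mul_assoc]
      exact eq_comm
    rw [hcol, (inferInstance : p.IsPrime).radical]
  obtain ⟨π, hπp, hπ0, hπ⟩ := exists_uniformizer_of_normal u hu0 p hass
  obtain ⟨c1, hc1⟩ := (hmul π).mp hπp
  have hc1p : c1 ∉ p := fun hc => by
    obtain ⟨s, hs, hsc⟩ := hπ c1 hc
    obtain ⟨e, he⟩ := Ideal.mem_span_singleton'.mp hsc
    refine hs ((hmul s).mpr ⟨e, ?_⟩)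
    refine mul_left_cancel₀ ((map_ne_zero_iff _ (IsFractionRing.injective A K)).mpr hπ0) ?_
    rw [map_mul] at hc1
    have he' : algebraMap A K e * algebraMap A K π = algebraMap A K s * algebraMap A K c1 := by
      rw [← map_mul, ← map_mul, he]
    rw [map_mul]
    linear_combination (algebraMap A K s) * hc1 - y * he'
  have hY : algebraMap A T c1 * Y = algebraMap A T π * algebraMap A T t0 := Subtype.ext (by
    rw [map_mul] at hc1
    show algebraMap A K c1 * y = algebraMap A K π * algebraMap A K t0
    rw [hc1, mul_comm])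
  refine ⟨⟨algebraMap A T π, hπp, fun h => hπ0 (IsFractionRing.injective A K
    ((congrArg Subtype.val h).trans (map_zero _).symm)), fun z hz => ?_⟩, fun w => ?_⟩
  · obtain ⟨a, h, rfl⟩ := exists_decomp y z
    have hap : a ∈ p := by
      show algebraMap A T a ∈ P
      exact (Ideal.add_mem_iff_left P (P.mul_mem_right h hYP)).mp hz
    obtain ⟨s, hs, hsa⟩ := hπ a hap
    obtain ⟨e, he⟩ := Ideal.mem_span_singleton'.mp hsa
    refine ⟨algebraMap A T (s * c1), fun h' => ?_, Ideal.mem_span_singleton'.mpr
      ⟨algebraMap A T (e * c1) + algebraMap A T (t0 * s) * h, ?_⟩⟩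
    · rw [map_mul] at h'
      exact (Ideal.IsPrime.mem_or_mem inferInstance h').elim hs hc1p
    · have he' : algebraMap A T e * algebraMap A T π = algebraMap A T s * algebraMap A T a := by
        rw [← map_mul, ← map_mul, he]
      rw [map_mul, map_mul, map_mul]
      show (algebraMap A T e * algebraMap A T c1 + algebraMap A T t0 * algebraMap A T s * h) * algebraMap A T π =
        algebraMap A T s * algebraMap A T c1 * (algebraMap A T a + Y * h)
      linear_combination (algebraMap A T c1) * he' - (algebraMap A T s * h) * hY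
  · obtain ⟨z, rfl⟩ := Ideal.Quotient.mk_surjective w
    obtain ⟨a, h, rfl⟩ := exists_decomp y z
    refine ⟨a, ?_⟩
    rw [RingHom.comp_apply, map_add, Ideal.Quotient.eq_zero_iff_mem.mpr (P.mul_mem_right h hYP), add_zero]

theorem isNagata_of_surjective {R S : Type u} [CommRing R] [CommRing S] (f : R →+* S) (hf : Function.Surjective f)
    (h : CAlg.IsNagata R) : CAlg.IsNagata S :=
  isNagata_of_ringEquiv (RingHom.quotientKerEquivOfSurjective hf) (isNagata_quotient (RingHom.ker f) h)

theorem isNagata_quotient_localization {T : Type u} [CommRing T] (N : Submonoid T) (R : Type u) [CommRing R]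
    [Algebra T R] [IsLocalization N R] (p : Ideal R) (h : CAlg.IsNagata (T ⧸ p.comap (algebraMap T R))) :
    CAlg.IsNagata (R ⧸ p) := by
  let P := p.comap (algebraMap T R)
  letI : Algebra (T ⧸ P) (R ⧸ p) := (Ideal.quotientMap p (algebraMap T R) le_rfl).toAlgebra
  haveI : IsLocalization (N.map (Ideal.Quotient.mk P)) (R ⧸ p) :=
    IsLocalization.of_surjective N R (Ideal.Quotient.mk P) Ideal.Quotient.mk_surjective
      (Ideal.Quotient.mk p) Ideal.Quotient.mk_surjective rfl (by
        rw [Ideal.mk_ker, Ideal.mk_ker]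
        exact (IsLocalization.map_under N R p).ge)
  exact isNagata_localization h (N.map (Ideal.Quotient.mk P)) _

theorem isReduced_cpl_adjoin (hA : CAlg.IsNagata A) (y : K) (n : Ideal (Algebra.adjoin A ({y} : Set K))) [n.IsPrime]
    (hyn : (⟨y, Algebra.self_mem_adjoin_singleton A y⟩ : Algebra.adjoin A ({y} : Set K)) ∈ n) :
    IsReduced (AdicCompletion (maximalIdeal (Localization.AtPrime n)) (Localization.AtPrime n)) := by
  classical
  haveI : Algebra.FiniteType A (Algebra.adjoin A ({y} : Set K)) :=
    (Subalgebra.fg_iff_finiteType _).mp (Subalgebra.fg_adjoin_finset (R := A) ({y} : Finset K) |> fun h => by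
      simpa using h)
  haveI : IsNoetherianRing (Algebra.adjoin A ({y} : Set K)) := Algebra.FiniteType.isNoetherianRing A _
  let Y : Algebra.adjoin A ({y} : Set K) := ⟨y, Algebra.self_mem_adjoin_singleton A y⟩
  haveI : IsNoetherianRing (Localization.AtPrime n) := IsLocalization.isNoetherianRing n.primeCompl _ inferInstance
  by_cases hy : y = 0
  · refine isReduced_cpl_of_isNagata _ (isNagata_localization ?_ n.primeCompl _)
    haveI : Module.Finite A (Algebra.adjoin A ({y} : Set K)) :=
      Module.Finite.of_surjective (Algebra.linearMap A _) fun z => by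
        obtain ⟨a, h, rfl⟩ := exists_decomp y z
        exact ⟨a, Subtype.ext (by simp [hy])⟩
    exact isNagata_of_finite hA
  have hYm : algebraMap _ (Localization.AtPrime n) Y ∈ maximalIdeal (Localization.AtPrime n) :=
    (IsLocalization.AtPrime.to_map_mem_maximal_iff (Localization.AtPrime n) n Y).mpr hyn
  have hinj : Function.Injective (algebraMap (Algebra.adjoin A ({y} : Set K)) (Localization.AtPrime n)) :=
    IsLocalization.injective _ n.primeCompl_le_nonZeroDivisors
  haveI := faithfullyFlat_completion (Localization.AtPrime n)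
  haveI := Cohen12.isNoetherianRing_completion (A := Localization.AtPrime n)
  refine isReduced_of_hypersurface (A := AdicCompletion (maximalIdeal (Localization.AtPrime n)) (Localization.AtPrime n))
    (algebraMap _ (Localization.AtPrime n) Y) ?_ ?_ fun p hp => ?_
  · exact (map_ne_zero_iff _ hinj).mpr fun h => hy (congrArg Subtype.val h)
  · rw [AdicCompletion.maximalIdeal_eq_map]
    exact Ideal.mem_map_of_mem _ hYm
  obtain ⟨hpP, g, hg⟩ := (isAssociatedPrime_iff_exists_injective_linearMap (I := p)
    (M := Localization.AtPrime n ⧸ Ideal.span {algebraMap _ (Localization.AtPrime n) Y})).mp hp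
  haveI := hpP
  obtain ⟨w, hw⟩ := Ideal.Quotient.mk_surjective (g 1)
  have hgr : ∀ r, g (Ideal.Quotient.mk p r) =
      Ideal.Quotient.mk (Ideal.span {algebraMap _ (Localization.AtPrime n) Y}) (r * w) := fun r => by
    have h1 : r • Ideal.Quotient.mk p (1 : Localization.AtPrime n) = Ideal.Quotient.mk p (r * 1) := rfl
    rw [← mul_one r, ← h1, map_smul, mul_one, map_one, ← hw]
    rfl
  have hcol : ∀ r, r ∈ p ↔ r * w ∈ Ideal.span {algebraMap _ (Localization.AtPrime n) Y} := fun r => by
    rw [← Ideal.Quotient.eq_zero_iff_mem, ← map_eq_zero_iff g hg, hgr, Ideal.Quotient.eq_zero_iff_mem]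
  obtain ⟨t, s, rfl⟩ := IsLocalization.exists_mk'_eq n.primeCompl w
  let P := p.comap (algebraMap (Algebra.adjoin A ({y} : Set K)) (Localization.AtPrime n))
  have hcolT : ∀ z, z ∈ P ↔ ∃ r ∉ n, r * (z * t) ∈ Ideal.span {Y} := fun z => by
    rw [Ideal.mem_comap, hcol, IsLocalization.mul_mk'_eq_mk'_of_mul, IsLocalization.mk'_eq_mul_mk'_one,
      Ideal.mul_unit_mem_iff_mem _ (show IsUnit (IsLocalization.mk' (Localization.AtPrime n) 1 s) from
        IsUnit.of_mul_eq_one (algebraMap _ _ (s : Algebra.adjoin A ({y} : Set K))) (by rw [IsLocalization.mk'_spec, map_one])),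
      ← Set.image_singleton, ← Ideal.map_span, IsLocalization.algebraMap_mem_map_algebraMap_iff n.primeCompl]
    rfl
  obtain ⟨G, hG⟩ := IsNoetherian.noetherian P
  have : ∀ z ∈ G, ∃ r ∉ n, r * (z * t) ∈ Ideal.span {Y} := fun z hz => (hcolT z).mp (hG ▸ Submodule.subset_span hz)
  choose! r hrn hr using this
  let R0 := ∏ z ∈ G, r z
  have hR0 : R0 ∉ n := fun h => by
    obtain ⟨z, hz, hzn⟩ := (Ideal.IsPrime.prod_mem_iff (hp := inferInstance)).mp h
    exact hrn z hz hzn
  obtain ⟨⟨π, hπP, hπ0, hπ⟩, hsurj⟩ := ass_data y hy P (R0 * t) fun z => by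
    rw [← Ideal.mem_span_singleton]
    refine ⟨fun hz => ?_, fun hz => (hcolT z).mpr ⟨R0, hR0, by rwa [show R0 * (z * t) = z * (R0 * t) by ring]⟩⟩
    rw [← hG] at hz
    induction hz using Submodule.span_induction with
    | mem z hz =>
      show z * (R0 * t) ∈ _
      rw [show z * (R0 * t) = (∏ i ∈ G.erase z, r i) * (r z * (z * t)) by
        rw [show R0 = (∏ i ∈ G.erase z, r i) * r z from (Finset.prod_erase_mul _ _ hz).symm]; ring]
      exact Ideal.mul_mem_left _ _ (hr z hz)
    | zero => rw [zero_mul]; exact zero_mem _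
    | add a b _ _ ha hb => rw [add_mul]; exact add_mem ha hb
    | smul c a _ ha => rw [smul_eq_mul, mul_assoc]; exact Ideal.mul_mem_left _ _ ha
  refine ⟨⟨algebraMap _ _ π, hπP, (map_ne_zero_iff _ hinj).mpr hπ0, fun a ha => ?_⟩, ?_⟩
  · obtain ⟨z, s', rfl⟩ := IsLocalization.exists_mk'_eq n.primeCompl a
    have hzP : z ∈ P := by
      show algebraMap _ (Localization.AtPrime n) z ∈ p
      rw [← IsLocalization.mk'_spec (Localization.AtPrime n) z s']
      exact Ideal.mul_mem_right _ _ ha
    obtain ⟨r', hr', hrz⟩ := hπ z hzP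
    obtain ⟨e, he⟩ := Ideal.mem_span_singleton'.mp hrz
    refine ⟨algebraMap _ _ r', hr', Ideal.mem_span_singleton'.mpr ⟨IsLocalization.mk' _ e s', ?_⟩⟩
    rw [IsLocalization.mk'_eq_mul_mk'_one, IsLocalization.mk'_eq_mul_mk'_one z s', mul_right_comm, ← map_mul, he,
      map_mul]
    ring
  · have hTP : CAlg.IsNagata (Algebra.adjoin A ({y} : Set K) ⧸ P) := by
      haveI : Module.Finite A (Algebra.adjoin A ({y} : Set K) ⧸ P) :=
        Module.Finite.of_surjective (Algebra.linearMap A _) hsurj
      exact isNagata_of_finite hA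
    have hN : CAlg.IsNagata (Localization.AtPrime n ⧸ p) :=
      isNagata_quotient_localization n.primeCompl (Localization.AtPrime n) p hTP
    haveI := isReduced_cpl_of_isNagata _ hN
    exact isReduced_cpl_quotient p

end Groth.Agent.CAlg1.Nag
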