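import Mathlib
import Groth.Prelude.Def_Found
import Groth.Agent.CAlg5.NFinite
import Groth.Agent.EGA4H10.FiniteLocal

/-! Openness of the normal locus of a Noetherian domain and the N-1 criterion. -/

set_option autoImplicit false
set_option linter.style.haveILetI false
universe u

namespace Groth.Agent.CAlg1.Nag

variable {R : Type u} [CommRing R] [IsDomain R]

/-- Normality of a localisation, element-wise. -/
theorem icLoc_iff {M : Submonoid R} (hM : M ≤ nonZeroDivisors R) (S : Type*) [CommRing S] [Algebra R S]
    [IsLocalization M S] (K : Type*) [Field K] [Algebra R K] [IsFractionRing R K] :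
    IsIntegrallyClosed S ↔
      ∀ x : K, IsIntegral R x → ∃ s ∈ M, ∃ r : R, algebraMap R K s * x = algebraMap R K r := by
  let T := Localization.subalgebra.ofField K M hM
  haveI : IsLocalization M T := Localization.subalgebra.isLocalization_ofField K M hM
  haveI : IsFractionRing T K := Localization.subalgebra.isFractionRing_ofField K M hM
  have hST : IsIntegrallyClosed S ↔ IsIntegrallyClosed T :=
    ⟨fun _ => IsIntegrallyClosed.of_equiv (IsLocalization.algEquiv M S T).toRingEquiv,
      fun _ => IsIntegrallyClosed.of_equiv (IsLocalization.algEquiv M T S).toRingEquiv⟩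
  rw [hST, isIntegrallyClosed_iff K]
  constructor
  · intro h x hx
    obtain ⟨z, hz⟩ := h (hx.tower_top (A := T))
    obtain ⟨r, s, rfl⟩ := IsLocalization.exists_mk'_eq M z
    refine ⟨s, s.2, r, ?_⟩
    rw [← hz, IsScalarTower.algebraMap_apply R T K, IsScalarTower.algebraMap_apply R T K, ← map_mul,
      IsLocalization.mk'_spec']
  · intro h y hy
    obtain ⟨m, hm⟩ := IsIntegral.exists_multiple_integral_of_isLocalization M y hy
    obtain ⟨s, hs, r, hr⟩ := h (m • y) hm
    refine ⟨IsLocalization.mk' _ r (⟨s * m, M.mul_mem hs m.2⟩ : M), ?_⟩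
    have hne : algebraMap R K (s * m) ≠ 0 :=
      (map_ne_zero_iff _ (IsFractionRing.injective R K)).mpr (nonZeroDivisors.ne_zero (hM (M.mul_mem hs m.2)))
    refine mul_left_cancel₀ hne ?_
    rw [IsScalarTower.algebraMap_apply R T K, ← map_mul,
      show algebraMap R T (s * m) * IsLocalization.mk' _ r
        (⟨s * m, M.mul_mem hs m.2⟩ : M) = algebraMap R _ r from
        IsLocalization.mk'_spec' T r ⟨s * m, M.mul_mem hs m.2⟩, ← IsScalarTower.algebraMap_apply, ← hr,
      ← IsScalarTower.algebraMap_apply, map_mul, mul_assoc, Submonoid.smul_def, Algebra.smul_def]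

theorem icAt_iff (p : Ideal R) [p.IsPrime] (K : Type*) [Field K] [Algebra R K] [IsFractionRing R K] :
    IsIntegrallyClosed (Localization.AtPrime p) ↔
      ∀ x : K, IsIntegral R x → ∃ s : R, s ∉ p ∧ ∃ r : R, algebraMap R K s * x = algebraMap R K r :=
  icLoc_iff p.primeCompl_le_nonZeroDivisors (Localization.AtPrime p) K

theorem icAt_of_le {p q : Ideal R} [p.IsPrime] [q.IsPrime] (hqp : q ≤ p)
    (h : IsIntegrallyClosed (Localization.AtPrime p)) : IsIntegrallyClosed (Localization.AtPrime q) := by
  rw [icAt_iff _ (FractionRing R)] at h ⊢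
  intro x hx
  obtain ⟨s, hs, r, hr⟩ := h x hx
  exact ⟨s, fun h' => hs (hqp h'), r, hr⟩

/-- An element of the fraction field integral over `R` has a power of `f` clearing it when `R_f` is normal. -/
theorem exists_pow_mul_of_away {f : R} (hf : f ≠ 0) (hn : IsIntegrallyClosed (Localization.Away f))
    (K : Type*) [Field K] [Algebra R K] [IsFractionRing R K] (x : K) (hx : IsIntegral R x) :
    ∃ (n : ℕ) (r : R), algebraMap R K f ^ n * x = algebraMap R K r := by
  obtain ⟨_, ⟨n, rfl⟩, r, hr⟩ :=
    (icLoc_iff (powers_le_nonZeroDivisors_of_noZeroDivisors hf) (Localization.Away f) K).mp hn x hx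
  exact ⟨n, r, by rw [← map_pow]; exact hr⟩

/-- Normality at `p` is tested at the associated primes of `R/fR` inside `p`. -/
theorem icAt_iff_assoc [IsNoetherianRing R] {f : R} (hf : f ≠ 0)
    (hn : IsIntegrallyClosed (Localization.Away f)) (p : Ideal R) [p.IsPrime] :
    IsIntegrallyClosed (Localization.AtPrime p) ↔
      ∀ q ∈ associatedPrimes R (R ⧸ Ideal.span {f}), q ≤ p →
        ∀ [q.IsPrime], IsIntegrallyClosed (Localization.AtPrime q) := by
  refine ⟨fun h q _ hqp _ => icAt_of_le hqp h, fun h => ?_⟩
  rw [icAt_iff p (FractionRing R)]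
  intro x hx
  obtain ⟨n, r, hr⟩ := exists_pow_mul_of_away hf hn (FractionRing R) x hx
  induction n generalizing x r with
  | zero => exact ⟨1, p.one_notMem, r, by simpa using hr⟩
  | succ n ih =>
    -- remove one power of `f` after multiplying by an element outside `p`
    by_cases hI : ∃ s, s ∉ p ∧ s * r ∈ Ideal.span {f}
    · obtain ⟨s, hs, hsr⟩ := hI
      obtain ⟨r', hr'⟩ := Ideal.mem_span_singleton'.mp hsr
      obtain ⟨t, ht, r'', hr''⟩ := ih (algebraMap R _ s * x) ((isIntegral_algebraMap).mul hx) r' (by
        refine mul_left_cancel₀ ((map_ne_zero_iff _ (IsFractionRing.injective R (FractionRing R))).mpr hf) ?_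
        rw [← mul_assoc, ← pow_succ', mul_left_comm, hr, ← map_mul, ← map_mul, ← hr', mul_comm f r'])
      exact ⟨t * s, fun h' => (Ideal.IsPrime.mem_or_mem inferInstance h').elim ht hs, r'', by
        rw [map_mul, mul_assoc, hr'']⟩
    · exfalso
      let I : Ideal R := (⊥ : Submodule R (R ⧸ Ideal.span {f})).colon {Ideal.Quotient.mk (Ideal.span {f}) r}
      have hmem : ∀ s, s ∈ I ↔ s * r ∈ Ideal.span {f} := fun s => by
        rw [Submodule.mem_colon_singleton, Submodule.mem_bot, Algebra.smul_def,
          Ideal.Quotient.algebraMap_eq, ← map_mul, Ideal.Quotient.eq_zero_iff_mem]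
      have hIp : I ≤ p := fun s hs => by
        by_contra hsp
        exact hI ⟨s, hsp, (hmem s).mp hs⟩
      obtain ⟨q, hq, hqp⟩ := Ideal.exists_minimalPrimes_le hIp
      haveI := hq.1.1
      have hass : q ∈ associatedPrimes R (R ⧸ Ideal.span {f}) := by
        let g : R ⧸ I →ₗ[R] R ⧸ Ideal.span {f} :=
          Submodule.liftQ I (LinearMap.toSpanSingleton R _ (Ideal.Quotient.mk (Ideal.span {f}) r)) fun s hs => by
            rw [LinearMap.mem_ker, LinearMap.toSpanSingleton_apply, Algebra.smul_def, Ideal.Quotient.algebraMap_eq,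
              ← map_mul, Ideal.Quotient.eq_zero_iff_mem]
            exact (hmem s).mp hs
        have hg : Function.Injective g := by
          rw [injective_iff_map_eq_zero]
          intro z
          induction z using Submodule.Quotient.induction_on with
          | H s =>
            intro hs
            refine (Submodule.Quotient.mk_eq_zero I).mpr ((hmem s).mpr ?_)
            rw [← Ideal.Quotient.eq_zero_iff_mem, map_mul, ← hs, Submodule.liftQ_apply,
              LinearMap.toSpanSingleton_apply, Algebra.smul_def, Ideal.Quotient.algebraMap_eq]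
        refine associatedPrimes.subset_of_injective hg ?_
        refine Module.associatedPrimes.minimalPrimes_annihilator_subset_associatedPrimes R (R ⧸ I) ?_
        rwa [Ideal.annihilator_quotient]
      obtain ⟨s, hs, r', hr'⟩ := (icAt_iff q (FractionRing R)).mp (h q hass hqp) x hx
      refine hs (hq.1.2 ((hmem s).mpr ?_))
      rw [Ideal.mem_span_singleton']
      refine ⟨f ^ n * r', IsFractionRing.injective R (FractionRing R) ?_⟩
      rw [map_mul, map_mul, map_mul, map_pow, ← hr', ← hr, pow_succ]
      ring

theorem isOpen_icLocus [IsNoetherianRing R] {f : R} (hf : f ≠ 0)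
    (hn : IsIntegrallyClosed (Localization.Away f)) :
    IsOpen {p : PrimeSpectrum R | IsIntegrallyClosed (Localization.AtPrime p.asIdeal)} := by
  let B : Set (Ideal R) := {q | q ∈ associatedPrimes R (R ⧸ Ideal.span {f}) ∧
    ¬ ∀ [q.IsPrime], IsIntegrallyClosed (Localization.AtPrime q)}
  have hB : B.Finite := (associatedPrimes.finite R _).subset fun q hq => hq.1
  have : {p : PrimeSpectrum R | IsIntegrallyClosed (Localization.AtPrime p.asIdeal)} =
      (⋃ q ∈ B, PrimeSpectrum.zeroLocus (q : Set R))ᶜ := by
    ext p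
    rw [Set.mem_ofPred_eq, icAt_iff_assoc hf hn, Set.mem_compl_iff]
    simp only [Set.mem_iUnion, exists_prop, not_exists, not_and, PrimeSpectrum.mem_zeroLocus, SetLike.coe_subset_coe]
    exact ⟨fun h q hq hqp => hq.2 (h q hq.1 hqp), fun h q hq hqp => by
      by_contra hc
      exact h q ⟨hq, fun H => hc H⟩ hqp⟩
  rw [this, isOpen_compl_iff]
  exact hB.isClosed_biUnion fun q _ => PrimeSpectrum.isClosed_zeroLocus _

theorem exists_away_of_isN1 (h : CAlg.IsN1 R) :
    ∃ f : R, f ≠ 0 ∧ IsIntegrallyClosed (Localization.Away f) := by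
  classical
  haveI : Module.Finite R (integralClosure R (FractionRing R)) := h
  obtain ⟨T, -, hT⟩ := (CAlg5.finite_integralClosure_iff R (FractionRing R)).mp h
  obtain ⟨⟨f, hf⟩, hfT⟩ := IsLocalization.exist_integer_multiples (nonZeroDivisors R) T (fun t => (t : FractionRing R))
  have hf0 : f ≠ 0 := nonZeroDivisors.ne_zero hf
  have key : ∀ x : FractionRing R, x ∈ Submodule.span R (T : Set (FractionRing R)) →
      ∃ r : R, f • x = algebraMap R (FractionRing R) r := by
    intro x hx
    induction hx using Submodule.span_induction with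
    | mem t ht =>
      obtain ⟨r, hr⟩ := hfT t ht
      exact ⟨r, hr.symm⟩
    | zero => exact ⟨0, by simp⟩
    | add a b _ _ ha hb =>
      obtain ⟨r, hr⟩ := ha
      obtain ⟨r', hr'⟩ := hb
      exact ⟨r + r', by rw [smul_add, hr, hr', map_add]⟩
    | smul c a _ ha =>
      obtain ⟨r, hr⟩ := ha
      exact ⟨c * r, by rw [smul_comm, hr, Algebra.smul_def, map_mul]⟩
  refine ⟨f, hf0, (icLoc_iff (powers_le_nonZeroDivisors_of_noZeroDivisors hf0) (Localization.Away f)
    (FractionRing R)).mpr fun x hx => ?_⟩
  obtain ⟨r, hr⟩ := key x (hT x hx)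
  exact ⟨f, Submonoid.mem_powers f, r, by rw [← hr, Algebra.smul_def]⟩

end Groth.Agent.CAlg1.Nag
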