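import Mathlib
import Groth.Agent.CAlg1.NagataOpen
import Groth.Agent.CAlg5.NFinite
import Groth.Agent.EGA4H10.FiniteLocal

/-! N-1 is local: generic normality plus N-1 at all maximal ideals. -/

set_option autoImplicit false
set_option linter.style.haveILetI false
universe u

namespace Groth.Agent.CAlg1.Nag

theorem exists_finset_loc {R : Type*} [CommRing R] (M : Submonoid R) (S : Type*)
    [CommRing S] [Algebra R S] [IsLocalization M S] (L : Type*) [CommRing L] [Algebra R L]
    [Algebra S L] [IsScalarTower R S L] (h : Module.Finite S (integralClosure S L)) :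
    ∃ T : Finset L, (∀ t ∈ T, IsIntegral R t) ∧
      ∀ x, IsIntegral R x → ∃ m ∈ M, m • x ∈ Submodule.span R (T : Set L) := by
  classical
  obtain ⟨T, h1, h2⟩ := (CAlg5.finite_integralClosure_iff S L).mp h
  have hT : ∀ t ∈ T, ∃ m ∈ M, IsIntegral R (m • t) := fun t ht => by
    obtain ⟨⟨m, hm⟩, hk⟩ := IsIntegral.exists_multiple_integral_of_isLocalization M t (h1 t ht)
    exact ⟨m, hm, hk⟩
  choose! k hkM hk using hT
  refine ⟨T.image fun t => k t • t, fun s hs => ?_, fun x hx => ?_⟩
  · obtain ⟨t, ht, rfl⟩ := Finset.mem_image.mp hs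
    exact hk t ht
  have hsp : ∀ y ∈ Submodule.span S (T : Set L),
      ∃ m ∈ M, m • y ∈ Submodule.span R ((T.image fun t => k t • t : Finset L) : Set L) := by
    intro y hy
    induction hy using Submodule.span_induction with
    | mem t ht => exact ⟨k t, hkM t ht, Submodule.subset_span (Finset.mem_image_of_mem _ ht)⟩
    | zero => exact ⟨1, M.one_mem, by simp⟩
    | add a b _ _ ha hb =>
      obtain ⟨⟨i, hi', hi⟩, ⟨j, hj', hj⟩⟩ := ha, hb
      refine ⟨i * j, mul_mem hi' hj', ?_⟩
      rw [smul_add]
      refine add_mem ?_ ?_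
      · rw [mul_comm, mul_smul]; exact Submodule.smul_mem _ _ hi
      · rw [mul_smul]; exact Submodule.smul_mem _ _ hj
    | smul c a _ ha =>
      obtain ⟨i, hi', hi⟩ := ha
      obtain ⟨⟨r, j, hj'⟩, hrj⟩ := IsLocalization.surj M c
      refine ⟨j * i, mul_mem hj' hi', ?_⟩
      have : (j * i) • c • a = r • i • a := by
        rw [mul_smul, smul_comm i c a, ← algebraMap_smul S j, smul_smul, mul_comm, hrj, algebraMap_smul]
      rw [this]
      exact Submodule.smul_mem _ _ hi
  exact hsp x (h2 x hx.tower_top)

theorem finite_localizedModule_of_fg {A M : Type u} [CommRing A] [AddCommGroup M] [Module A M] (S : Submonoid A)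
    (N : Submodule A M) (hN : N.FG) (h : ∀ c : M, ∃ s ∈ S, s • c ∈ N) :
    Module.Finite (Localization S) (LocalizedModule S M) := by
  classical
  let mk := LocalizedModule.mkLinearMap S M
  obtain ⟨T, hT⟩ := hN
  refine ⟨⟨T.image mk, eq_top_iff.mpr fun z _ => ?_⟩⟩
  obtain ⟨⟨c, s⟩, hcs⟩ := IsLocalizedModule.surj S mk z
  obtain ⟨t, ht, htc⟩ := h c
  have h1 : mk (t • c) ∈ Submodule.span (Localization S) ((T.image mk : Finset _) : Set (LocalizedModule S M)) := by
    rw [Finset.coe_image]
    have hle : Submodule.map mk N ≤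
        (Submodule.span (Localization S) (mk '' (T : Set M))).restrictScalars A := by
      rw [← hT, Submodule.map_span]
      exact Submodule.span_le_restrictScalars A (Localization S) _
    exact hle (Submodule.mem_map_of_mem htc)
  simp only [Submonoid.smul_def] at hcs
  rw [map_smul, ← hcs, smul_smul, ← IsScalarTower.algebraMap_smul (Localization S) (t * (s : A))] at h1
  exact (Submodule.smul_mem_iff_of_isUnit _
    (IsLocalization.map_units (Localization S) (⟨t * s, mul_mem ht s.2⟩ : S))).mp h1

theorem isN1_of_local (R : Type u) [CommRing R] [IsDomain R] [IsNoetherianRing R] (f : R) (hf : f ≠ 0)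
    (hn : IsIntegrallyClosed (Localization.Away f))
    (h : ∀ (m : Ideal R) [m.IsMaximal], CAlg.IsN1 (Localization.AtPrime m)) : CAlg.IsN1 R := by
  classical
  show Module.Finite R (integralClosure R (FractionRing R))
  have hreg : IsSMulRegular (integralClosure R (FractionRing R)) f := by
    intro x y hxy
    apply Subtype.ext
    have h1 : f • (x : FractionRing R) = f • (y : FractionRing R) := congrArg Subtype.val hxy
    simp only [Algebra.smul_def] at h1
    exact mul_left_cancel₀ ((map_ne_zero_iff _ (IsFractionRing.injective R (FractionRing R))).mpr hf) h1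
  refine EGA4H10.finite_of_localized f hreg ?_ fun p _ => ?_
  · refine finite_localizedModule_of_fg _ (Submodule.span R {(1 : integralClosure R (FractionRing R))})
      (Submodule.fg_span_singleton _) fun c => ?_
    obtain ⟨n, r, hr⟩ := exists_pow_mul_of_away hf hn (FractionRing R) c c.2
    refine ⟨f ^ n, ⟨n, rfl⟩, Submodule.mem_span_singleton.mpr ⟨r, Subtype.ext ?_⟩⟩
    show r • (1 : FractionRing R) = f ^ n • (c : FractionRing R)
    rw [Algebra.smul_def, Algebra.smul_def, mul_one, map_pow, hr]
  · obtain ⟨m, hm, hpm⟩ := Ideal.exists_le_maximal p (Ideal.IsPrime.ne_top inferInstance)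
    haveI := hm
    have hu : ∀ y : m.primeCompl, IsUnit (algebraMap R (FractionRing R) y) := fun y =>
      isUnit_iff_ne_zero.mpr ((map_ne_zero_iff _ (IsFractionRing.injective R (FractionRing R))).mpr
        (nonZeroDivisors.ne_zero (m.primeCompl_le_nonZeroDivisors y.2)))
    letI : Algebra (Localization.AtPrime m) (FractionRing R) :=
      (IsLocalization.lift (M := m.primeCompl) (S := Localization.AtPrime m) hu).toAlgebra
    haveI : IsScalarTower R (Localization.AtPrime m) (FractionRing R) :=
      IsScalarTower.of_algebraMap_eq fun r => (IsLocalization.lift_eq hu r).symm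
    haveI : IsFractionRing (Localization.AtPrime m) (FractionRing R) :=
      IsFractionRing.isFractionRing_of_isDomain_of_isLocalization m.primeCompl _ _
    obtain ⟨F, hF1, hF2⟩ := exists_finset_loc m.primeCompl (Localization.AtPrime m) (FractionRing R)
      ((CAlg5.isN1_iff (Localization.AtPrime m) (FractionRing R)).mp (h m))
    refine finite_localizedModule_of_fg _
      (Submodule.span R ((F.attach.image fun t => (⟨t.1, hF1 t.1 t.2⟩ : integralClosure R (FractionRing R)) :
        Finset _) : Set (integralClosure R (FractionRing R))))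
      (Submodule.fg_span (Finset.finite_toSet _)) fun c => ?_
    obtain ⟨s, hs, hsc⟩ := hF2 c c.2
    refine ⟨s, fun h' => hs (hpm h'), ?_⟩
    rw [← Submodule.apply_mem_span_image_iff_mem_span (f := (integralClosure R (FractionRing R)).val.toLinearMap)
      Subtype.val_injective]
    refine Submodule.span_mono ?_ hsc
    intro t ht
    exact ⟨⟨t, hF1 t ht⟩, Finset.mem_image.mpr ⟨⟨t, ht⟩, Finset.mem_attach _ _, rfl⟩, rfl⟩

theorem isN1_iff_local (R : Type u) [CommRing R] [IsDomain R] [IsNoetherianRing R] :
    CAlg.IsN1 R ↔ ((∃ f : R, f ≠ 0 ∧ IsIntegrallyClosed (Localization.Away f)) ∧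
      ∀ (m : Ideal R) [m.IsMaximal], CAlg.IsN1 (Localization.AtPrime m)) :=
  ⟨fun h => ⟨exists_away_of_isN1 h, fun m _ => CAlg5.isN1_localization m.primeCompl _ h⟩,
    fun ⟨⟨f, hf, hn⟩, h⟩ => isN1_of_local R f hf hn h⟩

end Groth.Agent.CAlg1.Nag
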