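import Mathlib
import Groth.Agent.CAlg1.NagataCore
import Groth.Agent.CAlg1.NagataN1

/-! `A[x]` is N-1 for a normal Nagata domain `A` and `x` in its fraction field. -/

set_option autoImplicit false
set_option linter.style.haveILetI false
set_option linter.unusedSectionVars false
set_option synthInstance.maxHeartbeats 200000
set_option maxHeartbeats 800000
universe u

open Polynomial

namespace Groth.Agent.CAlg1.Nag

variable {A : Type u} [CommRing A] [IsDomain A] [IsIntegrallyClosed A]
variable {K : Type u} [Field K] [Algebra A K] [IsFractionRing A K]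

/-- The integral closure over `A[x]` becomes integral over a subring once `x` is integral. -/
theorem exists_pow_mul_integral (T : Subalgebra A K) (c : T) (x : K)
    (hx : IsIntegral T ((c : K) * x)) (hc : c ≠ 0) (z : K) (hz : IsIntegral (Algebra.adjoin A ({x} : Set K)) z) :
    ∃ k : ℕ, IsIntegral T ((c : K) ^ k * z) := by
  have hM : Submonoid.powers c ≤ nonZeroDivisors T := powers_le_nonZeroDivisors_of_noZeroDivisors hc
  let Tc := Localization.subalgebra.ofField K (Submonoid.powers c) hM
  haveI : IsLocalization (Submonoid.powers c) Tc :=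
    Localization.subalgebra.isLocalization_ofField K (Submonoid.powers c) hM
  let C := integralClosure Tc K
  have hxC : IsIntegral Tc x := by
    have h1 : IsIntegral Tc ((c : K) * x) := hx.tower_top
    obtain ⟨v, hv⟩ := IsLocalization.map_units Tc (⟨c, Submonoid.mem_powers c⟩ : Submonoid.powers c)
    have h2 : ((↑v⁻¹ : Tc) : K) * (c : K) = 1 := by
      have := congrArg (fun w : Tc => (w : K)) (v.inv_mul)
      simp only [MulMemClass.coe_mul, OneMemClass.coe_one] at this
      rwa [hv] at this
    have h3 : x = algebraMap Tc K (↑v⁻¹) * ((c : K) * x) := by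
      rw [← mul_assoc, show algebraMap Tc K (↑v⁻¹) * (c : K) = 1 from h2, one_mul]
    rw [h3]
    exact isIntegral_algebraMap.mul h1
  have hA : ∀ a : A, algebraMap A K a ∈ C := fun a => by
    show IsIntegral Tc (algebraMap A K a)
    rw [IsScalarTower.algebraMap_apply A T K, IsScalarTower.algebraMap_apply T Tc K]
    exact isIntegral_algebraMap
  have hle : ∀ w ∈ Algebra.adjoin A ({x} : Set K), w ∈ C := by
    intro w hw
    induction hw using Algebra.adjoin_induction with
    | mem v hv => rw [Set.mem_singleton_iff.mp hv]; exact hxC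
    | algebraMap a => exact hA a
    | add _ _ _ _ h1 h2 => exact add_mem h1 h2
    | mul _ _ _ _ h1 h2 => exact mul_mem h1 h2
  letI : Algebra (Algebra.adjoin A ({x} : Set K)) C :=
    ((Algebra.adjoin A ({x} : Set K)).val.toRingHom.codRestrict C fun w => hle w w.2).toAlgebra
  haveI : IsScalarTower (Algebra.adjoin A ({x} : Set K)) C K := IsScalarTower.of_algebraMap_eq fun _ => rfl
  have h4 : IsIntegral C z := hz.tower_top
  have h5 : IsIntegral Tc z := isIntegral_trans (R := Tc) (A := C) z h4
  obtain ⟨⟨_, k, rfl⟩, hk⟩ := IsIntegral.exists_multiple_integral_of_isLocalization (Submonoid.powers c) z h5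
  refine ⟨k, ?_⟩
  simpa [Submonoid.smul_def, Algebra.smul_def] using hk

variable [IsNoetherianRing A]

/-- local data at a maximal ideal -/
theorem exists_finset_at_maximal (hA : CAlg.IsNagata A) (x : K) (m : Ideal (Algebra.adjoin A ({x} : Set K))) [m.IsMaximal] :
    ∃ G : Finset K, (∀ g ∈ G, IsIntegral (Algebra.adjoin A ({x} : Set K)) g) ∧
      ∀ z, IsIntegral (Algebra.adjoin A ({x} : Set K)) z → ∃ s ∉ m,
        s • z ∈ Submodule.span (Algebra.adjoin A ({x} : Set K)) (G : Set K) := by
  classical
  let S := Algebra.adjoin A ({x} : Set K)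
  let p := m.comap (algebraMap A S)
  letI := Ideal.Quotient.field m
  -- a relation modulo `m`
  let φ : (A ⧸ p)[X] →+* S ⧸ m := eval₂RingHom (Ideal.quotientMap m (algebraMap A S) le_rfl)
    (Ideal.Quotient.mk m ⟨x, Algebra.self_mem_adjoin_singleton A x⟩)
  have hφmap : ∀ f : A[X], φ (f.map (Ideal.Quotient.mk p)) =
      Ideal.Quotient.mk m ⟨aeval x f, aeval_mem_adjoin_singleton A x⟩ := fun f => by
    have h1 : (⟨aeval x f, aeval_mem_adjoin_singleton A x⟩ : S) =
        aeval (⟨x, Algebra.self_mem_adjoin_singleton A x⟩ : S) f := Subtype.ext (by simp)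
    rw [h1, aeval_def, hom_eval₂]
    show eval₂ _ _ (f.map _) = _
    rw [eval₂_map]
    rfl
  have hφs : Function.Surjective φ := fun w => by
    obtain ⟨z, rfl⟩ := Ideal.Quotient.mk_surjective w
    obtain ⟨f, hf⟩ := Algebra.adjoin_mem_exists_aeval A x z.2
    exact ⟨f.map (Ideal.Quotient.mk p), by rw [hφmap]; exact congrArg _ (Subtype.ext hf)⟩
  obtain ⟨g, hg0, hgker⟩ : ∃ g, g ≠ 0 ∧ φ g = 0 := by
    by_contra h
    push Not at h
    have hinj : Function.Injective φ := (injective_iff_map_eq_zero φ).mpr fun g hg => by
      by_contra hg0; exact h g hg0 hg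
    exact Polynomial.not_isField (A ⧸ p)
      ((RingEquiv.ofBijective φ ⟨hinj, hφs⟩).toMulEquiv.isField (Field.toIsField (S ⧸ m)))
  obtain ⟨f, hfg, hfdeg⟩ := mem_lifts_and_degree_eq ((Polynomial.map_surjective _ Ideal.Quotient.mk_surjective g) |> fun ⟨f, hf⟩ => (⟨f, hf⟩ : g ∈ lifts (Ideal.Quotient.mk p)))
  have hc : f.leadingCoeff ∉ p := fun hc => by
    have hd : f.natDegree = g.natDegree := natDegree_eq_of_degree_eq hfdeg
    have : g.leadingCoeff = 0 := by
      rw [← hfg, leadingCoeff, hfg, ← hd, ← hfg, coeff_map, Ideal.Quotient.eq_zero_iff_mem]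
      exact hc
    exact hg0 (leadingCoeff_eq_zero.mp this)
  let y := aeval x f
  have hym : (⟨y, aeval_mem_adjoin_singleton A x⟩ : S) ∈ m := by
    rw [← Ideal.Quotient.eq_zero_iff_mem, ← hφmap, hfg, hgker]
  let T := Algebra.adjoin A ({y} : Set K)
  have hTS : T ≤ S := Algebra.adjoin_le (Set.singleton_subset_iff.mpr (aeval_mem_adjoin_singleton A x))
  let n := m.comap (Subalgebra.inclusion hTS)
  haveI : n.IsPrime := Ideal.IsPrime.comap _
  haveI := isReduced_cpl_adjoin hA y n (hym : (⟨y, Algebra.self_mem_adjoin_singleton A y⟩ : T) ∈ n)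
  haveI : Algebra.FiniteType A T :=
    (Subalgebra.fg_iff_finiteType _).mp (Subalgebra.fg_adjoin_finset (R := A) ({y} : Finset K) |> fun h => by
      simpa using h)
  haveI : IsNoetherianRing T := Algebra.FiniteType.isNoetherianRing A _
  haveI : IsNoetherianRing (Localization.AtPrime n) := IsLocalization.isNoetherianRing n.primeCompl _ inferInstance
  have hN1 := isN1_of_reduced_completion (Localization.AtPrime n)
  have hu : ∀ w : n.primeCompl, IsUnit (algebraMap T K w) := fun w =>
    isUnit_iff_ne_zero.mpr ((map_ne_zero_iff _ Subtype.val_injective).mpr fun h => w.2 (h ▸ n.zero_mem))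
  letI : Algebra (Localization.AtPrime n) K :=
    (IsLocalization.lift (M := n.primeCompl) (S := Localization.AtPrime n) hu).toAlgebra
  haveI : IsScalarTower T (Localization.AtPrime n) K :=
    IsScalarTower.of_algebraMap_eq fun r => (IsLocalization.lift_eq hu r).symm
  haveI : IsFractionRing (Localization.AtPrime n) K :=
    IsFractionRing.isFractionRing_of_isDomain_of_isLocalization n.primeCompl _ _
  obtain ⟨G, hG1, hG2⟩ := exists_finset_loc n.primeCompl (Localization.AtPrime n) K
    ((CAlg5.isN1_iff (Localization.AtPrime n) K).mp hN1)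
  letI : Algebra T S := (Subalgebra.inclusion hTS).toRingHom.toAlgebra
  haveI : IsScalarTower T S K := IsScalarTower.of_algebraMap_eq fun _ => rfl
  refine ⟨G, fun g hg => (hG1 g hg).tower_top, fun z hz => ?_⟩
  let c : T := algebraMap A T f.leadingCoeff
  have hc0 : c ≠ 0 := fun h => hc (by
    have := IsFractionRing.injective A K ((congrArg Subtype.val h).trans (map_zero (algebraMap A K)).symm)
    rw [this]; exact p.zero_mem)
  have hcx : IsIntegral T ((c : K) * x) := by
    by_cases hdeg : f.natDegree = 0
    · exfalso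
      have hfC : f = C f.leadingCoeff := by rw [leadingCoeff, hdeg]; exact eq_C_of_natDegree_eq_zero hdeg
      apply hc
      have : y = algebraMap A K f.leadingCoeff := by
        show aeval x f = _
        conv_lhs => rw [hfC]
        exact aeval_C _ _
      show algebraMap A S f.leadingCoeff ∈ m
      convert hym using 1
      exact Subtype.ext this.symm
    · let F : T[X] := f.map (algebraMap A T) - Polynomial.C ⟨y, Algebra.self_mem_adjoin_singleton A y⟩
      have hF : aeval x F = 0 := by
        rw [map_sub, aeval_map_algebraMap, aeval_C]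
        exact sub_self y
      have hlead : F.leadingCoeff = c := by
        have hinjT : Function.Injective (algebraMap A T) := fun a b h =>
          IsFractionRing.injective A K (congrArg Subtype.val h)
        rw [leadingCoeff_sub_of_degree_lt, leadingCoeff_map_of_injective hinjT]
        refine degree_C_le.trans_lt ?_
        rw [degree_map_eq_of_injective hinjT, degree_eq_natDegree (fun h => hdeg (by rw [h, natDegree_zero]))]
        exact_mod_cast Nat.pos_of_ne_zero hdeg
      have := isIntegral_leadingCoeff_smul F x hF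
      rw [hlead, Algebra.smul_def] at this
      exact this
  obtain ⟨k, hk⟩ := exists_pow_mul_integral T c x hcx hc0 z hz
  obtain ⟨s, hs, hsk⟩ := hG2 _ hk
  refine ⟨algebraMap T S (s * c ^ k), fun h => ?_, ?_⟩
  · rw [map_mul, map_pow] at h
    rcases Ideal.IsPrime.mem_or_mem inferInstance h with h | h
    · exact hs h
    · exact hc (Ideal.IsPrime.mem_of_pow_mem inferInstance k h : algebraMap T S c ∈ m)
  · rw [algebraMap_smul, mul_smul, Algebra.smul_def (c ^ k), map_pow]
    exact Submodule.span_le_restrictScalars T S (G : Set K) hsk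

theorem isN1_adjoin_normal (hA : CAlg.IsNagata A) (x : K) : CAlg.IsN1 (Algebra.adjoin A ({x} : Set K)) := by
  classical
  let S := Algebra.adjoin A ({x} : Set K)
  haveI : Algebra.FiniteType A S :=
    (Subalgebra.fg_iff_finiteType _).mp (Subalgebra.fg_adjoin_finset (R := A) ({x} : Finset K) |> fun h => by
      simpa using h)
  haveI : IsNoetherianRing S := Algebra.FiniteType.isNoetherianRing A _
  rw [CAlg5.isN1_iff S K]
  obtain ⟨a, b, hb, hab⟩ := IsFractionRing.div_surjective A x
  have hb0 : algebraMap A K b ≠ 0 :=
    (map_ne_zero_iff _ (IsFractionRing.injective A K)).mpr (nonZeroDivisors.ne_zero hb)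
  have hreg : IsSMulRegular (integralClosure S K) (algebraMap A S b) := by
    intro u v huv
    apply Subtype.ext
    have h1 : algebraMap A S b • (u : K) = algebraMap A S b • (v : K) := congrArg Subtype.val huv
    rw [algebraMap_smul, algebraMap_smul, Algebra.smul_def, Algebra.smul_def] at h1
    exact mul_left_cancel₀ hb0 h1
  refine EGA4H10.finite_of_localized (algebraMap A S b) hreg ?_ fun p _ => ?_
  · refine finite_localizedModule_of_fg _ (Submodule.span S {(1 : integralClosure S K)})
      (Submodule.fg_span_singleton _) fun z => ?_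
    let T : Subalgebra A K := ⊥
    let cb : T := algebraMap A T b
    have hcb : cb ≠ 0 := fun h => hb0 ((congrArg Subtype.val h).trans rfl)
    have hcx : IsIntegral T ((cb : K) * x) := by
      rw [← hab]
      show IsIntegral T (algebraMap A K b * (algebraMap A K a / algebraMap A K b))
      rw [mul_div_cancel₀ _ hb0, IsScalarTower.algebraMap_apply A T K]
      exact isIntegral_algebraMap
    obtain ⟨k, hk⟩ := exists_pow_mul_integral T cb x hcx hcb z z.2
    have hk' : IsIntegral A ((cb : K) ^ k * (z : K)) := by
      haveI : Algebra.IsIntegral A T := ⟨fun w => by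
        obtain ⟨r, hr⟩ := Algebra.mem_bot.mp w.2
        rw [show w = algebraMap A T r from Subtype.ext hr.symm]
        exact isIntegral_algebraMap⟩
      exact isIntegral_trans (R := A) (A := T) _ hk
    obtain ⟨r, hr⟩ := IsIntegrallyClosed.isIntegral_iff.mp hk'
    refine ⟨algebraMap A S b ^ k, ⟨k, rfl⟩, Submodule.mem_span_singleton.mpr ⟨algebraMap A S r, Subtype.ext ?_⟩⟩
    show algebraMap A S r • (1 : K) = (algebraMap A S b ^ k) • (z : K)
    rw [← map_pow, algebraMap_smul, algebraMap_smul, Algebra.smul_def, Algebra.smul_def, mul_one, hr, map_pow]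
    rfl
  · obtain ⟨m, hm, hpm⟩ := Ideal.exists_le_maximal p (Ideal.IsPrime.ne_top inferInstance)
    haveI := hm
    obtain ⟨F, hF1, hF2⟩ := exists_finset_at_maximal hA x m
    refine finite_localizedModule_of_fg _
      (Submodule.span S ((F.attach.image fun t => (⟨t.1, hF1 t.1 t.2⟩ : integralClosure S K) :
        Finset _) : Set (integralClosure S K)))
      (Submodule.fg_span (Finset.finite_toSet _)) fun c => ?_
    obtain ⟨s, hs, hsc⟩ := hF2 c c.2
    refine ⟨s, fun h' => hs (hpm h'), ?_⟩
    rw [← Submodule.apply_mem_span_image_iff_mem_span (f := (integralClosure S K).val.toLinearMap)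
      Subtype.val_injective]
    refine Submodule.span_mono ?_ hsc
    intro t ht
    exact ⟨⟨t, hF1 t ht⟩, Finset.mem_image.mpr ⟨⟨t, ht⟩, Finset.mem_attach _ _, rfl⟩, rfl⟩

end Groth.Agent.CAlg1.Nag
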