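import Mathlib
import Groth.Prelude.Def_Found
import Groth.Agent.CAlg5.NFinite
import Groth.Agent.S0574
import Groth.Agent.S4562
import Groth.Agent.CAlg1.NagataBasic

/-! Polynomial rings over N-1 and N-2 domains. -/

set_option autoImplicit false
set_option linter.style.haveILetI false
universe u

open Polynomial

namespace Groth.Agent.CAlg1.Nag

/-- A finite normal domain containing the fractions bounds the integral closure. -/
theorem finite_integralClosure_of_normal {A L C Ω : Type u} [CommRing A] [IsNoetherianRing A] [CommRing C]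
    [IsDomain C] [IsIntegrallyClosed C] [Algebra A C] [Module.Finite A C] [Field L] [Algebra A L] [Field Ω]
    [Algebra A Ω] (φ : L →ₐ[A] Ω) (ι : C →ₐ[A] Ω) (hι : Function.Injective ι)
    (h : ∀ l : L, ∃ a b : C, b ≠ 0 ∧ φ l * ι b = ι a) : Module.Finite A (integralClosure A L) := by
  have hmem : ∀ l : integralClosure A L, ∃ c : C, ι c = φ l := by
    rintro ⟨l, hl⟩
    obtain ⟨a, b, hb, hab⟩ := h l
    letI : Algebra C Ω := ι.toRingHom.toAlgebra
    haveI : IsScalarTower A C Ω := IsScalarTower.of_algebraMap_eq fun r => (ι.commutes r).symm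
    haveI : FaithfulSMul C Ω := (faithfulSMul_iff_algebraMap_injective C Ω).mpr hι
    letI : Algebra (FractionRing C) Ω := FractionRing.liftAlgebra C Ω
    let z : FractionRing C := algebraMap C _ a / algebraMap C _ b
    have hz : algebraMap (FractionRing C) Ω z = φ l := by
      rw [map_div₀, ← IsScalarTower.algebraMap_apply, ← IsScalarTower.algebraMap_apply,
        show algebraMap C Ω a = ι a from rfl, show algebraMap C Ω b = ι b from rfl,
        div_eq_iff ((map_ne_zero_iff ι hι).mpr hb), hab]
    have hint : IsIntegral C z := by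
      have h1 : IsIntegral C (algebraMap (FractionRing C) Ω z) := by
        rw [hz]; exact (hl.map φ).tower_top
      exact (isIntegral_algHom_iff (IsScalarTower.toAlgHom C (FractionRing C) Ω)
        (algebraMap (FractionRing C) Ω).injective).mp h1
    obtain ⟨c, hc⟩ := IsIntegrallyClosed.isIntegral_iff.mp hint
    exact ⟨c, by rw [show φ l = _ from hz.symm, ← hc, ← IsScalarTower.algebraMap_apply]; rfl⟩
  let M : Submodule A Ω := Submodule.map ι.toLinearMap ⊤
  haveI : IsNoetherian A M := isNoetherian_of_fg_of_noetherian M ((Module.Finite.fg_top).map _)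
  let ψ : integralClosure A L →ₗ[A] M :=
    LinearMap.codRestrict M (φ.toLinearMap.comp (integralClosure A L).val.toLinearMap) fun l => by
      obtain ⟨c, hc⟩ := hmem l
      exact ⟨c, trivial, hc⟩
  exact Module.Finite.of_injective ψ fun x y hxy => Subtype.ext (φ.injective (congrArg Subtype.val hxy))

theorem polynomial_isN1 (R : Type u) [CommRing R] [IsDomain R] [IsNoetherianRing R] (h : CAlg.IsN1 R) :
    CAlg.IsN1 (Polynomial R) := by
  classical
  let K := FractionRing R
  let R' := integralClosure R K
  haveI : Module.Finite R R' := h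
  haveI : IsIntegrallyClosed R' := integralClosure.isIntegrallyClosedOfFiniteExtension K
  haveI : IsIntegrallyClosed R'[X] := inferInstance
  let L := FractionRing (Polynomial R)
  let Ω := FractionRing (Polynomial K)
  letI : Algebra R[X] R'[X] := (mapRingHom (algebraMap R R')).toAlgebra
  letI : Algebra R[X] Ω := ((algebraMap K[X] Ω).comp (mapRingHom (algebraMap R K))).toAlgebra
  haveI : Module.Finite R[X] R'[X] := by
    obtain ⟨T, hT⟩ := (Module.Finite.fg_top : (⊤ : Submodule R R').FG)
    refine ⟨⟨T.image C, Submodule.eq_top_iff'.mpr fun f => ?_⟩⟩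
    induction f using Polynomial.induction_on' with
    | add f g hf hg => exact add_mem hf hg
    | monomial n c =>
      have hc : c ∈ Submodule.span R (T : Set R') := hT ▸ trivial
      induction hc using Submodule.span_induction with
      | mem t ht =>
        rw [← C_mul_X_pow_eq_monomial, mul_comm,
          show (X : R'[X]) ^ n * C t = (X : R[X]) ^ n • C t by
            rw [Algebra.smul_def]; congr 1; simp [RingHom.algebraMap_toAlgebra]]
        exact Submodule.smul_mem _ _ (Submodule.subset_span (Finset.mem_coe.mpr (Finset.mem_image_of_mem C ht)))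
      | zero => simp
      | add a b _ _ ha hb => rw [map_add]; exact add_mem ha hb
      | smul r a _ ha =>
        rw [show monomial n (r • a) = (Polynomial.C r : R[X]) • monomial n a by
          rw [Algebra.smul_def, Algebra.smul_def, RingHom.algebraMap_toAlgebra, coe_mapRingHom, map_C, C_mul_monomial]]
        exact Submodule.smul_mem _ _ ha
  have hinjRK : Function.Injective (algebraMap R[X] Ω) :=
    (IsFractionRing.injective K[X] Ω).comp (map_injective _ (IsFractionRing.injective R K))
  haveI : FaithfulSMul R[X] Ω := (faithfulSMul_iff_algebraMap_injective _ _).mpr hinjRK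
  let φ : L →ₐ[R[X]] Ω := IsFractionRing.liftAlgHom (g := Algebra.ofId R[X] Ω) hinjRK
  let ι : R'[X] →ₐ[R[X]] Ω :=
    { (algebraMap K[X] Ω).comp (mapRingHom (algebraMap R' K)) with
      commutes' := fun f => by
        show algebraMap K[X] Ω ((f.map (algebraMap R R')).map (algebraMap R' K)) = algebraMap K[X] Ω (f.map (algebraMap R K))
        rw [map_map, ← IsScalarTower.algebraMap_eq] }
  have hι : Function.Injective ι := fun f g hfg =>
    map_injective (algebraMap R' K) Subtype.val_injective (IsFractionRing.injective K[X] Ω hfg)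
  refine finite_integralClosure_of_normal (A := R[X]) (L := L) (C := R'[X]) (Ω := Ω) φ ι hι fun l => ?_
  obtain ⟨a, b, hb, rfl⟩ := IsFractionRing.div_surjective (R[X]) l
  refine ⟨algebraMap R[X] R'[X] a, algebraMap R[X] R'[X] b, ?_, ?_⟩
  · intro h0
    have := congrArg ι h0
    rw [AlgHom.commutes, map_zero] at this
    exact nonZeroDivisors.ne_zero hb (hinjRK (this.trans (map_zero _).symm))
  · rw [map_div₀, AlgHom.commutes, AlgHom.commutes, AlgHom.commutes, AlgHom.commutes, div_mul_cancel₀]
    exact (map_ne_zero_iff _ hinjRK).mpr (nonZeroDivisors.ne_zero hb)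

theorem polynomial_isN2_charP (R : Type u) [CommRing R] [IsDomain R] [IsNoetherianRing R] (q : ℕ) [Fact q.Prime]
    [CharP R q] (h : CAlg.IsN2 R) : CAlg.IsN2 (Polynomial R) := by
  classical
  refine S4562.result (Polynomial R) fun L _ _ _ _ hfd hpi => ?_
  haveI := hfd
  haveI := hpi
  let P := FractionRing (Polynomial R)
  haveI : CharP R[X] q := charP_of_injective_algebraMap (R := R) C_injective q
  haveI : CharP P q := charP_of_injective_algebraMap (IsFractionRing.injective R[X] P) q
  haveI : ExpChar P q := ExpChar.prime Fact.out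
  have hinjL : Function.Injective (algebraMap R[X] L) := CAlg5.algebraMap_injective_of_fractionRing R[X] L
  haveI : CharP L q := charP_of_injective_algebraMap hinjL q
  haveI : ExpChar L q := ExpChar.prime Fact.out
  -- a uniform exponent
  obtain ⟨N, hN⟩ : ∃ N : ℕ, ∀ l : L, l ^ q ^ N ∈ (algebraMap P L).range := by
    obtain ⟨G, hG⟩ := (Module.Finite.fg_top : (⊤ : Submodule P L).FG)
    choose k hk using fun l : L => IsPurelyInseparable.pow_mem P q l
    refine ⟨G.sup k, fun l => ?_⟩
    have hl : l ∈ Submodule.span P (G : Set L) := hG ▸ trivial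
    induction hl using Submodule.span_induction with
    | mem g hg =>
      rw [← Nat.add_sub_cancel' (Finset.le_sup (f := k) hg), pow_add, pow_mul]
      exact pow_mem (hk g) _
    | zero => rw [zero_pow (pow_ne_zero _ (Fact.out : q.Prime).ne_zero)]; exact zero_mem _
    | add a b _ _ ha hb => rw [add_pow_expChar_pow]; exact add_mem ha hb
    | smul c a _ ha =>
      rw [Algebra.smul_def, mul_pow, ← map_pow]
      exact mul_mem ⟨_, rfl⟩ ha
  let Q := q ^ N
  have hQ : 0 < Q := pow_pos (Fact.out : q.Prime).pos N
  let Ω := AlgebraicClosure L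
  haveI : CharP Ω q := charP_of_injective_algebraMap (algebraMap L Ω).injective q
  haveI : ExpChar Ω q := ExpChar.prime Fact.out
  letI : Algebra R Ω := ((algebraMap L Ω).comp ((algebraMap R[X] L).comp C)).toAlgebra
  have hinjR : Function.Injective (algebraMap R Ω) :=
    (algebraMap L Ω).injective.comp (hinjL.comp C_injective)
  haveI : FaithfulSMul R Ω := (faithfulSMul_iff_algebraMap_injective R Ω).mpr hinjR
  let K := FractionRing R
  letI : Algebra K Ω := FractionRing.liftAlgebra R Ω
  let rt : Ω → Ω := fun w => (IsAlgClosed.exists_pow_nat_eq w hQ).choose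
  have hrt : ∀ w, rt w ^ Q = w := fun w => (IsAlgClosed.exists_pow_nat_eq w hQ).choose_spec
  let x : Ω := algebraMap L Ω (algebraMap R[X] L X)
  let Y := rt x
  obtain ⟨G, hG⟩ := (Module.Finite.fg_top : (⊤ : Submodule P L).FG)
  have hfrac : ∀ l : L, ∃ f g : R[X], g ≠ 0 ∧ l ^ Q * algebraMap R[X] L g = algebraMap R[X] L f := by
    intro l
    obtain ⟨c, hc⟩ := hN l
    obtain ⟨f, g, hg, rfl⟩ := IsFractionRing.div_surjective (R[X]) c
    refine ⟨f, g, nonZeroDivisors.ne_zero hg, ?_⟩
    rw [← hc, map_div₀, ← IsScalarTower.algebraMap_apply, ← IsScalarTower.algebraMap_apply, div_mul_cancel₀]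
    exact (map_ne_zero_iff _ hinjL).mpr (nonZeroDivisors.ne_zero hg)
  choose F Gd hGd hFG using hfrac
  let S : Finset R := G.biUnion fun l => (F l).coeffs ∪ (Gd l).coeffs
  let K' : IntermediateField K Ω := IntermediateField.adjoin K ((S.image fun c => rt (algebraMap R Ω c) : Finset Ω) : Set Ω)
  haveI : FiniteDimensional K K' := IntermediateField.finiteDimensional_adjoin fun w hw => by
    obtain ⟨c, -, rfl⟩ := Finset.mem_image.mp hw
    refine IsIntegral.of_pow hQ ?_
    rw [hrt, IsScalarTower.algebraMap_apply R K Ω]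
    exact isIntegral_algebraMap
  let R'' := integralClosure R K'
  haveI : Module.Finite R R'' := CAlg5.IsN2.finite h K K'
  haveI : IsIntegrallyClosed R'' := integralClosure.isIntegrallyClosedOfFiniteExtension K
  let j : R'' →+* Ω := (algebraMap K' Ω).comp (algebraMap R'' K')
  have hj : ∀ r : R, j (algebraMap R R'' r) = algebraMap R Ω r := fun r => by
    show algebraMap K' Ω (algebraMap R K' r) = _
    rw [IsScalarTower.algebraMap_apply R K K', ← IsScalarTower.algebraMap_apply K K' Ω, ← IsScalarTower.algebraMap_apply R K Ω]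
  letI : Algebra R[X] R''[X] := (eval₂RingHom (Polynomial.C.comp (algebraMap R R'')) (X ^ Q)).toAlgebra
  have halg : ∀ f : R[X], algebraMap R[X] R''[X] f = eval₂ (Polynomial.C.comp (algebraMap R R'')) (X ^ Q) f :=
    fun _ => rfl
  haveI : Module.Finite R[X] R''[X] := by
    obtain ⟨T, hT⟩ := (Module.Finite.fg_top : (⊤ : Submodule R R'').FG)
    refine ⟨⟨(T ×ˢ Finset.range Q).image fun p => monomial p.2 p.1, Submodule.eq_top_iff'.mpr fun f => ?_⟩⟩
    induction f using Polynomial.induction_on' with
    | add f g hf hg => exact add_mem hf hg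
    | monomial n c =>
      have hc : c ∈ Submodule.span R (T : Set R'') := hT ▸ trivial
      induction hc using Submodule.span_induction with
      | mem t ht =>
        rw [show monomial n t = (X : R[X]) ^ (n / Q) • monomial (n % Q) t by
          rw [Algebra.smul_def, halg, eval₂_X_pow, ← pow_mul, X_pow_mul_monomial]
          congr 2
          rw [add_comm]; exact (Nat.div_add_mod n Q).symm]
        refine Submodule.smul_mem _ _ (Submodule.subset_span ?_)
        rw [Finset.coe_image]
        exact ⟨(t, n % Q), Finset.mem_coe.mpr (Finset.mem_product.mpr ⟨ht, Finset.mem_range.mpr (Nat.mod_lt _ hQ)⟩), rfl⟩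
      | zero => simp
      | add a b _ _ ha hb => rw [map_add]; exact add_mem ha hb
      | smul r a _ ha =>
        rw [show monomial n (r • a) = (Polynomial.C r : R[X]) • monomial n a by
          rw [Algebra.smul_def, Algebra.smul_def, halg, eval₂_C, RingHom.comp_apply, C_mul_monomial]]
        exact Submodule.smul_mem _ _ ha
  -- transcendence of `Y`
  have hxR : ∀ f : R[X], aeval x f = algebraMap L Ω (algebraMap R[X] L f) := by
    intro f
    induction f using Polynomial.induction_on' with
    | add f g hf hg => simp only [map_add, hf, hg]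
    | monomial n c =>
      rw [aeval_monomial, ← C_mul_X_pow_eq_monomial, map_mul, map_mul, map_pow, map_pow]
      rfl
  have hxK : Transcendental K x := by
    have hR : Transcendental R x := fun ⟨f, hf0, hf⟩ => hf0 (hinjL ((algebraMap L Ω).injective (by
      rw [← hxR, hf, map_zero, map_zero])))
    exact fun halgK => hR ((IsFractionRing.isAlgebraic_iff R K Ω).mpr halgK)
  have hY : Transcendental K' Y := fun halgY => hxK (by
    have h1 : IsIntegral K Y := isIntegral_trans (R := K) (A := K') Y halgY.isIntegral
    exact (hrt x ▸ h1.pow Q).isAlgebraic)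
  let ι : R''[X] →ₐ[R[X]] Ω :=
    { eval₂RingHom j Y with
      commutes' := fun f => by
        show eval₂ j Y (algebraMap R[X] R''[X] f) = algebraMap R[X] Ω f
        rw [IsScalarTower.algebraMap_apply R[X] L Ω, ← hxR, halg, ← coe_eval₂RingHom j Y, hom_eval₂, aeval_def]
        congr 1
        · ext r
          simp [hj]
        · rw [coe_eval₂RingHom, eval₂_X_pow]
          exact hrt x }
  have hι : Function.Injective ι := by
    intro f g hfg
    refine map_injective (algebraMap R'' K') Subtype.val_injective ?_
    refine transcendental_iff_injective.mp hY ?_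
    rw [aeval_def, aeval_def, eval₂_map, eval₂_map]
    exact hfg
  refine finite_integralClosure_of_normal (IsScalarTower.toAlgHom R[X] L Ω) ι hι fun l => ?_
  -- roots of polynomials with coefficients in `S`
  have hroot : ∀ f : R[X], f.coeffs ⊆ S → ∃ a : R''[X], ι a ^ Q = algebraMap L Ω (algebraMap R[X] L f) := by
    intro f hf
    have hterm : ∀ i ∈ f.support, ∃ r : R'', j r ^ Q = algebraMap R Ω (f.coeff i) := by
      intro i hi
      have hc : rt (algebraMap R Ω (f.coeff i)) ∈ K' :=
        IntermediateField.subset_adjoin K _ (Finset.mem_coe.mpr (Finset.mem_image_of_mem _ (hf (coeff_mem_coeffs (mem_support_iff.mp hi)))))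
      refine ⟨⟨⟨_, hc⟩, IsIntegral.of_pow hQ ?_⟩, hrt _⟩
      rw [show (⟨_, hc⟩ : K') ^ Q = algebraMap R K' (f.coeff i) from Subtype.ext (hrt _)]
      exact isIntegral_algebraMap
    choose! r hr using hterm
    refine ⟨∑ i ∈ f.support, monomial i (r i), ?_⟩
    rw [map_sum, sum_pow_char_pow, ← hxR]
    conv_rhs => rw [as_sum_support f, map_sum]
    refine Finset.sum_congr rfl fun i hi => ?_
    show eval₂ j Y (monomial i (r i)) ^ Q = _
    rw [eval₂_monomial, mul_pow, hr i hi, ← pow_mul, mul_comm i Q, pow_mul, show Y ^ Q = x from hrt x, aeval_monomial]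
  have key : ∀ g ∈ G, ∃ a b : R''[X], b ≠ 0 ∧ algebraMap L Ω g * ι b = ι a := by
    intro g hg
    obtain ⟨a, ha⟩ := hroot (F g) fun c hc => Finset.mem_biUnion.mpr ⟨g, hg, Finset.mem_union_left _ hc⟩
    obtain ⟨b, hb⟩ := hroot (Gd g) fun c hc => Finset.mem_biUnion.mpr ⟨g, hg, Finset.mem_union_right _ hc⟩
    refine ⟨a, b, ?_, ?_⟩
    · rintro rfl
      rw [map_zero, zero_pow hQ.ne', eq_comm, map_eq_zero_iff _ (algebraMap L Ω).injective,
        map_eq_zero_iff _ hinjL] at hb
      exact hGd g hb
    · refine (iterateFrobenius Ω q N).injective ?_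
      show (algebraMap L Ω g * ι b) ^ Q = ι a ^ Q
      rw [mul_pow, hb, ha, ← map_pow, ← map_mul, hFG]
  have hl : l ∈ Submodule.span P (G : Set L) := hG ▸ trivial
  induction hl using Submodule.span_induction with
  | mem g hg => exact key g hg
  | zero => exact ⟨0, 1, one_ne_zero, by simp⟩
  | add g₁ g₂ _ _ h1 h2 =>
    obtain ⟨a1, b1, hb1, h1⟩ := h1
    obtain ⟨a2, b2, hb2, h2⟩ := h2
    refine ⟨a1 * b2 + a2 * b1, b1 * b2, mul_ne_zero hb1 hb2, ?_⟩
    rw [map_add, map_add, map_mul, map_mul, map_mul, ← h1, ← h2]
    show (algebraMap L Ω g₁ + algebraMap L Ω g₂) * _ = algebraMap L Ω g₁ * _ * _ + algebraMap L Ω g₂ * _ * _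
    ring
  | smul c g _ h1 =>
    obtain ⟨a1, b1, hb1, h1⟩ := h1
    obtain ⟨f, d, hd, rfl⟩ := IsFractionRing.div_surjective (R[X]) c
    refine ⟨algebraMap R[X] R''[X] f * a1, algebraMap R[X] R''[X] d * b1, mul_ne_zero ?_ hb1, ?_⟩
    · intro h0
      have h0' := congrArg ι h0
      rw [AlgHom.commutes, map_zero, IsScalarTower.algebraMap_apply R[X] L Ω, map_eq_zero_iff _ (algebraMap L Ω).injective,
        map_eq_zero_iff _ hinjL] at h0'
      exact nonZeroDivisors.ne_zero hd h0'
    · rw [map_mul, map_mul, AlgHom.commutes, AlgHom.commutes, ← h1, Algebra.smul_def, map_mul, IsScalarTower.toAlgHom_apply, map_div₀, ← IsScalarTower.algebraMap_apply, ← IsScalarTower.algebraMap_apply,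
        map_div₀, ← IsScalarTower.algebraMap_apply, ← IsScalarTower.algebraMap_apply]
      have hd0 : algebraMap R[X] Ω d ≠ 0 := by
        rw [IsScalarTower.algebraMap_apply R[X] L Ω]
        exact (map_ne_zero_iff _ (algebraMap L Ω).injective).mpr ((map_ne_zero_iff _ hinjL).mpr (nonZeroDivisors.ne_zero hd))
      rw [div_mul_eq_mul_div, div_mul_eq_mul_div, div_eq_iff hd0]
      ring

theorem polynomial_isN2 (R : Type u) [CommRing R] [IsDomain R] [IsNoetherianRing R] (h : CAlg.IsN2 R) :
    CAlg.IsN2 (Polynomial R) := by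
  obtain ⟨p, hp⟩ := CharP.exists R
  rcases CharP.char_is_prime_or_zero R p with hpp | rfl
  · haveI : Fact p.Prime := ⟨hpp⟩
    exact polynomial_isN2_charP R p h
  · haveI : CharZero R := CharP.charP_to_charZero R
    exact (S0574.result (Polynomial R)).mp (polynomial_isN1 R (h (FractionRing R) inferInstance))

end Groth.Agent.CAlg1.Nag
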