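import Mathlib
import Groth.Agent.CAlg1.NagataPoly
import Groth.Agent.CAlg1.NagataNormalStep
import Groth.Agent.S6333

/-! Finite type algebras over Nagata rings are Nagata. -/

set_option autoImplicit false
set_option linter.style.haveILetI false
set_option synthInstance.maxHeartbeats 200000
set_option maxHeartbeats 800000
universe u

open Polynomial

namespace Groth.Agent.CAlg1.Nag

theorem isN2_of_adjoin_algebraic {A S : Type u} [CommRing A] [IsDomain A] [CommRing S] [IsDomain S] [Algebra A S]
    (hinj : Function.Injective (algebraMap A S)) (hA : CAlg.IsNagata A) (x : S)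
    (hgen : ∀ z : S, ∃ g : A[X], aeval x g = z) (halg : IsAlgebraic A x) : CAlg.IsN2 S := by
  classical
  intro L _ _ _ _ hfd
  haveI := hfd
  haveI := hA.1
  haveI : FaithfulSMul A S := (faithfulSMul_iff_algebraMap_injective A S).mpr hinj
  letI : Algebra (FractionRing A) (FractionRing S) := FractionRing.liftAlgebra A (FractionRing S)
  haveI : FiniteDimensional (FractionRing A) (FractionRing S) := by
    let xK := algebraMap S (FractionRing S) x
    have hxK : IsIntegral (FractionRing A) xK := by
      refine IsAlgebraic.isIntegral ((IsFractionRing.isAlgebraic_iff A (FractionRing A) (FractionRing S)).mp ?_)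
      exact halg.algebraMap
    have htop : IntermediateField.adjoin (FractionRing A) {xK} = ⊤ := by
      rw [eq_top_iff]
      intro z _
      obtain ⟨a, b, -, rfl⟩ := IsFractionRing.div_surjective S z
      have hmem : ∀ w : S, algebraMap S (FractionRing S) w ∈ IntermediateField.adjoin (FractionRing A) {xK} := by
        intro w
        obtain ⟨g, rfl⟩ := hgen w
        rw [← aeval_algebraMap_apply, ← aeval_map_algebraMap (FractionRing A)]
        exact IntermediateField.algebra_adjoin_le_adjoin _ _ (aeval_mem_adjoin_singleton _ _)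
      exact div_mem (hmem a) (hmem b)
    haveI := IntermediateField.adjoin.finiteDimensional hxK
    rw [htop] at this
    exact IntermediateField.topEquiv.toLinearEquiv.finiteDimensional
  letI : Algebra A L := ((algebraMap S L).comp (algebraMap A S)).toAlgebra
  haveI : IsScalarTower A S L := IsScalarTower.of_algebraMap_eq' rfl
  letI : Algebra (FractionRing A) L :=
    ((algebraMap (FractionRing S) L).comp (algebraMap (FractionRing A) (FractionRing S))).toAlgebra
  haveI : IsScalarTower (FractionRing A) (FractionRing S) L := IsScalarTower.of_algebraMap_eq' rfl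
  haveI : IsScalarTower A (FractionRing A) L := IsScalarTower.of_algebraMap_eq fun a => by
    show algebraMap S L (algebraMap A S a) = algebraMap (FractionRing S) L
      (algebraMap (FractionRing A) (FractionRing S) (algebraMap A (FractionRing A) a))
    rw [← IsScalarTower.algebraMap_apply A (FractionRing A) (FractionRing S),
      IsScalarTower.algebraMap_apply A S (FractionRing S), ← IsScalarTower.algebraMap_apply S (FractionRing S) L]
  haveI : FiniteDimensional (FractionRing A) L := Module.Finite.trans (FractionRing S) L
  let A' := integralClosure A L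
  haveI : Module.Finite A A' := isN2_of_isNagata hA L inferInstance
  haveI : IsIntegrallyClosed A' := integralClosure.isIntegrallyClosedOfFiniteExtension (FractionRing A)
  haveI : IsFractionRing A' L := integralClosure.isFractionRing_of_finite_extension (FractionRing A) L
  haveI : IsNoetherianRing A' := IsNoetherianRing.of_finite A A'
  have hA' : CAlg.IsNagata A' := isNagata_of_finite hA
  let S' := Algebra.adjoin A' ({algebraMap S L x} : Set L)
  have hN : Module.Finite S' (integralClosure S' L) :=
    (CAlg5.isN1_iff S' L).mp (isN1_adjoin_normal hA' (algebraMap S L x))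
  obtain ⟨T, hT1, hT2⟩ := (CAlg5.finite_integralClosure_iff S' L).mp hN
  obtain ⟨G, hG⟩ := (Module.Finite.fg_top : (⊤ : Submodule A A').FG)
  have hS' : ∀ w ∈ S', w ∈ Submodule.span S (((↑) : A' → L) '' (G : Set A')) ∧ IsIntegral S w := by
    intro w hw
    obtain ⟨g, rfl⟩ := Algebra.adjoin_mem_exists_aeval A' _ hw
    induction g using Polynomial.induction_on' with
    | add f g hf hg =>
      obtain ⟨h1, h2⟩ := hf (aeval_mem_adjoin_singleton _ _)
      obtain ⟨h3, h4⟩ := hg (aeval_mem_adjoin_singleton _ _)
      rw [map_add]
      exact ⟨add_mem h1 h3, h2.add h4⟩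
    | monomial n c =>
      rw [aeval_monomial, show algebraMap A' L c = (c : L) from rfl]
      refine ⟨?_, (c.2 : IsIntegral A (c : L)).tower_top.mul (isIntegral_algebraMap.pow n)⟩
      have hc : (c : L) ∈ Submodule.span S (((↑) : A' → L) '' (G : Set A')) := by
        have h1 : c ∈ Submodule.span A (G : Set A') := hG ▸ Submodule.mem_top
        have h2 : (c : L) ∈ (Submodule.span A (G : Set A')).map A'.val.toLinearMap := ⟨c, h1, rfl⟩
        rw [Submodule.map_span] at h2
        exact Submodule.span_le_restrictScalars A S _ h2
      rw [mul_comm, ← map_pow, ← Algebra.smul_def]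
      exact Submodule.smul_mem _ _ hc
  letI : Algebra S S' := ((algebraMap S L).codRestrict S' fun z => by
    obtain ⟨g, rfl⟩ := hgen z
    show algebraMap S L (aeval x g) ∈ S'
    rw [← aeval_algebraMap_apply, ← aeval_map_algebraMap A']
    exact aeval_mem_adjoin_singleton _ _).toAlgebra
  haveI : IsScalarTower S S' L := IsScalarTower.of_algebraMap_eq fun _ => rfl
  refine (CAlg5.finite_integralClosure_iff S L).mpr
    ⟨(G ×ˢ T).image (fun p => (p.1 : L) * p.2), fun w hw => ?_, fun z hz => ?_⟩
  · obtain ⟨⟨g, t⟩, hgt, rfl⟩ := Finset.mem_image.mp hw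
    haveI : Algebra.IsIntegral S S' := ⟨fun w =>
      (isIntegral_algHom_iff (IsScalarTower.toAlgHom S S' L) Subtype.val_injective).mp (hS' w w.2).2⟩
    exact (g.2 : IsIntegral A (g : L)).tower_top.mul
      (isIntegral_trans (R := S) (A := S') t (hT1 t (Finset.mem_product.mp hgt).2))
  · obtain ⟨c, -, hc⟩ := Submodule.mem_span_finset.mp (hT2 z hz.tower_top)
    rw [← hc]
    refine sum_mem fun t ht => ?_
    have h1 := (hS' (c t : L) (c t).2).1
    have h2 : ((c t : L) * t) ∈ (Submodule.span S (((↑) : A' → L) '' (G : Set A'))).map (LinearMap.mulRight S t) :=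
      ⟨_, h1, rfl⟩
    rw [Submodule.map_span, ← Set.image_comp] at h2
    rw [show c t • t = (c t : L) * t from Algebra.smul_def _ _]
    refine Submodule.span_mono ?_ h2
    rintro _ ⟨g, hg, rfl⟩
    exact Finset.mem_coe.mpr (Finset.mem_image.mpr ⟨(g, t), Finset.mem_product.mpr ⟨hg, ht⟩, rfl⟩)

theorem isN2_of_adjoin {A S : Type u} [CommRing A] [IsDomain A] [CommRing S] [IsDomain S] [Algebra A S]
    (hinj : Function.Injective (algebraMap A S)) (hA : CAlg.IsNagata A) (x : S)
    (hgen : ∀ z : S, ∃ g : A[X], aeval x g = z) : CAlg.IsN2 S := by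
  haveI := hA.1
  by_cases halg : IsAlgebraic A x
  · exact isN2_of_adjoin_algebraic hinj hA x hgen halg
  · letI : Algebra A[X] S := (aeval x : A[X] →ₐ[A] S).toRingHom.toAlgebra
    haveI : Module.Finite A[X] S := Module.Finite.of_surjective (Algebra.linearMap A[X] S) hgen
    exact isN2_of_finite (A := A[X]) (transcendental_iff_injective.mp halg) (polynomial_isN2 A (isN2_of_isNagata hA))

theorem isNagata_polynomial {A : Type u} [CommRing A] (hA : CAlg.IsNagata A) : CAlg.IsNagata A[X] := by
  haveI := hA.1
  refine ⟨inferInstance, fun Q _ => ?_⟩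
  let p := Q.under A
  exact isN2_of_adjoin (A := A ⧸ p) (S := A[X] ⧸ Q) Ideal.algebraMap_quotient_injective (isNagata_quotient p hA)
    (Ideal.Quotient.mk Q X) fun z => by
      obtain ⟨f, rfl⟩ := Ideal.Quotient.mk_surjective z
      refine ⟨f.map (Ideal.Quotient.mk p), ?_⟩
      rw [← Ideal.Quotient.algebraMap_eq p, aeval_map_algebraMap, ← Ideal.Quotient.mkₐ_eq_mk A, aeval_algHom_apply,
        aeval_X_left_apply]

theorem isNagata_mvPolynomial {A : Type u} [CommRing A] (hA : CAlg.IsNagata A) (n : ℕ) :
    CAlg.IsNagata (MvPolynomial (Fin n) A) := by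
  induction n with
  | zero => exact isNagata_of_ringEquiv (MvPolynomial.isEmptyAlgEquiv A (Fin 0)).symm.toRingEquiv hA
  | succ n ih =>
    exact isNagata_of_ringEquiv (MvPolynomial.finSuccEquiv A n).symm.toRingEquiv (isNagata_polynomial ih)

theorem isNagata_of_finiteType {R S : Type u} [CommRing R] [CommRing S] [Algebra R S] [Algebra.FiniteType R S]
    (hR : CAlg.IsNagata R) : CAlg.IsNagata S := by
  obtain ⟨n, f, hf⟩ := Algebra.FiniteType.iff_quotient_mvPolynomial''.mp (inferInstance : Algebra.FiniteType R S)
  exact isNagata_of_surjective f.toRingHom hf (isNagata_mvPolynomial hR n)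

theorem isUniversallyJapanese_of_isNagata {R : Type u} [CommRing R] (hR : CAlg.IsNagata R) :
    CAlg.IsUniversallyJapanese R :=
  fun S _ _ _ hS => by
    haveI := hS
    exact isN2_of_isNagata (isNagata_of_finiteType (R := R) hR)

theorem isNagata_iff {R : Type u} [CommRing R] :
    CAlg.IsNagata R ↔ (IsNoetherianRing R ∧ CAlg.IsUniversallyJapanese R) :=
  ⟨fun h => ⟨h.1, isUniversallyJapanese_of_isNagata h⟩, fun ⟨h1, h2⟩ => ⟨h1, fun p _ => h2 (R ⧸ p) inferInstance⟩⟩

theorem finite_integralClosure_domain {R S : Type u} [CommRing R] [CommRing S] [IsDomain S] [Algebra R S]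
    [Algebra.FiniteType R S] (hR : CAlg.IsNagata R) : Module.Finite R (integralClosure R S) := by
  haveI := hR.1
  let p := RingHom.ker (algebraMap R S)
  haveI : p.IsPrime := RingHom.ker_isPrime _
  let A := R ⧸ p
  letI : Algebra A S := (RingHom.kerLift (algebraMap R S)).toAlgebra
  haveI : IsScalarTower R A S := IsScalarTower.of_algebraMap_eq fun _ => rfl
  haveI : FaithfulSMul A S := (faithfulSMul_iff_algebraMap_injective A S).mpr (RingHom.kerLift_injective _)
  haveI : Algebra.FiniteType A S := Algebra.FiniteType.of_restrictScalars_finiteType R A S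
  let F := FractionRing S
  letI : Algebra (FractionRing A) F := FractionRing.liftAlgebra A F
  haveI : Algebra.EssFiniteType A F := Algebra.EssFiniteType.comp A S F
  haveI : Algebra.EssFiniteType (FractionRing A) F := Algebra.EssFiniteType.of_comp A (FractionRing A) F
  haveI : FiniteDimensional (FractionRing A) (algebraicClosure (FractionRing A) F) :=
    S6333.result (IntermediateField.fg_top_iff.mpr inferInstance)
  let K1 := algebraicClosure (FractionRing A) F
  haveI : Module.Finite A (integralClosure A K1) := isN2_of_isNagata (isNagata_quotient p hR) K1 inferInstance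
  haveI : IsScalarTower A (FractionRing A) F := inferInstance
  haveI : IsScalarTower A K1 F := IsScalarTower.of_algebraMap_eq fun a => by
    rw [IsScalarTower.algebraMap_apply A (FractionRing A) F, IsScalarTower.algebraMap_apply A (FractionRing A) K1]
    rfl
  let ψ : integralClosure A S → integralClosure A K1 := fun z =>
    ⟨⟨algebraMap S F z, by
      rw [mem_algebraicClosure_iff']
      exact (z.2.algebraMap (B := F)).tower_top⟩, by
      exact (isIntegral_algHom_iff (IsScalarTower.toAlgHom A K1 F) Subtype.val_injective).mp
        (z.2.algebraMap (B := F))⟩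
  let ψl : integralClosure A S →ₗ[A] integralClosure A K1 :=
    { toFun := ψ
      map_add' := fun a b => Subtype.ext (Subtype.ext (map_add (algebraMap S F) a.1 b.1))
      map_smul' := fun r a => Subtype.ext (Subtype.ext (by
        show algebraMap S F (r • (a : S)) = r • algebraMap S F (a : S)
        rw [Algebra.smul_def, map_mul, ← IsScalarTower.algebraMap_apply, ← Algebra.smul_def])) }
  haveI : IsNoetherianRing A := inferInstance
  have hfinA : Module.Finite A (integralClosure A S) := Module.Finite.of_injective ψl fun a b h =>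
    Subtype.ext (IsFractionRing.injective S F
      (congrArg (fun w : integralClosure A K1 => ((w : K1) : F)) h :))
  obtain ⟨T, hT1, hT2⟩ := (CAlg5.finite_integralClosure_iff A S).mp hfinA
  refine (CAlg5.finite_integralClosure_iff R S).mpr ⟨T, fun t ht => ?_, fun z hz => ?_⟩
  · haveI : Algebra.IsIntegral R A := Algebra.IsIntegral.of_finite R A
    exact isIntegral_trans (R := R) (A := A) t (hT1 t ht)
  · have h1 := hT2 z hz.tower_top
    rwa [← Submodule.restrictScalars_mem R, Submodule.restrictScalars_span R A Ideal.Quotient.mk_surjective] at h1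

theorem finite_integralClosure_reduced {R S : Type u} [CommRing R] [CommRing S] [IsReduced S] [Algebra R S]
    [Algebra.FiniteType R S] (hR : CAlg.IsNagata R) : Module.Finite R (integralClosure R S) := by
  haveI := hR.1
  haveI : IsNoetherianRing S := Algebra.FiniteType.isNoetherianRing R S
  haveI hfin : Finite (minimalPrimes S) := (minimalPrimes.finite_of_isNoetherianRing S).to_subtype
  haveI hP : ∀ P : minimalPrimes S, (P : Ideal S).IsPrime := fun P => P.2.1.1
  haveI : ∀ P : minimalPrimes S, Module.Finite R (integralClosure R (S ⧸ (P : Ideal S))) :=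
    fun P => finite_integralClosure_domain hR
  let ψ : integralClosure R S →ₗ[R] ∀ P : minimalPrimes S, integralClosure R (S ⧸ (P : Ideal S)) :=
    LinearMap.pi fun P => ((Ideal.Quotient.mkₐ R (P : Ideal S)).toLinearMap.comp
      (integralClosure R S).val.toLinearMap).codRestrict (integralClosure R (S ⧸ (P : Ideal S))).toSubmodule
        fun z => z.2.map (Ideal.Quotient.mkₐ R (P : Ideal S))
  refine Module.Finite.of_injective ψ ((injective_iff_map_eq_zero ψ).mpr fun z hz => ?_)
  apply Subtype.ext
  refine IsReduced.eq_zero _ (mem_nilradical.mp ?_)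
  rw [nilradical, ← Ideal.sInf_minimalPrimes, Ideal.mem_sInf]
  intro P hP'
  exact Ideal.Quotient.eq_zero_iff_mem.mp (congrArg Subtype.val (congrFun hz ⟨P, hP'⟩))

end Groth.Agent.CAlg1.Nag
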