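import Mathlib

/-! The completion of a smooth algebra along a section is a power series ring. -/

set_option autoImplicit false
set_option maxHeartbeats 1000000
universe u

namespace Groth.Agent.CAlg1

section Completion

theorem evalₐ_compat {A : Type u} [CommRing A] (J : Ideal A) {m n : ℕ} (h : m ≤ n) (x : AdicCompletion J A) :
    Ideal.Quotient.factor (Ideal.pow_le_pow_right h) (AdicCompletion.evalₐ J n x) = AdicCompletion.evalₐ J m x := by
  induction x using AdicCompletion.induction_on with
  | _ z =>
    rw [AdicCompletion.evalₐ_mk, AdicCompletion.evalₐ_mk, Ideal.Quotient.factor_mk, Ideal.Quotient.eq]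
    have := SModEq.sub_mem.mp (z.2 h).symm
    rwa [smul_eq_mul, Ideal.mul_top] at this

variable {R A S : Type u} [CommRing R] [CommRing A] [CommRing S] [Algebra R A] [Algebra R S]

/-- An algebra map inducing isomorphisms modulo all powers induces an isomorphism of completions. -/
theorem completion_equiv_of_bijective_quotients (P : Ideal A) (I : Ideal S) (φ : A →ₐ[R] S)
    (hle : ∀ n, P ^ n ≤ (I ^ n).comap φ)
    (hbij : ∀ n, Function.Bijective (Ideal.quotientMapₐ (I ^ n) φ (hle n))) :
    Nonempty (AdicCompletion P A ≃ₐ[R] AdicCompletion I S) := by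
  let e := fun n => AlgEquiv.ofBijective _ (hbij n)
  have hcompat : ∀ {m n : ℕ} (h : m ≤ n) (x : A ⧸ P ^ n),
      Ideal.Quotient.factorₐ R (Ideal.pow_le_pow_right h) (e n x) =
        e m (Ideal.Quotient.factorₐ R (Ideal.pow_le_pow_right h) x) := by
    intro m n h x
    obtain ⟨a, rfl⟩ := Ideal.Quotient.mk_surjective x
    rfl
  have hev : ∀ {m n : ℕ} (h : m ≤ n) (x : AdicCompletion P A),
      Ideal.Quotient.factorₐ R (Ideal.pow_le_pow_right h) ((AdicCompletion.evalₐ P n).restrictScalars R x) =
        (AdicCompletion.evalₐ P m).restrictScalars R x := fun h x =>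
    evalₐ_compat P h x
  have hev' : ∀ {m n : ℕ} (h : m ≤ n) (x : AdicCompletion I S),
      Ideal.Quotient.factorₐ R (Ideal.pow_le_pow_right h) ((AdicCompletion.evalₐ I n).restrictScalars R x) =
        (AdicCompletion.evalₐ I m).restrictScalars R x := fun h x =>
    evalₐ_compat I h x
  let F : AdicCompletion P A →ₐ[R] AdicCompletion I S := AdicCompletion.liftAlgHom I
    (fun n => (e n).toAlgHom.comp ((AdicCompletion.evalₐ P n).restrictScalars R))
    (fun h => AlgHom.ext fun x => (hcompat h _).trans (congrArg (e _) (hev h x)))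
  let G : AdicCompletion I S →ₐ[R] AdicCompletion P A := AdicCompletion.liftAlgHom P
    (fun n => (e n).symm.toAlgHom.comp ((AdicCompletion.evalₐ I n).restrictScalars R))
    (fun {m n} h => AlgHom.ext fun x => (e m).injective (by
      refine ((hcompat h _).symm.trans ?_)
      show Ideal.Quotient.factorₐ R (Ideal.pow_le_pow_right h) (e n ((e n).symm _)) = e m ((e m).symm _)
      rw [AlgEquiv.apply_symm_apply, AlgEquiv.apply_symm_apply]
      exact hev' h x))
  refine ⟨AlgEquiv.ofAlgHom F G (AlgHom.ext fun x => AdicCompletion.ext_evalₐ fun n => ?_)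
    (AlgHom.ext fun x => AdicCompletion.ext_evalₐ fun n => ?_)⟩
  · show AdicCompletion.evalₐ I n (F (G x)) = _
    rw [AdicCompletion.evalₐ_liftAlgHom]
    show e n (AdicCompletion.evalₐ P n (G x)) = _
    rw [AdicCompletion.evalₐ_liftAlgHom]
    exact (e n).apply_symm_apply _
  · show AdicCompletion.evalₐ P n (G (F x)) = _
    rw [AdicCompletion.evalₐ_liftAlgHom]
    show (e n).symm (AdicCompletion.evalₐ I n (F x)) = _
    rw [AdicCompletion.evalₐ_liftAlgHom]
    exact (e n).symm_apply_apply _

end Completion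

variable {R S : Type u} [CommRing R] [CommRing S] [Algebra R S]

theorem completion_section_equiv_powerSeries [Algebra.Smooth R S] (σ : S →ₐ[R] R) (d : ℕ)
    (e : (RingHom.ker σ.toRingHom).Cotangent ≃ₗ[R] (Fin d → R)) :
    Nonempty (AdicCompletion (RingHom.ker σ.toRingHom) S ≃ₐ[R] MvPowerSeries (Fin d) R) := by
  classical
  set I := RingHom.ker σ.toRingHom with hIdef
  have hsec : ∀ s, s - algebraMap R S (σ s) ∈ I := fun s => by
    show σ (s - algebraMap R S (σ s)) = 0
    rw [map_sub, AlgHom.commutes]; exact sub_self _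
  choose x hx using fun i => I.toCotangent_surjective (e.symm (Pi.single i 1))
  let A := MvPolynomial (Fin d) R
  let P := MvPolynomial.idealOfVars (Fin d) R
  let φ : A →ₐ[R] S := MvPolynomial.aeval fun i => (x i : S)
  have hφP : P.map φ.toRingHom ≤ I := by
    show (Ideal.span _).map _ ≤ _
    rw [Ideal.map_span, Ideal.span_le]
    rintro _ ⟨_, ⟨i, rfl⟩, rfl⟩
    show φ (MvPolynomial.X i) ∈ I
    rw [MvPolynomial.aeval_X]; exact (x i).2
  have hle : ∀ n, P ^ n ≤ (I ^ n).comap φ := fun n =>
    Ideal.map_le_iff_le_comap.mp ((Ideal.map_pow φ.toRingHom P n).trans_le (Ideal.pow_right_mono hφP n))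
  -- `I` is generated by the `x i` modulo `I ^ 2`
  have hgen : ∀ s ∈ I, ∃ p ∈ P, s - φ p ∈ I ^ 2 := fun s hs => by
    let c := e (I.toCotangent ⟨s, hs⟩)
    refine ⟨∑ i, c i • MvPolynomial.X i, Ideal.sum_mem _ fun i _ =>
      Submodule.smul_of_tower_mem _ _ (Ideal.subset_span ⟨i, rfl⟩), ?_⟩
    have h1 : I.toCotangent ⟨s, hs⟩ = (I.toCotangent).restrictScalars R (∑ i, c i • x i) := by
      rw [map_sum]
      simp only [map_smul]
      refine e.injective ?_
      rw [map_sum]
      funext j
      simp [hx, Pi.single_apply, c]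
    have h2 := (Ideal.toCotangent_eq I).mp h1
    have h3 : φ (∑ i, c i • MvPolynomial.X i) = ((∑ i, c i • x i : I) : S) := by
      rw [map_sum, Submodule.coe_sum]
      refine Finset.sum_congr rfl fun i _ => ?_
      rw [map_smul, MvPolynomial.aeval_X]
      rfl
    rw [h3]; exact h2
  -- surjectivity modulo every power
  have key : ∀ m, ∀ y ∈ I ^ m, ∃ p ∈ P ^ m, y - φ p ∈ I ^ (m + 1) := by
    intro m
    induction m with
    | zero =>
      intro y _
      refine ⟨algebraMap R A (σ y), by simp, ?_⟩
      rw [AlgHom.commutes, zero_add, pow_one]; exact hsec y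
    | succ m ihm =>
      intro y hy
      rw [pow_succ] at hy
      refine Submodule.mul_induction_on hy (fun u hu v hv => ?_) fun u v hu hv => ?_
      · obtain ⟨p, hp, hpu⟩ := ihm u hu
        obtain ⟨p', hp', hpv⟩ := hgen v hv
        refine ⟨p * p', by rw [pow_succ]; exact Ideal.mul_mem_mul hp hp', ?_⟩
        have e1 : u * v - φ (p * p') = (u - φ p) * v + φ p * (v - φ p') := by rw [map_mul]; ring
        rw [e1]
        refine Ideal.add_mem _ ?_ ?_
        · rw [pow_succ]; exact Ideal.mul_mem_mul hpu hv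
        · rw [show m + 1 + 1 = m + 2 from rfl, pow_add]
          exact Ideal.mul_mem_mul (hle m hp) hpv
      · obtain ⟨p, hp, hpu⟩ := hu
        obtain ⟨p', hp', hpv⟩ := hv
        exact ⟨p + p', Ideal.add_mem _ hp hp', by rw [map_add, add_sub_add_comm]; exact Ideal.add_mem _ hpu hpv⟩
  have hall : ∀ n : ℕ, ∀ s : S, ∃ a : A, s - φ a ∈ I ^ n := by
    intro n
    induction n with
    | zero => exact fun s => ⟨0, by simp⟩
    | succ n ih =>
      intro s
      obtain ⟨a, ha⟩ := ih s
      obtain ⟨b, -, hb⟩ := key n _ ha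
      exact ⟨a + b, by rwa [map_add, ← sub_sub]⟩
  have hsurj : ∀ n, Function.Surjective (Ideal.quotientMapₐ (I ^ n) φ (hle n)) := fun n q => by
    obtain ⟨s, rfl⟩ := Ideal.Quotient.mk_surjective q
    obtain ⟨a, ha⟩ := hall n s
    exact ⟨Ideal.Quotient.mk _ a, (Ideal.Quotient.eq.mpr ha).symm⟩
  -- the first order retraction
  let c : S → Fin d → R := fun s => e (I.toCotangent ⟨_, hsec s⟩)
  have hc_eq : ∀ s (z : I), ((z : S) = s - algebraMap R S (σ s)) → e (I.toCotangent z) = c s := fun s z hz => by
    show _ = e _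
    exact congrArg (fun t => e (I.toCotangent t)) (Subtype.ext hz)
  have hc_add : ∀ s t, c (s + t) = c s + c t := fun s t => by
    rw [← hc_eq (s + t) (⟨_, hsec s⟩ + ⟨_, hsec t⟩) (by
      rw [Submodule.coe_add, map_add σ, map_add]; exact (add_sub_add_comm _ _ _ _).symm), map_add, map_add]
  have hc_mul : ∀ s t, c (s * t) = σ s • c t + σ t • c s := fun s t => by
    let z : I := σ s • ⟨_, hsec t⟩ + σ t • ⟨_, hsec s⟩
    have hz : e (I.toCotangent z) = σ s • c t + σ t • c s := by
      show e ((I.toCotangent.restrictScalars R) z) = _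
      simp only [z, map_add, map_smul, LinearMap.restrictScalars_apply]
      rfl
    rw [← hz]
    refine congrArg e ((Ideal.toCotangent_eq I).mpr ?_)
    rw [pow_two]
    have e1 : (s * t - algebraMap R S (σ (s * t))) - (z : S) =
        (s - algebraMap R S (σ s)) * (t - algebraMap R S (σ t)) := by
      simp only [z, Submodule.coe_add, Submodule.coe_smul_of_tower]
      simp only [Algebra.smul_def, map_mul]
      ring
    rw [e1]
    exact Ideal.mul_mem_mul (hsec s) (hsec t)
  have hc_alg : ∀ r, c (algebraMap R S r) = 0 := fun r => by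
    rw [← hc_eq (algebraMap R S r) 0 (by simp), map_zero, map_zero]
  let L : (Fin d → R) →ₗ[R] A := Fintype.linearCombination R MvPolynomial.X
  have hLP : ∀ v, L v ∈ P := fun v => by
    rw [Fintype.linearCombination_apply]
    exact Ideal.sum_mem _ fun i _ => Submodule.smul_of_tower_mem _ _ (Ideal.subset_span ⟨i, rfl⟩)
  let ψ₂ : S →ₐ[R] A ⧸ P ^ 2 :=
    { toFun := fun s => Ideal.Quotient.mk _ (algebraMap R A (σ s) + L (c s))
      map_zero' := by
        have : c 0 = 0 := by simpa using hc_alg 0
        simp [this]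
      map_one' := by
        have : c 1 = 0 := by simpa using hc_alg 1
        simp [this]
      map_add' := fun s t => by
        simp only [map_add, hc_add]
        abel
      map_mul' := fun s t => by
        rw [← map_mul (Ideal.Quotient.mk (P ^ 2)), Ideal.Quotient.eq, hc_mul, map_add, map_smul, map_smul,
          map_mul, map_mul, Algebra.smul_def, Algebra.smul_def]
        have e1 : algebraMap R A (σ s) * algebraMap R A (σ t) +
            (algebraMap R A (σ s) * L (c t) + algebraMap R A (σ t) * L (c s)) -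
            (algebraMap R A (σ s) + L (c s)) * (algebraMap R A (σ t) + L (c t)) = -(L (c s) * L (c t)) := by ring
        rw [e1, pow_two]
        exact neg_mem (Ideal.mul_mem_mul (hLP _) (hLP _))
      commutes' := fun r => by
        show Ideal.Quotient.mk _ (algebraMap R A (σ (algebraMap R S r)) + L (c (algebraMap R S r))) = _
        rw [hc_alg, map_zero, add_zero, AlgHom.commutes]
        rfl }
  have hψ₂x : ∀ i, ψ₂ (x i) = Ideal.Quotient.mk _ (MvPolynomial.X i) := fun i => by
    show Ideal.Quotient.mk _ _ = _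
    have h0 : σ (x i) = 0 := (x i).2
    rw [← hc_eq (x i : S) (x i) (by rw [h0, map_zero, sub_zero]), hx, LinearEquiv.apply_symm_apply, h0, map_zero,
      zero_add, Fintype.linearCombination_apply_single, one_smul]
  -- injectivity modulo every power
  have hinj : ∀ n, Function.Injective (Ideal.quotientMapₐ (I ^ n) φ (hle n)) := by
    intro n
    let π : A ⧸ P ^ (n + 2) →ₐ[R] A ⧸ P ^ 2 := Ideal.Quotient.factorₐ R (Ideal.pow_le_pow_right (by omega))
    have hπs : Function.Surjective π := Ideal.Quotient.factor_surjective (Ideal.pow_le_pow_right (by omega))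
    have hπn : IsNilpotent (RingHom.ker (π : A ⧸ P ^ (n + 2) →+* A ⧸ P ^ 2)) := by
      refine ⟨n + 2, eq_bot_iff.mpr ?_⟩
      have hker : RingHom.ker (π : A ⧸ P ^ (n + 2) →+* A ⧸ P ^ 2) ≤ P.map (Ideal.Quotient.mk _) := by
        intro z hz
        obtain ⟨a, rfl⟩ := Ideal.Quotient.mk_surjective z
        refine Ideal.mem_map_of_mem _ (Ideal.pow_le_self two_ne_zero ?_)
        exact Ideal.Quotient.eq_zero_iff_mem.mp hz
      refine (Ideal.pow_right_mono hker _).trans ?_
      rw [← Ideal.map_pow, Ideal.map_quotient_self]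
    let ψ : S →ₐ[R] A ⧸ P ^ (n + 2) := Algebra.FormallySmooth.liftOfSurjective ψ₂ π hπs hπn
    have hψπ : ∀ s, π (ψ s) = ψ₂ s := fun s => Algebra.FormallySmooth.liftOfSurjective_apply _ π hπs hπn s
    choose y hy using fun i => Ideal.Quotient.mk_surjective (ψ (x i))
    have hyX : ∀ i, y i - MvPolynomial.X i ∈ P ^ 2 := fun i => by
      rw [← Ideal.Quotient.eq, ← hψ₂x, ← hψπ, ← hy]
      rfl
    let g : A →ₐ[R] A := MvPolynomial.aeval y
    have hgφ : (Ideal.Quotient.mkₐ R (P ^ (n + 2))).comp g = ψ.comp φ := by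
      refine MvPolynomial.algHom_ext fun i => ?_
      show Ideal.Quotient.mk _ (g (MvPolynomial.X i)) = ψ (φ (MvPolynomial.X i))
      rw [MvPolynomial.aeval_X, MvPolynomial.aeval_X, hy]
    -- `g` is the identity on the associated graded ring
    have hgP : ∀ a ∈ P, g a ∈ P := fun a ha => by
      refine Submodule.span_induction (p := fun a _ => g a ∈ P) ?_ (by simp) (fun u v _ _ hu hv => by
        rw [map_add]; exact add_mem hu hv) (fun r u _ hu => by
        rw [smul_eq_mul, map_mul]; exact Ideal.mul_mem_left _ _ hu) ha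
      rintro _ ⟨i, rfl⟩
      rw [MvPolynomial.aeval_X, ← sub_add_cancel (y i) (MvPolynomial.X i)]
      exact add_mem (Ideal.pow_le_self two_ne_zero (hyX i)) (Ideal.subset_span ⟨i, rfl⟩)
    have hg0 : ∀ a : A, g a - a ∈ P := fun a => by
      have : (Ideal.Quotient.mkₐ R P).comp g = Ideal.Quotient.mkₐ R P := by
        refine MvPolynomial.algHom_ext fun i => ?_
        show Ideal.Quotient.mk _ (g (MvPolynomial.X i)) = Ideal.Quotient.mk _ (MvPolynomial.X i)
        rw [MvPolynomial.aeval_X, Ideal.Quotient.eq]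
        exact Ideal.pow_le_self two_ne_zero (hyX i)
      exact Ideal.Quotient.eq.mp (AlgHom.congr_fun this a)
    have hg1 : ∀ a ∈ P, g a - a ∈ P ^ 2 := fun a ha => by
      refine Submodule.span_induction (p := fun a _ => g a - a ∈ P ^ 2) ?_ (by simp) (fun u v _ _ hu hv => by
        rw [map_add, add_sub_add_comm]; exact add_mem hu hv) (fun r u hu' hu => by
        rw [smul_eq_mul, map_mul, show g r * g u - r * u = (g r - r) * g u + r * (g u - u) by ring]
        refine add_mem ?_ (Ideal.mul_mem_left _ _ hu)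
        rw [pow_two]
        exact Ideal.mul_mem_mul (hg0 r) (hgP u hu')) ha
      rintro _ ⟨i, rfl⟩
      rw [MvPolynomial.aeval_X]
      exact hyX i
    have hgk : ∀ k, ∀ a ∈ P ^ k, g a - a ∈ P ^ (k + 1) := by
      intro k
      induction k with
      | zero => intro a _; rw [zero_add, pow_one]; exact hg0 a
      | succ k ih =>
        intro a ha
        rw [pow_succ] at ha
        refine Submodule.mul_induction_on ha (fun u hu v hv => ?_) fun u v hu hv => by
          rw [map_add, add_sub_add_comm]; exact add_mem hu hv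
        rw [map_mul, show g u * g v - u * v = (g u - u) * g v + u * (g v - v) by ring]
        refine add_mem ?_ ?_
        · rw [pow_succ]; exact Ideal.mul_mem_mul (ih u hu) (hgP v hv)
        · rw [show k + 1 + 1 = k + 2 from rfl, pow_add]; exact Ideal.mul_mem_mul hu (hg1 v hv)
    have hdown : ∀ a, g a ∈ P ^ n → ∀ k ≤ n, a ∈ P ^ k := fun a ha k => by
      induction k with
      | zero => simp
      | succ k ih =>
        intro hk
        have := sub_mem (Ideal.pow_le_pow_right hk ha) (hgk k a (ih (by omega)))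
        rwa [sub_sub_cancel] at this
    rw [injective_iff_map_eq_zero]
    intro q hq
    obtain ⟨a, rfl⟩ := Ideal.Quotient.mk_surjective q
    have hφa : φ a ∈ I ^ n := Ideal.Quotient.eq_zero_iff_mem.mp hq
    refine Ideal.Quotient.eq_zero_iff_mem.mpr (hdown a ?_ n le_rfl)
    -- `ψ` maps `I ^ n` into `P ^ n`
    have hn2 : P ^ (n + 2) ≤ P ^ n := Ideal.pow_le_pow_right (by omega)
    let χ : S →ₐ[R] A ⧸ P ^ n := (Ideal.Quotient.factorₐ R hn2).comp ψ
    have hI : I ≤ (P.map (Ideal.Quotient.mk (P ^ n))).comap χ.toRingHom := fun s hs => by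
      obtain ⟨b, hb⟩ := Ideal.Quotient.mk_surjective (ψ s)
      have h2 : Ideal.Quotient.mk (P ^ 2) b = ψ₂ s := by rw [← hψπ, ← hb]; rfl
      have h3 : b - (algebraMap R A (σ s) + L (c s)) ∈ P ^ 2 := Ideal.Quotient.eq.mp h2
      have hbP : b ∈ P := by
        have h0 : σ s = 0 := hs
        rw [h0, map_zero, zero_add] at h3
        have := add_mem (Ideal.pow_le_self two_ne_zero h3) (hLP (c s))
        rwa [sub_add_cancel] at this
      show χ s ∈ P.map (Ideal.Quotient.mk (P ^ n))
      have : χ s = Ideal.Quotient.mk (P ^ n) b := by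
        show Ideal.Quotient.factorₐ R hn2 (ψ s) = _
        rw [← hb]; rfl
      rw [this]
      exact Ideal.mem_map_of_mem _ hbP
    have h4 : χ (φ a) ∈ (P.map (Ideal.Quotient.mk (P ^ n))) ^ n := by
      have := (Ideal.le_comap_pow χ.toRingHom n) (Ideal.pow_right_mono hI n hφa)
      exact this
    rw [← Ideal.map_pow, Ideal.map_quotient_self, Ideal.mem_bot] at h4
    have h5 : χ (φ a) = Ideal.Quotient.mk (P ^ n) (g a) := by
      show Ideal.Quotient.factorₐ R hn2 (ψ (φ a)) = _
      rw [show ψ (φ a) = Ideal.Quotient.mk _ (g a) from (AlgHom.congr_fun hgφ a).symm]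
      rfl
    rw [h5] at h4
    exact Ideal.Quotient.eq_zero_iff_mem.mp h4
  obtain ⟨E⟩ := completion_equiv_of_bijective_quotients P I φ hle (fun n => ⟨hinj n, hsurj n⟩)
  exact ⟨E.symm.trans ((MvPowerSeries.toAdicCompletionAlgEquiv (Fin d) R).restrictScalars R).symm⟩

end Groth.Agent.CAlg1
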