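import Groth.Agent.Cohen12.Structure
import Groth.Agent.Cohen12.RegularFlat
import Groth.Agent.EGA4Alg4.RegCompletion
import Groth.Agent.FSPow12.Basic
import Groth.Prelude.Def_Found

/-! Cohen presentations of local homomorphisms. -/

set_option autoImplicit false
set_option maxHeartbeats 1000000
universe u

open IsLocalRing

namespace Groth.Agent.CAlg1

theorem isRegularRing_of_isRegularLocalRing (R : Type u) [CommRing R] [IsRegularLocalRing R] : IsRegularRing R :=
  EGA4Alg4.RegCompletion13.isRegularRing_of_isMaximal fun M hM => by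
    obtain rfl := IsLocalRing.eq_maximalIdeal hM
    exact IsRegularLocalRing.of_ringEquiv (IsLocalization.atUnits R (maximalIdeal R).primeCompl
      (S := Localization.AtPrime (maximalIdeal R)) fun x hx => of_not_not fun hu => hx ((mem_maximalIdeal x).mpr hu)).toRingEquiv

/-- Local homomorphisms out of power series rings are determined by coefficients and variables. -/
theorem powerSeries_hom_ext {W B : Type u} [CommRing W] [IsLocalRing W] [CommRing B] [IsLocalRing B]
    [IsNoetherianRing B] {n : ℕ} (f g : MvPowerSeries (Fin n) W →+* B)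
    (hf : ∀ i, f (MvPowerSeries.X i) ∈ maximalIdeal B)
    (hC : ∀ a, f (MvPowerSeries.C a) = g (MvPowerSeries.C a))
    (hX : ∀ i, f (MvPowerSeries.X i) = g (MvPowerSeries.X i)) : f = g := by
  refine RingHom.ext fun x => sub_eq_zero.mp ?_
  have hh : IsHausdorff (maximalIdeal B) B := IsHausdorff.of_isLocalRing _ _ (maximalIdeal.isMaximal B).ne_top
  refine IsHausdorff.haus hh _ fun m => ?_
  rw [SModEq.zero, smul_eq_mul, Ideal.mul_top]
  obtain ⟨P, hP⟩ := FSPow12.exists_approx m x
  have hpoly : f.comp MvPolynomial.coeToMvPowerSeries.ringHom = g.comp MvPolynomial.coeToMvPowerSeries.ringHom := by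
    refine MvPolynomial.ringHom_ext (fun a => ?_) fun i => ?_
    · simpa [MvPolynomial.coeToMvPowerSeries.ringHom_apply] using hC a
    · simpa [MvPolynomial.coeToMvPowerSeries.ringHom_apply] using hX i
  have hle : ∀ h : MvPowerSeries (Fin n) W →+* B, (∀ i, h (MvPowerSeries.X i) ∈ maximalIdeal B) →
      h (x - (P : MvPowerSeries (Fin n) W)) ∈ maximalIdeal B ^ m := by
    intro h hh
    rw [FSPow12.ker_constantCoeff] at hP
    have := Ideal.mem_map_of_mem h hP
    rw [Ideal.map_pow, Ideal.map_span] at this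
    refine Ideal.pow_right_mono (Ideal.span_le.mpr ?_) m this
    rintro _ ⟨_, ⟨i, rfl⟩, rfl⟩
    exact hh i
  have h1 := hle f hf
  have h2 := hle g fun i => hX i ▸ hf i
  have h3 : f (P : MvPowerSeries (Fin n) W) = g (P : MvPowerSeries (Fin n) W) := RingHom.congr_fun hpoly P
  have h4 := sub_mem h1 h2
  rw [map_sub, map_sub, h3, sub_sub_sub_cancel_right] at h4
  exact h4

theorem exists_cohen_presentation_hom {A B : Type u} [CommRing A] [CommRing B]
    [IsLocalRing A] [IsLocalRing B] [IsNoetherianRing A] [IsNoetherianRing B]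
    [IsAdicComplete (maximalIdeal A) A] [IsAdicComplete (maximalIdeal B) B]
    [Algebra A B] [IsLocalHom (algebraMap A B)] :
    ∃ (Λ Λ' : Type u) (_ : CommRing Λ) (_ : CommRing Λ') (_ : IsLocalRing Λ) (n m : ℕ)
      (ρ : MvPowerSeries (Fin n) Λ →+* A) (σ : MvPowerSeries (Fin m) Λ' →+* B)
      (τ : MvPowerSeries (Fin n) Λ →+* MvPowerSeries (Fin m) Λ'),
      ((CharZero (ResidueField A) ∧ IsField Λ ∧ IsField Λ') ∨
        (¬ CharZero (ResidueField A) ∧ CAlg.IsCohenRing Λ ∧ CAlg.IsCohenRing Λ')) ∧
        Function.Surjective ρ ∧ Function.Surjective σ ∧ σ.comp τ = (algebraMap A B).comp ρ ∧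
        τ.Flat ∧ IsRegularRing (MvPowerSeries (Fin m) Λ' ⧸
          (maximalIdeal (MvPowerSeries (Fin n) Λ)).map τ) := by
  classical
  obtain ⟨W, _, _, hW, w, hwl, hw⟩ := Cohen12.exists_cohen_hom A
  obtain ⟨W', _, _, hW', w', hwl', hw'⟩ := Cohen12.exists_cohen_hom B
  obtain ⟨hWN, hWc, hWd, hW0, p, hp, hmW⟩ := Cohen12.cohen_struct hW
  obtain ⟨hWN', hWc', hWd', hW0', p', hp', hmW'⟩ := Cohen12.cohen_struct hW'
  have hpA : CharP (ResidueField A) p :=
    (RingHom.charP_iff (ResidueField.map w) (RingHom.injective _) p).mp hp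
  have hpB : CharP (ResidueField B) p :=
    (RingHom.charP_iff (ResidueField.map (algebraMap A B)) (RingHom.injective _) p).mp hpA
  have hp'B : CharP (ResidueField B) p' :=
    (RingHom.charP_iff (ResidueField.map w') (RingHom.injective _) p').mp hp'
  obtain rfl : p = p' := CharP.eq (ResidueField B) hpB hp'B
  have hclass : (CharZero (ResidueField A) ∧ IsField W ∧ IsField W') ∨
      (¬ CharZero (ResidueField A) ∧ CAlg.IsCohenRing W ∧ CAlg.IsCohenRing W') := by
    by_cases h0 : p = 0
    · subst h0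
      refine Or.inl ⟨CharP.charP_to_charZero _, ?_, ?_⟩
      · exact isField_iff_maximalIdeal_eq.mpr (by rw [hmW]; simp)
      · exact isField_iff_maximalIdeal_eq.mpr (by rw [hmW']; simp)
    · refine Or.inr ⟨fun hz => h0 (CharP.eq (ResidueField A) hpA (CharP.ofCharZero _)), ?_, ?_⟩
      · refine hW.resolve_left fun h => h0 (CharP.eq (ResidueField W) hp ?_)
        let := h.1.toField
        have := h.2
        have : CharZero (ResidueField W) := charZero_of_injective_ringHom (RingHom.injective (residue W))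
        exact CharP.ofCharZero _
      · refine hW'.resolve_left fun h => h0 (CharP.eq (ResidueField W') hp' ?_)
        let := h.1.toField
        have := h.2
        have : CharZero (ResidueField W') := charZero_of_injective_ringHom (RingHom.injective (residue W'))
        exact CharP.ofCharZero _
  obtain ⟨n, ρ, hρs, hρl, hρC⟩ := Cohen12.exists_surjection_of_cohen_hom w hw
  obtain ⟨m₀, σ₀, hσ₀s, hσ₀l, hσ₀C⟩ := Cohen12.exists_surjection_of_cohen_hom w' hw'
  let m := n + m₀
  let R := MvPowerSeries (Fin n) W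
  let S := MvPowerSeries (Fin m) W'
  obtain ⟨hRreg, hRc, hRdim⟩ := Cohen12.regular_powerSeries_cohen (W := W) n hW
  obtain ⟨hSreg, hSc, hSdim⟩ := Cohen12.regular_powerSeries_cohen (W := W') m hW'
  have hSN := Cohen12.isNoetherianRing_powerSeries W' m
  let ab := algebraMap A B
  let img : Fin m → B := Fin.append (fun i => ab (ρ (MvPowerSeries.X i))) (fun j => σ₀ (MvPowerSeries.X j))
  have himg : ∀ i, img i ∈ maximalIdeal B := fun i => by
    induction i using Fin.addCases with
    | left i =>
      simp only [img, Fin.append_left]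
      exact map_nonunit ab _ (map_nonunit ρ _ ((Cohen12.mem_maximalIdeal_powerSeries _).mpr (by simp)))
    | right j =>
      simp only [img, Fin.append_right]
      exact map_nonunit σ₀ _ ((Cohen12.mem_maximalIdeal_powerSeries _).mpr (by simp))
  obtain ⟨σ, hσC, hσX⟩ := LA18.exists_powerSeries_hom (maximalIdeal B) w' img himg
  have hσl : (maximalIdeal S).map σ ≤ maximalIdeal B := by
    rw [Cohen12.maximalIdeal_powerSeries, Ideal.map_sup, Ideal.map_map, Ideal.map_span]
    refine sup_le ?_ (Ideal.span_le.mpr ?_)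
    · rw [show σ.comp (MvPowerSeries.C : W' →+* S) = w' from RingHom.ext hσC]
      exact ((local_hom_TFAE w').out 0 2).mp ‹_›
    · rintro _ ⟨_, ⟨i, rfl⟩, rfl⟩
      rw [SetLike.mem_coe, hσX]
      exact himg i
  have : IsLocalHom σ := ((local_hom_TFAE σ).out 2 0).mp hσl
  have hσs : Function.Surjective σ := by
    have hle0 : maximalIdeal B ≤ (maximalIdeal S).map σ := by
      have h0 : maximalIdeal B ≤ (maximalIdeal (MvPowerSeries (Fin m₀) W')).map σ₀ := fun b hb => by
        obtain ⟨z, rfl⟩ := hσ₀s b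
        exact Ideal.mem_map_of_mem _ ((mem_maximalIdeal _).mpr fun hu => (mem_maximalIdeal _).mp hb (hu.map σ₀))
      refine h0.trans ?_
      rw [Cohen12.maximalIdeal_powerSeries, Ideal.map_sup, Ideal.map_map, Ideal.map_span]
      refine sup_le ?_ (Ideal.span_le.mpr ?_)
      · rw [Ideal.map_le_iff_le_comap]
        intro a ha
        show σ₀ (MvPowerSeries.C a) ∈ (maximalIdeal S).map σ
        rw [hσ₀C, ← hσC]
        exact Ideal.mem_map_of_mem _ ((Cohen12.mem_maximalIdeal_powerSeries _).mpr (by simpa using ha))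
      · rintro _ ⟨_, ⟨j, rfl⟩, rfl⟩
        have : σ₀ (MvPowerSeries.X j) = σ (MvPowerSeries.X (Fin.natAdd n j)) := by simp [hσX, img]
        rw [SetLike.mem_coe, this]
        exact Ideal.mem_map_of_mem _ ((Cohen12.mem_maximalIdeal_powerSeries _).mpr (by simp))
    have := Cohen12.isAdicComplete_powerSeries (W := W') m
    refine CAlg6.surjective_of_cotangent σ hσl (fun z => ?_) (le_sup_of_le_left hle0)
    obtain ⟨a, rfl⟩ := hw' z
    exact ⟨MvPowerSeries.C a, by simp only [RingHom.comp_apply, hσC]⟩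
  -- lift the coefficients
  let eσ := RingHom.quotientKerEquivOfSurjective hσs
  have : Nontrivial (S ⧸ RingHom.ker σ) := Ideal.Quotient.nontrivial_iff.mpr (RingHom.ker_ne_top σ)
  have : IsLocalRing (S ⧸ RingHom.ker σ) := IsLocalRing.of_surjective' (Ideal.Quotient.mk _) Ideal.Quotient.mk_surjective
  let u : W →+* S ⧸ RingHom.ker σ := eσ.symm.toRingHom.comp (ab.comp w)
  have : IsLocalHom u := ⟨fun x hx => by
    have h1 := hx.map eσ
    rw [show eσ (u x) = ab (w x) from eσ.apply_symm_apply _] at h1
    exact isUnit_of_map_unit w x (isUnit_of_map_unit ab _ h1)⟩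
  obtain ⟨v, hvl, hv⟩ := Cohen12.exists_lift_cohen hW (RingHom.ker σ) u
  have hσv : ∀ a, σ (v a) = ab (w a) := fun a => by
    have h1 : eσ (Ideal.Quotient.mk _ (v a)) = eσ (u a) := congrArg eσ (RingHom.congr_fun hv a)
    exact h1.trans (eσ.apply_symm_apply _)
  obtain ⟨τ, hτC, hτX⟩ := LA18.exists_powerSeries_hom (maximalIdeal S) v
    (fun i : Fin n => (MvPowerSeries.X (Fin.castAdd m₀ i) : S))
    (fun i => (Cohen12.mem_maximalIdeal_powerSeries _).mpr (by simp))
  have hRN := Cohen12.isNoetherianRing_powerSeries W n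
  have hτmax : (maximalIdeal R).map τ ≤ maximalIdeal S := by
    rw [Cohen12.maximalIdeal_powerSeries, Ideal.map_sup, Ideal.map_map, Ideal.map_span]
    refine sup_le ?_ (Ideal.span_le.mpr ?_)
    · rw [show τ.comp (MvPowerSeries.C : W →+* R) = v from RingHom.ext hτC]
      exact ((local_hom_TFAE v).out 0 2).mp ‹_›
    · rintro _ ⟨_, ⟨i, rfl⟩, rfl⟩
      rw [SetLike.mem_coe, hτX]
      exact (Cohen12.mem_maximalIdeal_powerSeries _).mpr (by simp)
  have hτl : IsLocalHom τ := ((local_hom_TFAE τ).out 2 0).mp hτmax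
  have hcomm : σ.comp τ = ab.comp ρ :=
    powerSeries_hom_ext (σ.comp τ) (ab.comp ρ)
      (fun i => by
        rw [RingHom.comp_apply, hτX, hσX]
        exact himg _)
      (fun a => by simp only [RingHom.comp_apply, hτC, hσv, hρC])
      (fun i => by simp [hτX, hσX, img])
  refine ⟨W, W', inferInstance, inferInstance, inferInstance, n, m, ρ, σ, τ, hclass, hρs, hσs, hcomm, ?_⟩
  let : Algebra R S := τ.toAlgebra
  have : IsLocalHom (algebraMap R S) := hτl
  let M := (maximalIdeal R).map (algebraMap R S)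
  let F := S ⧸ M
  have : Nontrivial F := Ideal.Quotient.nontrivial_iff.mpr fun ht =>
    (maximalIdeal.isMaximal S).ne_top (top_le_iff.mp (ht ▸ hτmax))
  have : IsLocalRing F := IsLocalRing.of_surjective' (Ideal.Quotient.mk _) Ideal.Quotient.mk_surjective
  have hpM : (p : S) ∈ M := by
    have : (p : R) ∈ maximalIdeal R := by
      rw [Cohen12.mem_maximalIdeal_powerSeries, map_natCast, hmW]
      exact Ideal.mem_span_singleton_self _
    have := Ideal.mem_map_of_mem (algebraMap R S) this
    rwa [map_natCast] at this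
  have hXM : ∀ i, (MvPowerSeries.X (Fin.castAdd m₀ i) : S) ∈ M := fun i => by
    rw [← hτX]
    exact Ideal.mem_map_of_mem _ ((Cohen12.mem_maximalIdeal_powerSeries _).mpr (by simp))
  let Y : Fin m₀ → F := fun j => Ideal.Quotient.mk M (MvPowerSeries.X (Fin.natAdd n j))
  have hgenF : maximalIdeal F ≤ Ideal.span (Set.range Y) := by
    intro z hz
    obtain ⟨x, rfl⟩ := Ideal.Quotient.mk_surjective z
    have hx : x ∈ maximalIdeal S := (mem_maximalIdeal _).mpr fun hu => (mem_maximalIdeal _).mp hz (hu.map _)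
    have h1 : maximalIdeal S ≤ (Ideal.span (Set.range Y)).comap (Ideal.Quotient.mk M) := by
      rw [Cohen12.maximalIdeal_powerSeries, hmW', Ideal.map_span, Set.image_singleton, map_natCast]
      refine sup_le (Ideal.span_le.mpr ?_) (Ideal.span_le.mpr ?_)
      · rintro _ rfl
        rw [SetLike.mem_coe, Ideal.mem_comap, Ideal.Quotient.eq_zero_iff_mem.mpr hpM]
        exact zero_mem _
      · rintro _ ⟨i, rfl⟩
        induction i using Fin.addCases with
        | left i =>
          rw [SetLike.mem_coe, Ideal.mem_comap, Ideal.Quotient.eq_zero_iff_mem.mpr (hXM i)]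
          exact zero_mem _
        | right j => exact Ideal.subset_span ⟨j, rfl⟩
    exact h1 hx
  have hFle : (maximalIdeal F).spanFinrank ≤ m₀ := by
    have heq : maximalIdeal F = Ideal.span (Set.range Y) := le_antisymm hgenF <| Ideal.span_le.mpr <| by
      rintro _ ⟨j, rfl⟩
      have : IsLocalHom (Ideal.Quotient.mk M) := IsLocalHom.of_surjective _ Ideal.Quotient.mk_surjective
      exact map_nonunit _ _ ((Cohen12.mem_maximalIdeal_powerSeries _).mpr (by simp))
    rw [heq]
    refine (Submodule.spanFinrank_span_le_ncard_of_finite (Set.finite_range Y)).trans ?_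
    rw [← Set.image_univ]
    exact (Set.ncard_image_le Set.finite_univ).trans (by simp [Set.ncard_univ])
  let ε := if p = 0 then 0 else 1
  have hR : ringKrullDim R = ((n + ε : ℕ) : WithBot ℕ∞) := hRdim p hp
  have hS : ringKrullDim S = ((m + ε : ℕ) : WithBot ℕ∞) := hSdim p hp'
  have hFge : (m₀ : WithBot ℕ∞) ≤ ringKrullDim F := by
    have hspan : M.spanFinrank ≤ n + ε := by
      have h1 : M.spanFinrank ≤ (maximalIdeal R).spanFinrank :=
        Ideal.spanFinrank_map_le_of_fg _ (IsNoetherian.noetherian _)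
      have h2 : ((maximalIdeal R).spanFinrank : WithBot ℕ∞) = ((n + ε : ℕ) : WithBot ℕ∞) :=
        (IsRegularLocalRing.spanFinrank_maximalIdeal (R := R)).trans hR
      exact h1.trans (by exact_mod_cast h2.le)
    have h := ringKrullDim_le_ringKrullDim_quotient_add_spanFinrank M
      (hτmax.trans (IsLocalRing.ringJacobson_eq_maximalIdeal S).ge)
    rw [hS] at h
    obtain ⟨d, hd⟩ : ∃ d : ℕ, ringKrullDim F = (d : WithBot ℕ∞) := by
      have h1 : ringKrullDim F ≤ ((maximalIdeal F).spanFinrank : WithBot ℕ∞) :=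
        ringKrullDim_le_spanFinrank_maximalIdeal F
      have h0 : (0 : WithBot ℕ∞) ≤ ringKrullDim F := ringKrullDim_nonneg_of_nontrivial
      rcases hF : ringKrullDim F with _ | x
      · rw [hF] at h0; exact absurd h0 (WithBot.bot_lt_coe (0 : ℕ∞)).not_ge
      · rw [hF] at h1
        obtain ⟨d, rfl⟩ := ENat.ne_top_iff_exists.mp (ne_top_of_le_ne_top (ENat.natCast_ne_top _) (WithBot.coe_le_coe.mp h1))
        exact ⟨d, rfl⟩
    rw [hd] at h ⊢
    have h' : m + ε ≤ d + M.spanFinrank := by exact_mod_cast h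
    exact_mod_cast (by omega : m₀ ≤ d)
  have hFreg : IsRegularLocalRing F :=
    IsRegularLocalRing.of_spanFinrank_maximalIdeal_le F ((Nat.cast_le.mpr hFle).trans hFge)
  have hFdim : ringKrullDim F = (m₀ : WithBot ℕ∞) :=
    le_antisymm ((ringKrullDim_le_spanFinrank_maximalIdeal F).trans (Nat.cast_le.mpr hFle)) hFge
  have h3 : IsRegularLocalRing R ∧ IsRegularLocalRing F ∧ ringKrullDim S = ringKrullDim R + ringKrullDim F :=
    ⟨hRreg, hFreg, by
      rw [hS, hR, hFdim, ← Nat.cast_add]
      congr 1
      omega⟩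
  have htf : IsRegularLocalRing S ∧ IsRegularLocalRing F ∧ Module.Flat R S :=
    ((Cohen12.regular_flat_tfae (A := R) (B := S)).out 3 1).mp h3
  exact ⟨htf.2.2, isRegularRing_of_isRegularLocalRing F⟩

end Groth.Agent.CAlg1
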