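import Groth.Agent.EGA4Alg4.QuasiReg

/-! `H_1`-regular sequences are quasi-regular (elementary proof). -/

set_option autoImplicit false
universe u

open MvPolynomial

namespace Groth.Agent.CAlg1

variable {R : Type u} [CommRing R] {c : ℕ} (f : Fin c → R)

/-- The ideal of binomial relations `f_j X_i - f_i X_j`. -/
noncomputable def binomIdeal : Ideal (MvPolynomial (Fin c) R) :=
  Ideal.span (Set.range fun p : Fin c × Fin c => C (f p.2) * X p.1 - C (f p.1) * X p.2)

theorem binom_mem (i j : Fin c) : C (f j) * X i - C (f i) * X j ∈ binomIdeal f :=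
  Ideal.subset_span ⟨(i, j), rfl⟩

theorem exists_split_homogeneous {n : ℕ} {P : MvPolynomial (Fin c) R} (hP : P.IsHomogeneous (n + 1)) :
    ∃ Q : Fin c → MvPolynomial (Fin c) R, (∀ i, (Q i).IsHomogeneous n) ∧ ∑ i, X i * Q i = P := by
  classical
  have key : ∀ d ∈ P.support, ∃ Q : Fin c → MvPolynomial (Fin c) R, (∀ i, (Q i).IsHomogeneous n) ∧
      ∑ i, X i * Q i = monomial d (P.coeff d) := by
    intro d hd
    have hdeg : d.degree = n + 1 := by
      have := hP (mem_support_iff.mp hd)
      rwa [Finsupp.degree_eq_weight_one]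
    obtain ⟨i, hi⟩ : ∃ i, d i ≠ 0 := by
      by_contra h
      push Not at h
      have : d = 0 := Finsupp.ext h
      simp [this] at hdeg
    obtain ⟨d', rfl⟩ : ∃ d', d = Finsupp.single i 1 + d' :=
      ⟨d - Finsupp.single i 1, (add_tsub_cancel_of_le (Finsupp.single_le_iff.mpr (Nat.one_le_iff_ne_zero.mpr hi))).symm⟩
    refine ⟨Pi.single i (monomial d' (P.coeff (Finsupp.single i 1 + d'))), fun j => ?_, ?_⟩
    · rcases eq_or_ne j i with rfl | hj
      · rw [Pi.single_eq_same]
        refine isHomogeneous_monomial _ ?_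
        simp only [map_add, Finsupp.degree_single] at hdeg
        omega
      · rw [Pi.single_eq_of_ne hj]
        exact isHomogeneous_zero _ _ _
    · rw [Finset.sum_eq_single i (fun j _ hj => by rw [Pi.single_eq_of_ne hj, mul_zero])
        (fun h => absurd (Finset.mem_univ i) h), Pi.single_eq_same, X, monomial_mul, one_mul]
  choose! Q hQh hQs using key
  refine ⟨fun i => ∑ d ∈ P.support, Q d i, fun i => IsHomogeneous.sum _ _ _ fun d hd => hQh d hd i, ?_⟩
  simp only [Finset.mul_sum]
  rw [Finset.sum_comm, Finset.sum_congr rfl hQs, ← P.as_sum]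

/-- A tuple of polynomials killed by `f` pairs with the variables into the binomial ideal. -/
theorem sum_X_mul_mem (hf : CAlgX.IsH1Regular f) (Q : Fin c → MvPolynomial (Fin c) R)
    (hQ : ∑ i, C (f i) * Q i = 0) : ∑ i, X i * Q i ∈ binomIdeal f := by
  classical
  let T : Finset (Fin c →₀ ℕ) := Finset.univ.biUnion fun i => (Q i).support
  let Φ : (Fin c →₀ ℕ) → (Fin c → R) →ₗ[R] MvPolynomial (Fin c) R := fun d =>
    ∑ i, (LinearMap.mulLeft R (X i)).comp ((monomial d).comp (LinearMap.proj i))
  have hΦ : ∀ d v, Φ d v = ∑ i, X i * monomial d (v i) := fun d v => by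
    simp [Φ, LinearMap.sum_apply]
  have hdec : ∑ i, X i * Q i = ∑ d ∈ T, Φ d (fun i => (Q i).coeff d) := by
    simp only [hΦ]
    rw [Finset.sum_comm]
    refine Finset.sum_congr rfl fun i _ => ?_
    rw [← Finset.mul_sum]
    congr 1
    refine (Q i).as_sum.trans (Finset.sum_subset (fun d hd => Finset.mem_biUnion.mpr ⟨i, Finset.mem_univ _, hd⟩)
      fun d _ hd => ?_)
    rw [notMem_support_iff.mp hd, map_zero]
  rw [hdec]
  refine Ideal.sum_mem _ fun d _ => ?_
  have hrel : ∑ i, (Q i).coeff d * f i = 0 := by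
    have := congrArg (coeff d) hQ
    simp only [coeff_sum, coeff_C_mul, coeff_zero] at this
    simpa [mul_comm] using this
  refine (Submodule.map_le_iff_le_comap (p := Submodule.span R _)
    (q := (binomIdeal f).restrictScalars R)).mp ?_ (hf _ hrel)
  rw [Submodule.map_span, Submodule.span_le]
  rintro _ ⟨v, ⟨i, j, rfl⟩, rfl⟩
  rw [SetLike.mem_coe, Submodule.restrictScalars_mem, map_sub, hΦ, hΦ,
    Finset.sum_eq_single i (fun k _ hk => by rw [Pi.single_eq_of_ne hk, map_zero, mul_zero])
      (fun h => absurd (Finset.mem_univ i) h),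
    Finset.sum_eq_single j (fun k _ hk => by rw [Pi.single_eq_of_ne hk, map_zero, mul_zero])
      (fun h => absurd (Finset.mem_univ j) h),
    Pi.single_eq_same, Pi.single_eq_same]
  have : X i * monomial d (f j) - X j * monomial d (f i) =
      monomial d 1 * (C (f j) * X i - C (f i) * X j) := by
    rw [show monomial d (f j) = C (f j) * monomial d 1 by rw [C_mul_monomial, mul_one],
      show monomial d (f i) = C (f i) * monomial d 1 by rw [C_mul_monomial, mul_one]]
    ring
  rw [this]
  exact Ideal.mul_mem_left _ _ (binom_mem f i j)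

theorem mem_binomIdeal_of_eval_eq_zero (hf : CAlgX.IsH1Regular f) :
    ∀ (n : ℕ) (P : MvPolynomial (Fin c) R), P.IsHomogeneous n → eval f P = 0 → P ∈ binomIdeal f := by
  classical
  intro n
  induction n with
  | zero =>
    intro P hP he
    obtain ⟨r, rfl⟩ : ∃ r, C r = P := ⟨_, (totalDegree_eq_zero_iff_eq_C.mp (Nat.le_zero.mp hP.totalDegree_le)).symm⟩
    rw [eval_C] at he
    rw [he, map_zero]
    exact zero_mem _
  | succ n ih =>
    intro P hP he
    obtain ⟨Q, hQh, rfl⟩ := exists_split_homogeneous hP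
    have hmem : ∑ i, C (f i) * Q i ∈ binomIdeal f := by
      refine ih _ (IsHomogeneous.sum _ _ _ fun i _ => (hQh i).C_mul _) ?_
      simpa [map_sum] using he
    obtain ⟨a, ha⟩ := Ideal.mem_span_range_iff_exists_fun.mp hmem
    let Q' : Fin c → MvPolynomial (Fin c) R := fun i => Q i + ∑ j, (a (i, j) - a (j, i)) * X j
    have hrw : ∀ w : Fin c → MvPolynomial (Fin c) R, ∑ i, w i * Q' i =
        ∑ i, w i * Q i + ∑ i, ∑ j, a (i, j) * (w i * X j - w j * X i) := by
      intro w
      simp only [Q', mul_add, Finset.sum_add_distrib, Finset.mul_sum, sub_mul, mul_sub, Finset.sum_sub_distrib]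
      rw [Finset.sum_comm (f := fun i j => w i * (a (j, i) * X j))]
      refine congrArg₂ _ rfl (congrArg₂ _ (Finset.sum_congr rfl fun i _ => Finset.sum_congr rfl fun j _ => by ring)
        (Finset.sum_congr rfl fun i _ => Finset.sum_congr rfl fun j _ => by ring))
    have hX : ∑ i, X i * Q' i = ∑ i, X i * Q i := by
      rw [hrw]
      simp [mul_comm]
    have hC : ∑ i, C (f i) * Q' i = 0 := by
      rw [hrw, ← ha, Fintype.sum_prod_type, ← Finset.sum_add_distrib]
      refine Finset.sum_eq_zero fun i _ => ?_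
      rw [← Finset.sum_add_distrib]
      exact Finset.sum_eq_zero fun j _ => by ring
    rw [← hX]
    exact sum_X_mul_mem f hf Q' hC

theorem isQuasiRegular_of_isH1Regular (hf : CAlgX.IsH1Regular f) : CAlgX.IsQuasiRegular f := by
  intro n P hP hev d
  refine EGA4Alg4.coeff_mem_of_eval_eq_zero_imp f (fun P hP he => ?_) P hP hev d
  have h1 : binomIdeal f ≤ (Ideal.span (Set.range f)).map C := by
    rw [binomIdeal, Ideal.span_le]
    rintro _ ⟨⟨i, j⟩, rfl⟩
    refine Ideal.sub_mem _ ?_ ?_ <;>
      exact Ideal.mul_mem_right _ _ (Ideal.mem_map_of_mem _ (Ideal.subset_span ⟨_, rfl⟩))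
  exact mem_map_C_iff.mp (h1 (mem_binomIdeal_of_eval_eq_zero f hf n P hP he))

end Groth.Agent.CAlg1
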