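import Groth.Agent.LC15.DepthSeq
import Groth.Agent.EGA4Alg4.DepthChange

/-! The acyclicity lemma. -/

set_option autoImplicit false
universe u

open IsLocalRing CategoryTheory

namespace Groth.Agent.CAlg1

variable {R : Type u} [CommRing R] [IsLocalRing R] [IsNoetherianRing R]

theorem natCast_le_depth_of_subsingleton {M : Type u} [AddCommGroup M] [Module R M] [Subsingleton M]
    (n : ℕ∞) : n ≤ LocCoh.depth R M := by
  rw [EGA4Alg4.depth_of_subsingleton]; exact le_top

/-- In a submodule of a module of positive depth, a submodule of depth at least two is saturated. -/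
theorem mem_of_smul_mem_of_depth {M : Type u} [AddCommGroup M] [Module R M] [Module.Finite R M]
    (hM : (1 : ℕ∞) ≤ LocCoh.depth R M) (B : Submodule R M) (hB : (2 : ℕ∞) ≤ LocCoh.depth R B)
    (z : M) (hz : ∀ a ∈ maximalIdeal R, a • z ∈ B) : z ∈ B := by
  obtain ⟨w, hw, hwreg⟩ := LC15.exists_regular_of_idealDepth_pos (maximalIdeal R) (M := M)
    (by exact_mod_cast hM)
  obtain ⟨x, hx, hxreg⟩ := LC15.exists_regular_of_idealDepth_pos (maximalIdeal R) (M := B)
    (by exact le_trans (by norm_num) hB)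
  have hq : (1 : ℕ∞) ≤ LocCoh.depth R (QuotSMulTop x B) := by
    have h := LC15.idealDepth_quotSMulTop_add_one (maximalIdeal R) hx hxreg
    have h2 : (1 : ℕ∞) + 1 ≤ LocCoh.idealDepth (maximalIdeal R) (QuotSMulTop x B) + 1 := by
      rw [h, one_add_one_eq_two]; exact hB
    exact (ENat.add_le_add_iff_right (by simp)).mp h2
  obtain ⟨y, hy, hyreg⟩ := LC15.exists_regular_of_idealDepth_pos (maximalIdeal R) (M := QuotSMulTop x B)
    (by exact_mod_cast hq)
  -- `x • z` is divisible by `x` inside `B`
  have hdiv : (Submodule.Quotient.mk ⟨x • z, hz x hx⟩ : QuotSMulTop x B) = 0 := by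
    refine hyreg ?_
    show y • _ = y • _
    rw [smul_zero, ← Submodule.Quotient.mk_smul, Submodule.Quotient.mk_eq_zero,
      Submodule.mem_smul_pointwise_iff_exists]
    exact ⟨⟨y • z, hz y hy⟩, trivial, Subtype.ext (smul_comm x y z)⟩
  rw [Submodule.Quotient.mk_eq_zero, Submodule.mem_smul_pointwise_iff_exists] at hdiv
  obtain ⟨c, -, hc⟩ := hdiv
  have hc' : x • (c : M) = x • z := congrArg Subtype.val hc
  have hwz : w • (z - (c : M)) = w • (0 : M) := by
    have hmem : w • (z - (c : M)) ∈ B := by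
      rw [smul_sub]; exact B.sub_mem (hz w hw) (B.smul_mem _ c.2)
    have h0 : (⟨_, hmem⟩ : B) = 0 := hxreg (Subtype.ext (by
      show x • (w • (z - (c : M))) = ((x • (0 : B) : B) : M)
      rw [smul_zero, Submodule.coe_zero, smul_comm, smul_sub x, hc', sub_self, smul_zero]))
    rw [smul_zero]
    exact congrArg Subtype.val h0
  have := hwreg hwz
  rw [sub_eq_zero] at this
  exact this ▸ c.2

theorem one_le_depth_quotient {M : Type u} [AddCommGroup M] [Module R M] [Module.Finite R M]
    (hM : (1 : ℕ∞) ≤ LocCoh.depth R M) (Z B : Submodule R M) (hB : (2 : ℕ∞) ≤ LocCoh.depth R B) :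
    (1 : ℕ∞) ≤ LocCoh.depth R (Z ⧸ B.comap Z.subtype) := by
  rw [Order.one_le_iff_pos, pos_iff_ne_zero]
  intro h
  obtain ⟨hp, q, hq⟩ := isAssociatedPrime_iff.mp (EGA4Alg4.depth_eq_zero_iff.mp h)
  obtain ⟨z, rfl⟩ := Submodule.Quotient.mk_surjective _ q
  have hz : (z : M) ∈ B := mem_of_smul_mem_of_depth hM B hB z fun a ha => by
    rw [hq, Submodule.mem_colon_singleton, Submodule.mem_bot, ← Submodule.Quotient.mk_smul,
      Submodule.Quotient.mk_eq_zero] at ha
    exact ha
  refine hp.ne_top (hq.trans ((Ideal.eq_top_iff_one _).mpr ?_))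
  rw [Submodule.mem_colon_singleton, Submodule.mem_bot, one_smul, Submodule.Quotient.mk_eq_zero]
  exact hz

theorem depth_range_ge (X : ℕ → Type u) [∀ j, AddCommGroup (X j)] [∀ j, Module R (X j)]
    [∀ j, Module.Finite R (X j)] (d : ∀ j, X (j + 1) →ₗ[R] X j) (e i : ℕ)
    (hzero : ∀ j, e < j → Subsingleton (X j))
    (hdepth : ∀ j, j ≤ e → (j : ℕ∞) ≤ LocCoh.depth R (X j))
    (hex : ∀ j, i ≤ j → LinearMap.range (d (j + 1)) = LinearMap.ker (d j)) :
    ∀ n j, i ≤ j → e ≤ j + n → ((j + 1 : ℕ) : ℕ∞) ≤ LocCoh.depth R (LinearMap.range (d j)) := by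
  intro n
  induction n with
  | zero =>
    intro j _ hj
    have := hzero (j + 1) (by omega)
    have : Subsingleton (LinearMap.range (d j)) := (d j).surjective_rangeRestrict.subsingleton
    exact natCast_le_depth_of_subsingleton _
  | succ n ih =>
    intro j hij hj
    by_cases hje : e ≤ j
    · have := hzero (j + 1) (by omega)
      have : Subsingleton (LinearMap.range (d j)) := (d j).surjective_rangeRestrict.subsingleton
      exact natCast_le_depth_of_subsingleton _
    have h1 := ih (j + 1) (by omega) (by omega)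
    have hexact : Function.Exact (LinearMap.range (d (j + 1))).subtype (d j).rangeRestrict := by
      rw [LinearMap.exact_iff, LinearMap.ker_rangeRestrict, Submodule.range_subtype, hex j hij]
    have h2 := (LC15.idealDepth_shortExact (maximalIdeal R) Subtype.val_injective
      (d j).surjective_rangeRestrict hexact).2.1
    refine le_trans (le_min (hdepth (j + 1) (by omega)) ?_) h2
    refine le_trans (le_of_eq ?_) (tsub_le_tsub_right h1 1)
    rw [Nat.cast_add (j + 1) 1, Nat.cast_one]
    exact (ENat.addLECancellable_of_ne_top (by simp)).add_tsub_cancel_right.symm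

theorem acyclicity (C : ChainComplex (ModuleCat.{u} R) ℕ) (e : ℕ)
    (hzero : ∀ j, e < j → Limits.IsZero (C.X j)) (hfin : ∀ j, Module.Finite R (C.X j))
    (hdepth : ∀ j, j ≤ e → (j : ℕ∞) ≤ LocCoh.depth R (C.X j))
    (i : ℕ) (hi : 0 < i) (habove : ∀ j, i < j → C.ExactAt j) :
    1 ≤ LocCoh.depth R (C.homology i) := by
  obtain ⟨i, rfl⟩ : ∃ i', i = i' + 1 := ⟨i - 1, by omega⟩
  let eH := ((C.homologyIsoSc' (i + 1 + 1) (i + 1) i (by simp) (by simp)) ≪≫
    (C.sc' (i + 1 + 1) (i + 1) i).moduleCatHomologyIso).toLinearEquiv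
  by_cases hie : e < i + 1
  · have : Subsingleton (C.X (i + 1)) := ModuleCat.subsingleton_of_isZero (hzero _ hie)
    have : Subsingleton (C.sc' (i + 1 + 1) (i + 1) i).X₂ := this
    have : Subsingleton (LinearMap.ker (C.sc' (i + 1 + 1) (i + 1) i).g.hom) := inferInstance
    have hs : Subsingleton (C.sc' (i + 1 + 1) (i + 1) i).moduleCatLeftHomologyData.H :=
      (Submodule.mkQ_surjective _).subsingleton (f := fun z => Submodule.mkQ
        (LinearMap.range (C.sc' (i + 1 + 1) (i + 1) i).moduleCatToCycles) z)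
    have : Subsingleton (C.homology (i + 1)) := eH.injective.subsingleton
    exact natCast_le_depth_of_subsingleton _
  let d : ∀ j, C.X (j + 1) →ₗ[R] C.X j := fun j => (C.d (j + 1) j).hom
  have hex : ∀ j, i + 1 ≤ j → LinearMap.range (d (j + 1)) = LinearMap.ker (d j) := fun j hj => by
    have h := (C.exactAt_iff' (j + 1 + 1) (j + 1) j (by simp) (by simp)).mp (habove (j + 1) (by omega))
    exact (ShortComplex.moduleCat_exact_iff_range_eq_ker _).mp h
  have := fun j => hfin j
  have hB : (2 : ℕ∞) ≤ LocCoh.depth R (LinearMap.range (d (i + 1))) :=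
    le_trans (by exact_mod_cast (by omega : 2 ≤ i + 1 + 1))
      (depth_range_ge (fun j => C.X j) d e (i + 1) (fun j hj => ModuleCat.subsingleton_of_isZero (hzero j hj))
        hdepth hex e (i + 1) le_rfl (by omega))
  have hM : (1 : ℕ∞) ≤ LocCoh.depth R (C.X (i + 1)) :=
    le_trans (by exact_mod_cast (by omega : 1 ≤ i + 1)) (hdepth (i + 1) (by omega))
  have key := one_le_depth_quotient hM (LinearMap.ker (d i)) (LinearMap.range (d (i + 1))) hB
  refine key.trans (le_of_eq ?_)
  refine (EGA4Alg4.depth_eq_of_equiv ((Submodule.quotEquivOfEq _ _ ?_).trans eH.symm))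
  exact (LinearMap.range_codRestrict (LinearMap.ker (d i)) (d (i + 1)) _).symm

end Groth.Agent.CAlg1
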