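import Groth.Agent.Cohen12.Deform
import Groth.Agent.Cohen12.Fibre
import Groth.Agent.Cohen12.Completion
import Groth.Agent.EGA4Alg4.GeomRegFS
import Groth.Agent.S2461
import Groth.Agent.Unr55.DescAt
import Mathlib.RingTheory.AdicCompletion.AsTensorProduct

/-! Formal smoothness of local homomorphisms of Noetherian local rings: flatness, and the fibre criterion. -/

set_option autoImplicit false
set_option maxHeartbeats 800000
universe u

open IsLocalRing TensorProduct

namespace Groth.Agent.CAlg1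

theorem egaFS_of_adicFS {A B : Type u} [CommRing A] [CommRing B] [Algebra A B] (𝔞 : Ideal A) (𝔟 : Ideal B)
    (h : CAlgX.IsAdicFormallySmooth A B 𝔟) : EGA41.IsFormallySmoothAdic A 𝔞 B 𝔟 :=
  fun C _ _ J hJ _ u hu => (FSAdic12.isAdicFormallySmooth_iff 𝔟).mp h C J hJ ⟨1, by simp⟩ u hu

theorem adicFS_of_egaFS {A B : Type u} [CommRing A] [CommRing B] [Algebra A B] {𝔞 : Ideal A} {𝔟 : Ideal B}
    (hab : 𝔞.map (algebraMap A B) ≤ 𝔟) (h : EGA41.IsFormallySmoothAdic A 𝔞 B 𝔟) :
    CAlgX.IsAdicFormallySmooth A B 𝔟 := by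
  intro C _ _ J hJ ψ hψ
  obtain ⟨k, hk⟩ := hψ
  refine h C J ⟨2, hJ⟩ ⟨k * 2, ?_⟩ ψ ⟨k, hk⟩
  rw [pow_mul, Ideal.map_pow, eq_bot_iff, ← hJ]
  refine Ideal.pow_right_mono (Ideal.map_le_iff_le_comap.mpr fun a ha => ?_) 2
  rw [Ideal.mem_comap, ← Ideal.Quotient.eq_zero_iff_mem]
  show algebraMap A (C ⧸ J) a = 0
  rw [← ψ.commutes]
  refine hk _ (Ideal.pow_right_mono hab k ?_)
  rw [← Ideal.map_pow]
  exact Ideal.mem_map_of_mem _ ha

/-- Adic formal smoothness along ring isomorphisms. -/
theorem adicFS_of_equiv {k k' S S' : Type u} [CommRing k] [CommRing k'] [CommRing S] [CommRing S']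
    [Algebra k S] [Algebra k' S'] (e : k ≃+* k') (f : S ≃+* S')
    (hcomm : ∀ a, f (algebraMap k S a) = algebraMap k' S' (e a)) {𝔫 : Ideal S} {𝔫' : Ideal S'}
    (hn : 𝔫.map f.toRingHom = 𝔫') (h : CAlgX.IsAdicFormallySmooth k S 𝔫) :
    CAlgX.IsAdicFormallySmooth k' S' 𝔫' := by
  intro C _ _ J hJ ψ hψ
  obtain ⟨m, hm⟩ := hψ
  let : Algebra k C := ((algebraMap k' C).comp e.toRingHom).toAlgebra
  let ψ' : S →ₐ[k] C ⧸ J :=
    { ψ.toRingHom.comp f.toRingHom with
      commutes' := fun a => by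
        show ψ (f (algebraMap k S a)) = algebraMap k' (C ⧸ J) (e a)
        rw [hcomm, AlgHom.commutes] }
  obtain ⟨χ, hχ⟩ := h C J hJ ψ' ⟨m, fun x hx => hm _ (by
    rw [← hn, ← Ideal.map_pow]; exact Ideal.mem_map_of_mem f.toRingHom hx)⟩
  refine ⟨{ χ.toRingHom.comp f.symm.toRingHom with commutes' := fun a => ?_ }, AlgHom.ext fun x => ?_⟩
  · obtain ⟨a, rfl⟩ := e.surjective a
    show χ (f.symm (algebraMap k' S' (e a))) = _
    rw [← hcomm, f.symm_apply_apply, AlgHom.commutes]
    rfl
  · show Ideal.Quotient.mk J (χ (f.symm x)) = ψ x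
    refine (AlgHom.congr_fun hχ (f.symm x)).trans ?_
    show ψ (f (f.symm x)) = ψ x
    rw [f.apply_symm_apply]

section Local

variable {A B : Type u} [CommRing A] [IsLocalRing A] [IsNoetherianRing A] [CommRing B] [IsLocalRing B]
  [IsNoetherianRing B] [Algebra A B] [IsLocalHom (algebraMap A B)]

theorem flat_of_complete [IsAdicComplete (maximalIdeal B) B]
    (hfs : EGA41.IsFormallySmoothAdic A (maximalIdeal A) B (maximalIdeal B)) : Module.Flat A B := by
  let M := (maximalIdeal A).map (algebraMap A B)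
  have hM : M ≤ maximalIdeal B := ((local_hom_TFAE (algebraMap A B)).out 0 2).mp ‹_›
  let F := B ⧸ M
  have : Nontrivial F := Ideal.Quotient.nontrivial_iff.mpr fun ht =>
    (maximalIdeal.isMaximal B).ne_top (top_le_iff.mp (ht ▸ hM))
  have : IsLocalRing F := IsLocalRing.of_surjective' (Ideal.Quotient.mk _) Ideal.Quotient.mk_surjective
  have : IsLocalHom (Ideal.Quotient.mk M) := IsLocalHom.of_surjective _ Ideal.Quotient.mk_surjective
  have hmF : (maximalIdeal B).map (Ideal.Quotient.mk M) = maximalIdeal F := by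
    refine le_antisymm (Ideal.map_le_iff_le_comap.mpr fun b hb => map_nonunit _ b hb) fun x hx => ?_
    obtain ⟨b, rfl⟩ := Ideal.Quotient.mk_surjective x
    exact Ideal.mem_map_of_mem _ ((mem_maximalIdeal _).mpr fun hu => (mem_maximalIdeal _).mp hx (hu.map _))
  have hFS := Cohen12.formallySmooth_fibre (A := A) (A₀ := A) (B := B) (B₀ := B) (fun x => ⟨x, rfl⟩)
    (RingHom.id B) Function.surjective_id
    (by rw [(RingHom.injective_iff_ker_eq_bot (RingHom.id B)).mp Function.injective_id]; exact bot_le)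
    (fun a => rfl) hfs
  let : Field (A ⧸ maximalIdeal A) := Ideal.Quotient.field _
  have : IsRegularLocalRing F :=
    (Cohen12.regular_of_formallySmooth_field (k := A ⧸ maximalIdeal A) (A := F) (hmF ▸ hFS)).1
  have : IsAdicComplete (maximalIdeal F) F := Cohen12.isAdicComplete_quotient _
  let c₀ : ResidueField A →+* F := Ideal.Quotient.lift (maximalIdeal A)
    ((Ideal.Quotient.mk M).comp (algebraMap A B)) fun a ha =>
      Ideal.Quotient.eq_zero_iff_mem.mpr (Ideal.mem_map_of_mem _ ha)
  obtain ⟨B', _, _, hBN, f, π, hf, hc, hflat, hπ, hker, hcomm⟩ := Cohen12.exists_flat_lift F c₀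
  let : Algebra A B' := f.toAlgebra
  have : IsLocalHom (algebraMap A B') := hf
  have : Module.Flat A B' := hflat
  have : Nontrivial (B' ⧸ RingHom.ker π) := Ideal.Quotient.nontrivial_iff.mpr (RingHom.ker_ne_top π)
  have : IsLocalRing (B' ⧸ RingHom.ker π) := IsLocalRing.of_surjective' (Ideal.Quotient.mk _) Ideal.Quotient.mk_surjective
  let ε := RingHom.quotientKerEquivOfSurjective hπ
  let u : B →ₐ[A] B' ⧸ RingHom.ker π :=
    { ε.symm.toRingHom.comp (Ideal.Quotient.mk M) with
      commutes' := fun a => by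
        show ε.symm (Ideal.Quotient.mk _ (algebraMap A B a)) = _
        rw [RingEquiv.symm_apply_eq]
        exact (hcomm a).symm }
  have hmC : (maximalIdeal B').map (Ideal.Quotient.mk (RingHom.ker π)) = maximalIdeal (B' ⧸ RingHom.ker π) := by
    have : IsLocalHom (Ideal.Quotient.mk (RingHom.ker π)) := IsLocalHom.of_surjective _ Ideal.Quotient.mk_surjective
    refine le_antisymm (Ideal.map_le_iff_le_comap.mpr fun b hb => map_nonunit _ b hb) fun x hx => ?_
    obtain ⟨b, rfl⟩ := Ideal.Quotient.mk_surjective x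
    exact Ideal.mem_map_of_mem _ ((mem_maximalIdeal _).mpr fun hu => (mem_maximalIdeal _).mp hx (hu.map _))
  have : IsHausdorff ((maximalIdeal B').map (Ideal.Quotient.mk (RingHom.ker π))) (B' ⧸ RingHom.ker π) := by
    rw [hmC]; exact IsHausdorff.of_isLocalRing _ _ (maximalIdeal.isMaximal _).ne_top
  have hmC₀ : (maximalIdeal A).map (algebraMap A B') ≤ maximalIdeal B' :=
    ((local_hom_TFAE (algebraMap A B')).out 0 2).mp ‹_›
  obtain ⟨v, -, hv⟩ := FSAdic12.lift_to_complete (maximalIdeal A) (maximalIdeal B) (maximalIdeal B') hfs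
    ⟨1, by rw [pow_one]; exact hmC₀⟩ (RingHom.ker π)
    ⟨1, by rw [pow_one]; exact le_maximalIdeal (RingHom.ker_ne_top π)⟩ u ⟨1, by
      rw [pow_one, hmC, Ideal.map_le_iff_le_comap]
      intro b hb
      refine (mem_maximalIdeal _).mpr fun hu => ?_
      have h1 := hu.map ε
      rw [show ε (u.toRingHom b) = Ideal.Quotient.mk _ b from ε.apply_symm_apply _] at h1
      exact (mem_maximalIdeal _).mp (map_nonunit _ b hb) h1⟩
  have hvb : ∀ b, π (v b) = Ideal.Quotient.mk M b := fun b => by
    have h1 : ε (Ideal.Quotient.mk _ (v b)) = ε (u b) := congrArg ε (AlgHom.congr_fun hv b)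
    exact h1.trans (ε.apply_symm_apply _)
  have : IsLocalHom v.toRingHom :=
    ⟨fun b hb => isUnit_of_map_unit (Ideal.Quotient.mk M) b (hvb b ▸ hb.map π)⟩
  have hbij : Function.Bijective v := by
    refine Cohen12.bijective_of_flat_fibre v (fun y => ?_) fun x hx => ?_
    · obtain ⟨x, hx⟩ := Ideal.Quotient.mk_surjective (π y)
      refine ⟨x, ?_⟩
      have h1 : y - v x ∈ RingHom.ker π := by rw [RingHom.mem_ker, map_sub, hvb, hx, sub_self]
      rwa [hker] at h1
    · rw [← Ideal.Quotient.eq_zero_iff_mem, ← hvb]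
      exact (RingHom.mem_ker).mp (hker ▸ hx)
  exact Module.Flat.of_linearEquiv (AlgEquiv.ofBijective v hbij).toLinearEquiv

theorem flat_of_adicFS (h : CAlgX.IsAdicFormallySmooth A B (maximalIdeal B)) : Module.Flat A B := by
  let B' := AdicCompletion (maximalIdeal B) B
  have hmax : maximalIdeal B' = (maximalIdeal B).map (algebraMap B B') := AdicCompletion.maximalIdeal_eq_map
  have : IsNoetherianRing B' := Cohen12.isNoetherianRing_completion B
  have : IsAdicComplete (maximalIdeal B') B' := Cohen12.isAdicComplete_completion B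
  have : IsLocalHom (algebraMap B B') :=
    ((local_hom_TFAE (algebraMap B B')).out 2 0).mp hmax.ge
  have : IsLocalHom (algebraMap A B') := by
    rw [IsScalarTower.algebraMap_eq A B B']
    infer_instance
  have hB' : EGA41.IsFormallySmoothAdic A (maximalIdeal A) B' (maximalIdeal B') := by
    rw [hmax]
    exact (S2461.result (maximalIdeal A) (maximalIdeal B)).mp (egaFS_of_adicFS _ _ h)
  have : Module.Flat A B' := flat_of_complete hB'
  have : Module.FaithfullyFlat B B' := Module.FaithfullyFlat.of_flat_of_isLocalHom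
  exact Unr55.flat_of_flat_of_faithfullyFlat A B B'

theorem flat_geometricallyRegular_iff_adicFS :
    (Module.Flat A B ∧ CAlg.IsGeometricallyRegular (maximalIdeal A).ResidueField
        ((maximalIdeal A).Fiber B)) ↔ CAlgX.IsAdicFormallySmooth A B (maximalIdeal B) := by
  let m := maximalIdeal A
  let κ := m.ResidueField
  let M := m.map (algebraMap A B)
  have hM : M ≤ maximalIdeal B := ((local_hom_TFAE (algebraMap A B)).out 0 2).mp ‹_›
  let F := B ⧸ M
  have : Nontrivial F := Ideal.Quotient.nontrivial_iff.mpr fun ht =>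
    (maximalIdeal.isMaximal B).ne_top (top_le_iff.mp (ht ▸ hM))
  have : IsLocalRing F := IsLocalRing.of_surjective' (Ideal.Quotient.mk _) Ideal.Quotient.mk_surjective
  have : IsLocalHom (Ideal.Quotient.mk M) := IsLocalHom.of_surjective _ Ideal.Quotient.mk_surjective
  have hmF : (maximalIdeal B).map (Ideal.Quotient.mk M) = maximalIdeal F := by
    refine le_antisymm (Ideal.map_le_iff_le_comap.mpr fun b hb => map_nonunit _ b hb) fun x hx => ?_
    obtain ⟨b, rfl⟩ := Ideal.Quotient.mk_surjective x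
    exact Ideal.mem_map_of_mem _ ((mem_maximalIdeal _).mpr fun hu => (mem_maximalIdeal _).mp hx (hu.map _))
  let e : (A ⧸ m) ≃+* κ := RingEquiv.ofBijective _ (Ideal.bijective_algebraMap_quotient_residueField m)
  let : Algebra κ F := ((algebraMap (A ⧸ m) F).comp e.symm.toRingHom).toAlgebra
  have hsurj : Function.Surjective (algebraMap A κ) := fun z => by
    obtain ⟨q, rfl⟩ := e.surjective z
    obtain ⟨a, rfl⟩ := Ideal.Quotient.mk_surjective q
    exact ⟨a, rfl⟩
  obtain ⟨θ, hθ⟩ := Cohen12.exists_fibre_equiv (A₀ := κ) (B₀ := F) hsurj (Ideal.Quotient.mk M)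
    Ideal.Quotient.mk_surjective (by rw [Ideal.mk_ker, Ideal.ker_algebraMap_residueField])
    (fun a => by
      show _ = algebraMap (A ⧸ m) F (e.symm (e (Ideal.Quotient.mk m a)))
      rw [e.symm_apply_apply]
      rfl)
  let Φ := m.Fiber B
  have : IsLocalRing Φ := θ.symm.toRingEquiv.isLocalRing
  have : IsNoetherianRing Φ := isNoetherianRing_of_ringEquiv F θ.symm.toRingEquiv
  have hmax : (maximalIdeal F).map θ.symm.toRingEquiv.toRingHom = maximalIdeal Φ :=
    map_ringEquiv_maximalIdeal θ.symm.toRingEquiv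
  have hmax' : (maximalIdeal Φ).map θ.toRingEquiv.toRingHom = maximalIdeal F :=
    map_ringEquiv_maximalIdeal θ.toRingEquiv
  have hcomm : ∀ q : A ⧸ m, θ.symm.toRingEquiv (algebraMap (A ⧸ m) F q) = algebraMap κ Φ (e q) := fun q => by
    rw [← θ.symm.commutes]
    show θ.symm _ = θ.symm (algebraMap (A ⧸ m) F (e.symm (e q)))
    rw [e.symm_apply_apply]
  have hiff : CAlg.IsGeometricallyRegular κ Φ ↔
      CAlgX.IsAdicFormallySmooth (A ⧸ m) F ((maximalIdeal B).map (Ideal.Quotient.mk M)) := by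
    rw [← EGA4Alg4.GeomFS13.isAdicFormallySmooth_iff_isGeometricallyRegular, hmF]
    refine ⟨fun h => adicFS_of_equiv e.symm θ.toRingEquiv (fun z => θ.commutes z) hmax' h,
      fun h => adicFS_of_equiv e θ.symm.toRingEquiv hcomm hmax h⟩
  constructor
  · rintro ⟨hflat, hgeo⟩
    exact adicFS_of_egaFS hM (Cohen12.isFormallySmoothAdic_of_flat_fibre (hiff.mp hgeo))
  · intro h
    refine ⟨flat_of_adicFS h, hiff.mpr ?_⟩
    exact Cohen12.formallySmooth_fibre (A := A) (A₀ := A) (B := B) (B₀ := B) (fun x => ⟨x, rfl⟩)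
      (RingHom.id B) Function.surjective_id
      (by rw [(RingHom.injective_iff_ker_eq_bot (RingHom.id B)).mp Function.injective_id]; exact bot_le)
      (fun a => rfl) (egaFS_of_adicFS _ _ h)

end Local

end Groth.Agent.CAlg1
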