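import Groth.Agent.CAlg1.FSFlat

/-! Existence of formally smooth lifts of a formally smooth algebra over the residue field. -/

set_option autoImplicit false
set_option maxHeartbeats 800000
universe u

open IsLocalRing TensorProduct

namespace Groth.Agent.CAlg1

theorem exists_adicFS_lift {A B : Type u} [CommRing A] [IsLocalRing A]
    [IsNoetherianRing A] [CommRing B] [IsLocalRing B]
    [IsNoetherianRing B] [IsAdicComplete (maximalIdeal B) B]
    [Algebra (maximalIdeal A).ResidueField B]
    (hB : CAlgX.IsAdicFormallySmooth (maximalIdeal A).ResidueField B (maximalIdeal B)) :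
    ∃ (C : Type u) (_ : CommRing C) (_ : IsLocalRing C) (_ : Algebra A C),
      IsNoetherianRing C ∧ IsAdicComplete (maximalIdeal C) C ∧ IsLocalHom (algebraMap A C) ∧
        CAlgX.IsAdicFormallySmooth A C (maximalIdeal C) ∧
        Nonempty ((maximalIdeal A).Fiber C ≃ₐ[(maximalIdeal A).ResidueField] B) := by
  let m := maximalIdeal A
  let κ := m.ResidueField
  have : IsRegularLocalRing B := (Cohen12.regular_of_formallySmooth_field hB).1
  let e : (A ⧸ m) ≃+* κ := RingEquiv.ofBijective _ (Ideal.bijective_algebraMap_quotient_residueField m)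
  let c₀ : ResidueField A →+* B := (algebraMap κ B).comp e.toRingHom
  obtain ⟨C, _, _, hCN, f, π, hf, hc, hflat, hπ, hker, hcomm⟩ := Cohen12.exists_flat_lift B c₀
  let : Algebra A C := f.toAlgebra
  have : IsLocalHom (algebraMap A C) := hf
  have : Module.Flat A C := hflat
  let M := m.map (algebraMap A C)
  have hM : M ≤ maximalIdeal C := ((local_hom_TFAE (algebraMap A C)).out 0 2).mp ‹_›
  have hcommκ : ∀ a, π (algebraMap A C a) = algebraMap κ B (algebraMap A κ a) := fun a => hcomm a
  obtain ⟨θ, -⟩ := Cohen12.exists_fibre_equiv (A₀ := κ) (B₀ := B)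
    (fun z => by
      obtain ⟨q, rfl⟩ := e.surjective z
      obtain ⟨a, rfl⟩ := Ideal.Quotient.mk_surjective q
      exact ⟨a, rfl⟩)
    π hπ (by rw [hker, Ideal.ker_algebraMap_residueField]; rfl) hcommκ
  refine ⟨C, inferInstance, inferInstance, inferInstance, hCN, hc, hf, ?_, ⟨θ⟩⟩
  let g : (C ⧸ M) ≃+* B := (Ideal.quotEquivOfEq hker.symm).trans (RingHom.quotientKerEquivOfSurjective hπ)
  have hg : ∀ x, g (Ideal.Quotient.mk M x) = π x := fun x => rfl
  refine adicFS_of_egaFS hM (Cohen12.isFormallySmoothAdic_of_flat_fibre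
    (adicFS_of_equiv e.symm g.symm (fun z => ?_) ?_ hB))
  · rw [RingEquiv.symm_apply_eq]
    obtain ⟨q, rfl⟩ := e.surjective z
    obtain ⟨a, rfl⟩ := Ideal.Quotient.mk_surjective q
    rw [e.symm_apply_apply]
    show algebraMap κ B (algebraMap A κ a) = g (Ideal.Quotient.mk M (algebraMap A C a))
    rw [hg, hcommκ]
  · have : IsLocalHom π := IsLocalHom.of_surjective _ hπ
    refine le_antisymm (Ideal.map_le_iff_le_comap.mpr fun b hb => ?_) (Ideal.map_le_iff_le_comap.mpr fun x hx => ?_)
    · obtain ⟨x, rfl⟩ := hπ b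
      rw [Ideal.mem_comap, ← hg]
      show g.symm (g _) ∈ _
      rw [g.symm_apply_apply]
      exact Ideal.mem_map_of_mem _ ((mem_maximalIdeal _).mpr fun hu => (mem_maximalIdeal _).mp hb (hu.map π))
    · have h1 : π x ∈ maximalIdeal B := map_nonunit π x hx
      have h2 := Ideal.mem_map_of_mem g.symm.toRingHom h1
      rw [← hg] at h2
      rw [Ideal.mem_comap]
      simpa using h2

end Groth.Agent.CAlg1
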