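import Mathlib
import Groth.Agent.GRing57.LocRegular
import Groth.Agent.Hensel20.FormalRegular

/-! G-rings are detected at maximal ideals; henselization. -/

set_option autoImplicit false
set_option linter.style.haveILetI false
universe u

open IsLocalRing

namespace Groth.Agent.CAlg1.GR

theorem isGRing_iff_maximal {R : Type u} [CommRing R] [IsNoetherianRing R] :
    CAlg.IsGRing R ↔ ∀ (m : Ideal R) [m.IsMaximal],
      CAlg.IsRegularHom (Localization.AtPrime m)
        (AdicCompletion (maximalIdeal (Localization.AtPrime m)) (Localization.AtPrime m)) :=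
  ⟨fun h m _ => h.2 m, fun h => GRing57.isGRing_of_isMaximal h⟩

/-- localization at the maximal ideal of a local ring -/
noncomputable def equivAtPrime (R : Type u) [CommRing R] [IsLocalRing R] (m : Ideal R) [m.IsMaximal] :
    R ≃+* Localization.AtPrime m :=
  (IsLocalization.atUnits R m.primeCompl (S := Localization.AtPrime m) fun x hx => by
    have hm : m = maximalIdeal R := eq_maximalIdeal inferInstance
    subst hm
    exact notMem_maximalIdeal.mp hx).toRingEquiv

theorem isGRing_of_local {R : Type u} [CommRing R] [IsLocalRing R] [IsNoetherianRing R]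
    (h : CAlg.IsRegularHom R (AdicCompletion (maximalIdeal R) R)) : CAlg.IsGRing R := by
  refine GRing57.isGRing_of_isMaximal fun m _ => ?_
  exact GRing57.regCpl_of_ringEquiv (equivAtPrime R m) h

theorem regular_of_isGRing_local {R : Type u} [CommRing R] [IsLocalRing R] (h : CAlg.IsGRing R) :
    CAlg.IsRegularHom R (AdicCompletion (maximalIdeal R) R) := by
  haveI := h.1
  haveI : IsNoetherianRing (Localization.AtPrime (maximalIdeal R)) :=
    IsLocalization.isNoetherianRing (maximalIdeal R).primeCompl _ inferInstance
  exact GRing57.regCpl_of_ringEquiv (equivAtPrime R (maximalIdeal R)).symm (h.2 (maximalIdeal R))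

theorem isGRing_henselization {R S : Type u} [CommRing R] [IsLocalRing R] [IsNoetherianRing R]
    (hR : CAlg.IsGRing R) [CommRing S] [IsLocalRing S] [Algebra R S] [IsLocalHom (algebraMap R S)]
    [Hensel.IsHenselization R S] : CAlg.IsGRing S := by
  haveI : IsNoetherianRing S :=
    (Hensel20.isNoetherianRing_iff_of_equiv (Henz21.henselizationEquiv (R := R) S)).1 inferInstance
  exact isGRing_of_local ((Hensel20.henselization_isRegularHom_iff S).mpr (regular_of_isGRing_local hR))

end Groth.Agent.CAlg1.GR
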