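import Groth.Prelude
import Groth.Agent.Minor14.McCoy
import Groth.Agent.Minor14.Summand
import Groth.Agent.Minor14.Resolution

/-!
# Exact complexes of free modules: ranks and depth of the determinantal ideals (Buchsbaum-Eisenbud)
-/

set_option autoImplicit false
universe u

open CAlgX IsLocalRing RingTheory.Sequence Matrix

namespace Groth.Agent.CAlg1.BuchEis

/-- The alternating sum `n j - n (j+1) + ... ± n e`. -/
def altSum (n : ℕ → ℕ) (e j : ℕ) : ℤ := ∑ t ∈ Finset.Icc j e, (-1 : ℤ) ^ (t - j) * (n t : ℤ)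

theorem altSum_succ (n : ℕ → ℕ) {e j : ℕ} (h : j ≤ e) :
    altSum n e j = n j - altSum n e (j + 1) := by
  rw [altSum, ← Finset.insert_Icc_add_one_left_eq_Icc h, Finset.sum_insert (by simp), Nat.sub_self,
    pow_zero, one_mul, sub_eq_add_neg, altSum, ← Finset.sum_neg_distrib]
  congr 1
  refine Finset.sum_congr rfl fun t ht => ?_
  rw [Finset.mem_Icc] at ht
  rw [show t - j = (t - (j + 1)) + 1 by omega, pow_succ]
  ring

theorem rho_eq_altSum (n : ℕ → ℕ) (e : ℕ) : ∀ k, k < e → Minor14.rho n e k = altSum n e (e - k)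
  | 0, _ => by simp [Minor14.rho, altSum]
  | k + 1, h => by
    rw [Minor14.rho, rho_eq_altSum n e k (by omega), altSum_succ n (show e - (k + 1) ≤ e by omega),
      show e - 1 - k = e - (k + 1) by omega, show e - (k + 1) + 1 = e - k by omega]

theorem altSum_shift (n : ℕ → ℕ) (e j : ℕ) :
    altSum (fun i => n (i + 1)) e j = altSum n (e + 1) (j + 1) := by
  unfold altSum
  refine Finset.sum_nbij' (· + 1) (· - 1) ?_ ?_ ?_ ?_ ?_
  · intro a ha; simp only [Finset.mem_Icc] at ha ⊢; omega
  · intro a ha; simp only [Finset.mem_Icc] at ha ⊢; omega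
  · intro a _; simp
  · intro a ha; simp only [Finset.mem_Icc] at ha; omega
  · intro a _
    rw [show a + 1 - (j + 1) = a - j by omega]

section minors

variable {R S : Type u} [CommRing R] [CommRing S] {a b : ℕ}

theorem minorIdeal_map (φ : R →+* S) (A : Matrix (Fin a) (Fin b) R) (k : ℕ) :
    minorIdeal (A.map φ) k = (minorIdeal A k).map φ := by
  rw [minorIdeal, minorIdeal, Ideal.map_span, ← Set.range_comp]
  congr 1
  refine congrArg Set.range (funext fun fg => ?_)
  rw [Function.comp_apply, RingHom.map_det]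
  rfl

theorem minorIdeal_succ_le (A : Matrix (Fin a) (Fin b) R) (k : ℕ) :
    minorIdeal A (k + 1) ≤ minorIdeal A k := by
  refine Ideal.span_le.2 ?_
  rintro _ ⟨⟨f, g⟩, rfl⟩
  simp only [SetLike.mem_coe]
  rw [det_succ_row_zero]
  exact Submodule.sum_mem _ fun j _ => Ideal.mul_mem_left _ _
    (Ideal.subset_span ⟨(f ∘ Fin.succ, g ∘ j.succAbove), rfl⟩)

theorem minorIdeal_anti (A : Matrix (Fin a) (Fin b) R) {k l : ℕ} (h : k ≤ l) :
    minorIdeal A l ≤ minorIdeal A k := by
  induction l, h using Nat.le_induction with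
  | base => exact le_rfl
  | succ l _ ih => exact (minorIdeal_succ_le A l).trans ih

theorem matrixRank_eq (A : Matrix (Fin a) (Fin b) R) {r : ℕ} (h1 : minorIdeal A r ≠ ⊥)
    (h0 : minorIdeal A (r + 1) = ⊥) : matrixRank A = r := by
  refine IsGreatest.csSup_eq ⟨h1, fun k hk => ?_⟩
  by_contra h
  exact hk (le_bot_iff.1 ((minorIdeal_anti A (Nat.lt_of_not_le h)).trans h0.le))

end minors

/-- Exactness of a complex of finite free modules given by matrices. -/
def Exact' {R : Type u} [CommRing R] (e : ℕ) (n : ℕ → ℕ)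
    (A : (i : ℕ) → Matrix (Fin (n i)) (Fin (n (i + 1))) R) : Prop :=
  LinearMap.ker (A (e - 1)).mulVecLin = ⊥ ∧
    ∀ i, i + 2 ≤ e → LinearMap.ker (A i).mulVecLin = LinearMap.range (A (i + 1)).mulVecLin

theorem exact'_localization {R : Type u} [CommRing R] (T : Submonoid R) (L : Type u) [CommRing L]
    [Algebra R L] [IsLocalization T L] {e : ℕ} {n : ℕ → ℕ}
    {A : (i : ℕ) → Matrix (Fin (n i)) (Fin (n (i + 1))) R} (h : Exact' e n A) :
    Exact' e n (fun i => (A i).map (algebraMap R L)) :=
  ⟨Minor14.injective_map_localization T L _ h.1,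
    fun i hi => Minor14.exact_map_localization T L _ _ (h.2 i hi)⟩

/-- Over a local ring of depth zero an exact complex of free modules is split. -/
theorem depth_zero {S : Type u} [CommRing S] [IsLocalRing S] (c : S) (hc : c ≠ 0)
    (hcm : ∀ a ∈ maximalIdeal S, c * a = 0) {e : ℕ} {n : ℕ → ℕ}
    (A : (i : ℕ) → Matrix (Fin (n i)) (Fin (n (i + 1))) S) (h : Exact' e n A) {k : ℕ} (hk : k < e) :
    0 ≤ altSum n e (k + 1) ∧ minorIdeal (A k) (altSum n e (k + 1)).toNat = ⊤ ∧
      minorIdeal (A k) ((altSum n e (k + 1)).toNat + 1) = ⊥ := by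
  have hP : ∀ I : Ideal S, I.FG → I ≠ ⊤ → I.annihilator ≠ ⊥ := fun I _ hI =>
    (Submodule.ne_bot_iff _).2 ⟨c, Submodule.mem_annihilator.2 fun y hy => by
      rw [smul_eq_mul]; exact hcm y (le_maximalIdeal hI hy), hc⟩
  obtain ⟨hfree, hrk⟩ := Minor14.range_free_of_resolution hP e n A (by omega) h.2 h.1 (e - 1 - k)
    (by omega) k (by omega)
  rw [rho_eq_altSum n e _ (by omega), show e - (e - 1 - k) = k + 1 by omega] at hrk
  rw [← hrk]
  refine ⟨Int.natCast_nonneg _, ?_⟩
  rw [Int.toNat_natCast]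
  set N := LinearMap.range (A k).mulVecLin with hN
  haveI : Module.Finite S N := Module.Finite.range _
  obtain ⟨hq, hqr⟩ := Minor14.free_quotient_of_free hP N
  rcases Nat.eq_zero_or_pos (Module.finrank S N) with h0 | hpos
  · have hNbot : N = ⊥ := Submodule.subsingleton_iff_eq_bot.1
      (Module.finBasisOfFinrankEq S N h0).equivFun.subsingleton
    have hA : A k = 0 := by
      refine Matrix.ext fun i j => ?_
      have h1 : (A k).mulVecLin (Pi.single j 1) ∈ N := ⟨_, rfl⟩
      rw [hNbot, Submodule.mem_bot, Matrix.mulVecLin_apply, Matrix.mulVec_single_one] at h1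
      exact congrFun h1 i
    rw [h0, hA]
    refine ⟨Minor14.minorIdeal_zero _, ?_⟩
    rw [minorIdeal, Ideal.span_eq_bot]
    rintro _ ⟨fg, rfl⟩
    simp
  · obtain ⟨σ, hσ⟩ := Module.projective_lifting_property N.mkQ LinearMap.id N.mkQ_surjective
    have hcompl : IsCompl N (LinearMap.range σ) := by
      have hσ' : ∀ q, N.mkQ (σ q) = q := fun q => LinearMap.congr_fun hσ q
      refine ⟨Submodule.disjoint_def.2 ?_, codisjoint_iff.2 (eq_top_iff.2 fun x _ => ?_)⟩
      · rintro _ hx ⟨q, rfl⟩
        rw [← hσ' q, show N.mkQ (σ q) = 0 from (Submodule.Quotient.mk_eq_zero _).2 hx, map_zero]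
      · rw [show x = (x - σ (N.mkQ x)) + σ (N.mkQ x) by abel]
        refine Submodule.add_mem_sup ?_ ⟨_, rfl⟩
        refine (Submodule.Quotient.mk_eq_zero N).1 ?_
        rw [← Submodule.mkQ_apply, map_sub, hσ', sub_self]
    have := (Minor14.range_isCompl_iff hpos (by omega) (A k)).1 ⟨_, hcompl, rfl⟩
    exact ⟨this.2, this.1⟩

/-- For an exact complex over a local ring of depth `d`, the ideals of minors of the expected size
of the maps beyond position `d` are the unit ideal. -/
theorem depth_pos : ∀ (d : ℕ) {S : Type u} [CommRing S] [IsLocalRing S] (rs : List S),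
    rs.length = d → (∀ x ∈ rs, x ∈ maximalIdeal S) → IsWeaklyRegular S rs →
    ∀ c : S, c ∉ Ideal.ofList rs → (∀ a ∈ maximalIdeal S, c * a ∈ Ideal.ofList rs) →
    ∀ (e : ℕ) (n : ℕ → ℕ) (A : (i : ℕ) → Matrix (Fin (n i)) (Fin (n (i + 1))) S), Exact' e n A →
    ∀ k, d ≤ k → k < e → minorIdeal (A k) (altSum n e (k + 1)).toNat = ⊤ := by
  intro d
  induction d with
  | zero =>
    intro S _ _ rs hlen _ _ c hc hcm e n A h k _ hk
    obtain rfl : rs = [] := List.eq_nil_of_length_eq_zero hlen
    rw [Ideal.ofList_nil] at hc hcm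
    exact (depth_zero c (fun h0 => hc (by rw [h0]; exact zero_mem _))
      (fun a ha => Ideal.mem_bot.1 (hcm a ha)) A h hk).2.1
  | succ d ih =>
    intro S _ _ rs hlen hmem hreg c hc hcm e n A h k hdk hk
    obtain ⟨x, rs', rfl⟩ := List.exists_cons_of_length_eq_add_one hlen
    obtain ⟨k, rfl⟩ : ∃ k', k = k' + 1 := ⟨k - 1, by omega⟩
    obtain ⟨e, rfl⟩ : ∃ e', e = e' + 1 := ⟨e - 1, by omega⟩
    have hx : x ∈ maximalIdeal S := hmem x (List.mem_cons_self ..)
    let I : Ideal S := Ideal.span {x}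
    have hI : I ≠ ⊤ := fun hI => (maximalIdeal.isMaximal S).ne_top
      (top_le_iff.1 (hI.ge.trans ((Ideal.span_singleton_le_iff_mem _).2 hx)))
    haveI : Nontrivial (S ⧸ I) := Ideal.Quotient.nontrivial_iff.2 hI
    haveI : IsLocalRing (S ⧸ I) :=
      IsLocalRing.of_surjective' (Ideal.Quotient.mk I) Ideal.Quotient.mk_surjective
    obtain ⟨hx1, hreg'⟩ := (isWeaklyRegular_cons_iff _ _ _).1 hreg
    let e₁ : QuotSMulTop x S ≃ₗ[S] S ⧸ I := Submodule.quotEquivOfEq _ _
      (by rw [← Submodule.ideal_span_singleton_smul, Ideal.smul_eq_mul, Ideal.mul_top])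
    have hreg'' : IsWeaklyRegular (S ⧸ I) (rs'.map (Ideal.Quotient.mk I)) :=
      (isWeaklyRegular_map_algebraMap_iff (S ⧸ I) (S ⧸ I) rs').2
        ((e₁.isWeaklyRegular_congr rs').1 hreg')
    have hof : Ideal.ofList (rs'.map (Ideal.Quotient.mk I)) =
        (Ideal.ofList (x :: rs')).map (Ideal.Quotient.mk I) := by
      rw [Ideal.ofList_cons, Ideal.map_sup, Ideal.map_quotient_self, bot_sup_eq, Ideal.map_ofList]
    have hmax : maximalIdeal (S ⧸ I) ≤ (maximalIdeal S).map (Ideal.Quotient.mk I) := by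
      intro y hy
      obtain ⟨y, rfl⟩ := Ideal.Quotient.mk_surjective y
      refine Ideal.mem_map_of_mem _ ?_
      by_contra hy'
      exact hy ((IsLocalRing.notMem_maximalIdeal.1 hy').map _)
    let n' : ℕ → ℕ := fun i => n (i + 1)
    let A' : (i : ℕ) → Matrix (Fin (n' i)) (Fin (n' (i + 1))) (S ⧸ I) :=
      fun i => (A (i + 1)).map (Ideal.Quotient.mk I)
    have hmv : ∀ {p q : ℕ} (M : Matrix (Fin p) (Fin q) S) (z : Fin q → S),
        (M.map (Ideal.Quotient.mk I)) *ᵥ (Ideal.Quotient.mk I ∘ z) = Ideal.Quotient.mk I ∘ (M *ᵥ z) :=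
      fun M z => funext fun i => (RingHom.map_mulVec _ M z i).symm
    -- lifting a kernel vector modulo `x`
    have hlift : ∀ i, i < e → ∀ v : Fin (n' (i + 1)) → S ⧸ I, A' i *ᵥ v = 0 →
        ∃ (w : Fin (n (i + 2)) → S) (u : Fin (n (i + 2)) → S),
          Ideal.Quotient.mk I ∘ w = v ∧ A (i + 1) *ᵥ (w - x • u) = 0 := by
      intro i hi v hv
      choose w hw using fun j => Ideal.Quotient.mk_surjective (v j)
      have hdiv : ∀ j, ∃ z, x * z = (A (i + 1) *ᵥ w) j := fun j => by
        have : Ideal.Quotient.mk I ((A (i + 1) *ᵥ w) j) = 0 := by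
          have := congrFun (hmv (A (i + 1)) w) j
          rw [show Ideal.Quotient.mk I ∘ w = v from funext hw] at this
          rw [Function.comp_apply] at this
          rw [← this]
          exact congrFun hv j
        obtain ⟨z, hz⟩ := Ideal.mem_span_singleton'.1 (Ideal.Quotient.eq_zero_iff_mem.1 this)
        exact ⟨z, by rw [mul_comm, hz]⟩
      choose z hz using hdiv
      have hzker : z ∈ LinearMap.ker (A i).mulVecLin := by
        have h2 := h.2 i (by omega)
        have : x • z ∈ LinearMap.ker (A i).mulVecLin := h2 ▸ ⟨w, funext fun j => (hz j).symm⟩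
        rw [LinearMap.mem_ker, map_smul] at this
        rw [LinearMap.mem_ker]
        funext j
        exact hx1 (show x • _ = x • (0 : S) by rw [smul_zero]; exact congrFun this j)
      rw [h.2 i (by omega)] at hzker
      obtain ⟨u, hu⟩ := hzker
      refine ⟨w, u, funext hw, ?_⟩
      rw [Matrix.mulVec_sub, Matrix.mulVec_smul, show A (i + 1) *ᵥ u = z from hu, sub_eq_zero]
      exact funext fun j => (hz j).symm
    have hmkx : ∀ {q : ℕ} (w u : Fin q → S),
        Ideal.Quotient.mk I ∘ (w - x • u) = Ideal.Quotient.mk I ∘ w := by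
      intro q w u
      funext j
      have : Ideal.Quotient.mk I x = 0 :=
        Ideal.Quotient.eq_zero_iff_mem.2 (Ideal.mem_span_singleton_self x)
      simp [this]
    have h' : Exact' e n' A' := by
      refine ⟨?_, fun i hi => le_antisymm ?_ ?_⟩
      · refine (LinearMap.ker_eq_bot').2 fun v hv => ?_
        obtain ⟨i, rfl⟩ : ∃ i, e = i + 1 := ⟨e - 1, by omega⟩
        obtain ⟨w, u, hw, hwu⟩ := hlift i (by omega) v hv
        have h1 : w - x • u ∈ LinearMap.ker (A (i + 1)).mulVecLin := hwu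
        have h2 : LinearMap.ker (A (i + 1)).mulVecLin = ⊥ := h.1
        rw [h2, Submodule.mem_bot] at h1
        rw [← hw, ← hmkx w u, h1]
        exact funext fun j => map_zero _
      · intro v hv
        obtain ⟨w, u, hw, hwu⟩ := hlift i (by omega) v hv
        have h1 : w - x • u ∈ LinearMap.ker (A (i + 1)).mulVecLin := hwu
        rw [h.2 (i + 1) (by omega)] at h1
        obtain ⟨t, ht⟩ := h1
        refine ⟨Ideal.Quotient.mk I ∘ t, ?_⟩
        rw [Matrix.mulVecLin_apply, hmv, show A (i + 1 + 1) *ᵥ t = _ from ht, hmkx, hw]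
      · rintro _ ⟨v, rfl⟩
        choose w hw using fun j => Ideal.Quotient.mk_surjective (v j)
        have h1 : A (i + 1 + 1) *ᵥ w ∈ LinearMap.ker (A (i + 1)).mulVecLin :=
          h.2 (i + 1) (by omega) ▸ ⟨w, rfl⟩
        rw [LinearMap.mem_ker, Matrix.mulVecLin_apply, Matrix.mulVecLin_apply, ← show Ideal.Quotient.mk I ∘ w = v from funext hw,
          hmv, hmv, show A (i + 1) *ᵥ (A (i + 1 + 1) *ᵥ w) = 0 from h1]
        exact funext fun j => map_zero _
    have key := ih (rs'.map (Ideal.Quotient.mk I)) (by simpa using hlen)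
      (fun y hy => by
        obtain ⟨y, hy', rfl⟩ := List.mem_map.1 hy
        haveI : IsLocalHom (Ideal.Quotient.mk I) :=
          IsLocalHom.of_surjective _ Ideal.Quotient.mk_surjective
        exact fun hu => hmem y (List.mem_cons_of_mem _ hy') (isUnit_of_map_unit _ _ hu))
      hreg'' (Ideal.Quotient.mk I c)
      (by
        rw [hof, Ideal.mem_map_iff_of_surjective _ Ideal.Quotient.mk_surjective]
        rintro ⟨c', hc', he⟩
        refine hc ?_
        have hmem' : c' - c ∈ Ideal.ofList (x :: rs') := by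
          rw [Ideal.ofList_cons]
          exact Ideal.mem_sup_left (Ideal.Quotient.eq.1 he)
        simpa using Ideal.sub_mem _ hc' hmem')
      (by
        intro y hy
        have hy' := hmax hy
        rw [Ideal.mem_map_iff_of_surjective _ Ideal.Quotient.mk_surjective] at hy'
        obtain ⟨y, hy1, rfl⟩ := hy'
        rw [← map_mul, hof]
        exact Ideal.mem_map_of_mem _ (hcm y hy1))
      e n' A' h' k (by omega) (by omega)
    rw [show (altSum n' e (k + 1)) = altSum n (e + 1) (k + 1 + 1) from altSum_shift n e (k + 1),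
      minorIdeal_map] at key
    by_contra hne
    have h1 := Ideal.map_mono (f := Ideal.Quotient.mk I) (le_maximalIdeal hne)
    rw [key, top_le_iff] at h1
    have h2 := congrArg (Ideal.comap (Ideal.Quotient.mk I)) h1
    rw [Ideal.comap_map_of_surjective _ Ideal.Quotient.mk_surjective, Ideal.comap_top,
      ← RingHom.ker_eq_comap_bot, Ideal.mk_ker] at h2
    refine (maximalIdeal.isMaximal S).ne_top (top_le_iff.1 (h2.ge.trans (sup_le le_rfl ?_)))
    exact (Ideal.span_singleton_le_iff_mem _).2 hx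

variable {R : Type u} [CommRing R] [IsLocalRing R] [IsNoetherianRing R]

/-- An exact complex of finite free modules has the expected ranks and depths. -/
theorem rank_and_depth {e : ℕ} {n : ℕ → ℕ} (A : (i : ℕ) → Matrix (Fin (n i)) (Fin (n (i + 1))) R)
    (h : Exact' e n A) {k : ℕ} (hk : k < e) :
    (matrixRank (A k) : ℤ) = altSum n e (k + 1) ∧
      (detIdeal (A k) = ⊤ ∨ ∃ rs : List R, rs.length = k + 1 ∧ (∀ r ∈ rs, r ∈ detIdeal (A k)) ∧
        IsRegular R rs) := by
  classical
  set r := (altSum n e (k + 1)).toNat with hr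
  -- localisation at a prime `q = (rs : c)`
  have loc : ∀ (q : Ideal R) [q.IsPrime] (rs : List R), IsWeaklyRegular R rs →
      ∀ c : R, (∀ a, a ∈ q ↔ a * c ∈ Ideal.ofList rs) →
      (∀ x ∈ rs.map (algebraMap R (Localization.AtPrime q)), x ∈ maximalIdeal (Localization.AtPrime q)) ∧
      IsWeaklyRegular (Localization.AtPrime q) (rs.map (algebraMap R (Localization.AtPrime q))) ∧
      algebraMap R (Localization.AtPrime q) c ∉ Ideal.ofList (rs.map (algebraMap R (Localization.AtPrime q))) ∧
      ∀ a ∈ maximalIdeal (Localization.AtPrime q), algebraMap R _ c * a ∈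
        Ideal.ofList (rs.map (algebraMap R (Localization.AtPrime q))) := by
    intro q _ rs hreg c hq
    have hmem : ∀ x ∈ rs, x ∈ q := fun x hx =>
      (hq x).2 (Ideal.mul_mem_right _ _ (Ideal.subset_span hx))
    refine ⟨?_, IsWeaklyRegular.of_isLocalization _ q.primeCompl hreg, ?_, ?_⟩
    · intro x hx
      obtain ⟨y, hy, rfl⟩ := List.mem_map.1 hx
      rw [← Localization.AtPrime.map_eq_maximalIdeal]
      exact Ideal.mem_map_of_mem _ (hmem y hy)
    · rw [← Ideal.map_ofList]
      intro hc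
      obtain ⟨s, hs, hsc⟩ := (IsLocalization.algebraMap_mem_map_algebraMap_iff q.primeCompl _ _ _).1 hc
      exact hs ((hq _).2 hsc)
    · intro a ha
      rw [← Ideal.map_ofList]
      rw [← Localization.AtPrime.map_eq_maximalIdeal] at ha
      induction ha using Submodule.span_induction with
      | mem z hz =>
        obtain ⟨b, hb, rfl⟩ := hz
        rw [← map_mul, mul_comm]
        exact Ideal.mem_map_of_mem _ ((hq b).1 hb)
      | zero => rw [mul_zero]; exact zero_mem _
      | add u v _ _ h1 h2 => rw [mul_add]; exact add_mem h1 h2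
      | smul t u _ h1 => rw [smul_eq_mul, mul_left_comm]; exact Ideal.mul_mem_left _ _ h1
  have colon : ∀ (J : Ideal R) (c : R) (a : R), a ∈ J.colon {c} ↔ a * c ∈ J := fun J c a => by
    rw [Submodule.mem_colon_singleton, smul_eq_mul]
  -- at associated primes of `R`
  have ass : ∀ (q : Ideal R) [q.IsPrime], (∃ c, ∀ a, a ∈ q ↔ a * c = 0) →
      0 ≤ altSum n e (k + 1) ∧ ¬ minorIdeal (A k) r ≤ q ∧
        (minorIdeal (A k) (r + 1)).map (algebraMap R (Localization.AtPrime q)) = ⊥ := by
    intro q _ ⟨c, hc⟩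
    obtain ⟨-, -, h1, h2⟩ := loc q [] (IsWeaklyRegular.nil R R) c (by simpa using hc)
    simp only [List.map_nil, Ideal.ofList_nil, Ideal.mem_bot] at h1 h2
    obtain ⟨h3, h4, h5⟩ := depth_zero _ h1 h2 _ (exact'_localization q.primeCompl _ h) hk
    rw [minorIdeal_map] at h4 h5
    refine ⟨h3, fun hle => ?_, h5⟩
    have := h4.ge.trans (Ideal.map_mono hle)
    rw [Localization.AtPrime.map_eq_maximalIdeal, top_le_iff] at this
    exact (maximalIdeal.isMaximal _).ne_top this
  have assoc : ∀ (q : Ideal R), IsAssociatedPrime q R → q.IsPrime ∧ ∃ c, ∀ a, a ∈ q ↔ a * c = 0 := by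
    intro q hq
    refine ⟨hq.isPrime, ?_⟩
    obtain ⟨-, c, hc⟩ := isAssociatedPrime_iff.1 hq
    exact ⟨c, fun a => by rw [hc, colon, Submodule.mem_bot]⟩
  obtain ⟨q₀, hq₀⟩ := associatedPrimes.nonempty R R
  obtain ⟨hq₀p, hc₀⟩ := assoc q₀ hq₀
  obtain ⟨hpos, hnle, -⟩ := @ass q₀ hq₀p hc₀
  have hrZ : (r : ℤ) = altSum n e (k + 1) := Int.toNat_of_nonneg hpos
  have hbot : minorIdeal (A k) (r + 1) = ⊥ := by
    by_contra hne
    obtain ⟨x, hx, hx0⟩ := (Submodule.ne_bot_iff _).1 hne
    obtain ⟨p, hp, hle⟩ := exists_le_isAssociatedPrime_of_isNoetherianRing R x hx0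
    obtain ⟨hpp, hc⟩ := assoc p hp
    have h1 : algebraMap R (Localization.AtPrime p) x = 0 :=
      (@ass p hpp hc).2.2.le (Ideal.mem_map_of_mem _ hx)
    obtain ⟨s, hs⟩ := (IsLocalization.map_eq_zero_iff p.primeCompl _ x).1 h1
    exact s.2 (hle (Submodule.mem_colon_singleton.2 (by simpa using hs)))
  have hrank : matrixRank (A k) = r :=
    matrixRank_eq _ (fun h0 => hnle (h0.le.trans bot_le)) hbot
  refine ⟨by rw [hrank]; exact hrZ, ?_⟩
  rw [detIdeal, hrank]
  rcases eq_or_ne (minorIdeal (A k) r) ⊤ with htop | htop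
  · exact Or.inl htop
  refine Or.inr ?_
  have build : ∀ m, m ≤ k + 1 → ∃ rs : List R, rs.length = m ∧
      (∀ x ∈ rs, x ∈ minorIdeal (A k) r) ∧ IsWeaklyRegular R rs := by
    intro m
    induction m with
    | zero => exact fun _ => ⟨[], rfl, by simp, IsWeaklyRegular.nil R R⟩
    | succ m ih =>
      intro hm
      obtain ⟨rs, hlen, hmem, hreg⟩ := ih (by omega)
      suffices ∃ x ∈ minorIdeal (A k) r, IsSMulRegular (R ⧸ Ideal.ofList rs • (⊤ : Submodule R R)) x by
        obtain ⟨x, hx, hxr⟩ := this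
        refine ⟨rs ++ [x], by simp [hlen], fun y hy => ?_, ?_⟩
        · rcases List.mem_append.1 hy with hy | hy
          · exact hmem y hy
          · rw [List.mem_singleton.1 hy]; exact hx
        · exact (isWeaklyRegular_append_iff R rs [x]).2 ⟨hreg, (isWeaklyRegular_singleton_iff _ x).2 hxr⟩
      by_contra hh
      push Not at hh
      let M := R ⧸ Ideal.ofList rs • (⊤ : Submodule R R)
      have hsub : (minorIdeal (A k) r : Set R) ⊆ ⋃ p ∈ associatedPrimes R M, (p : Set R) := by
        intro x hx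
        rw [biUnion_associatedPrimes_eq_compl_regular]
        exact hh x hx
      have hfin := associatedPrimes.finite R M
      obtain ⟨p, hp, hle⟩ : ∃ p ∈ hfin.toFinset, minorIdeal (A k) r ≤ p :=
        (Ideal.subset_union_prime (f := id) ⊥ ⊥ fun p hp _ _ =>
          ((hfin.mem_toFinset).1 hp).isPrime).1 (by simpa using hsub)
      have hp' : IsAssociatedPrime p M := (hfin.mem_toFinset).1 hp
      obtain ⟨hpp, c', hc'⟩ := isAssociatedPrime_iff.1 hp'
      obtain ⟨c, rfl⟩ := Submodule.Quotient.mk_surjective _ c'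
      have hcp : ∀ a, a ∈ p ↔ a * c ∈ Ideal.ofList rs := fun a => by
        rw [hc', Submodule.mem_colon_singleton, Submodule.mem_bot, ← Submodule.Quotient.mk_smul,
          Submodule.Quotient.mk_eq_zero, smul_eq_mul, smul_eq_mul, Ideal.mul_top]
      obtain ⟨h1, h2, h3, h4⟩ := @loc p hpp rs hreg c hcp
      have h5 := depth_pos rs.length _ (by simp) h1 h2 _ h3 h4 e n _
        (exact'_localization p.primeCompl (Localization.AtPrime p) h) k (by omega) hk
      rw [minorIdeal_map] at h5
      have := h5.ge.trans (Ideal.map_mono hle)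
      rw [Localization.AtPrime.map_eq_maximalIdeal, top_le_iff] at this
      exact (maximalIdeal.isMaximal _).ne_top this
  obtain ⟨rs, hlen, hmem, hreg⟩ := build (k + 1) le_rfl
  refine ⟨rs, hlen, hmem, hreg, fun htop' => htop ?_⟩
  rw [smul_eq_mul, Ideal.mul_top] at htop'
  exact top_le_iff.1 (htop'.le.trans (Ideal.span_le.2 hmem))

end Groth.Agent.CAlg1.BuchEis
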