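import Mathlib

/-! The Nullstellensatz for algebras with few generators over a large field. -/

set_option autoImplicit false
universe u

open Cardinal

namespace Groth.Agent.CAlg1

variable {k : Type u} [Field k]

theorem isAlgebraic_of_generators {K : Type u} [Field K] [Algebra k K] (t : Set K)
    (ht : Algebra.adjoin k t = ⊤) (hcard : #t < #k) : Algebra.IsAlgebraic k K := by
  by_cases hfin : t.Finite
  · have : Algebra.FiniteType k K := ⟨hfin.toFinset, by rw [hfin.coe_toFinset, ht]⟩
    have := finite_of_finite_type_of_isJacobsonRing k K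
    exact Algebra.IsAlgebraic.of_finite k K
  have : Infinite t := Set.infinite_coe_iff.mpr hfin
  refine ⟨fun x => ?_⟩
  by_contra hx
  have h1 : #k ≤ Module.rank k K := by
    simpa using (Transcendental.linearIndependent_sub_inv (hx : Transcendental k x)).cardinal_le_rank
  have h2 : Module.rank k K ≤ #t := by
    have hsp : Submodule.span k ((Submonoid.closure t : Submonoid K) : Set K) = ⊤ := by
      rw [← Algebra.adjoin_eq_span, ht, Algebra.top_toSubmodule]
    rw [← rank_top, ← hsp]
    refine (rank_span_le _).trans ?_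
    rw [Submonoid.closure_eq_image_prod]
    refine mk_image_le.trans ?_
    rw [← mk_list_eq_mk t]
    refine mk_le_of_surjective (f := fun l : List t => (⟨l.map Subtype.val, fun y hy => by
      obtain ⟨z, -, rfl⟩ := List.mem_map.mp hy; exact z.2⟩ : {l : List K | ∀ x ∈ l, x ∈ t})) ?_
    rintro ⟨l, hl⟩
    refine ⟨l.pmap Subtype.mk hl, Subtype.ext ?_⟩
    simp [List.map_pmap]
  exact absurd (h1.trans h2) hcard.not_ge

theorem isAlgebraic_quotient {S : Type u} [CommRing S] [Algebra k S] (s : Set S)
    (hs : Algebra.adjoin k s = ⊤) (hcard : #s < #k) (m : Ideal S) [m.IsMaximal] :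
    Algebra.IsAlgebraic k (S ⧸ m) := by
  let := Ideal.Quotient.field m
  refine isAlgebraic_of_generators (Ideal.Quotient.mkₐ k m '' s) ?_ (mk_image_le.trans_lt hcard)
  rw [Algebra.adjoin_image, hs, Algebra.map_top, AlgHom.range_eq_top]
  exact Ideal.Quotient.mk_surjective

theorem isJacobsonRing_of_generators {S : Type u} [CommRing S] [Algebra k S] (s : Set S)
    (hs : Algebra.adjoin k s = ⊤) (hcard : #s < #k) : IsJacobsonRing S := by
  by_cases hfin : s.Finite
  · have : Algebra.FiniteType k S := ⟨hfin.toFinset, by rw [hfin.coe_toFinset, hs]⟩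
    exact isJacobsonRing_of_finiteType (A := k) (B := S)
  have hinf : ℵ₀ ≤ #s := Cardinal.infinite_iff.mp (Set.infinite_coe_iff.mpr hfin)
  rw [isJacobsonRing_iff_prime_eq]
  refine fun P hP => le_antisymm (fun g hg => ?_) Ideal.le_jacobson
  by_contra hgP
  let E := Localization.Away g
  let t : Set E := algebraMap S E '' s ∪ {IsLocalization.Away.invSelf g}
  have ht : Algebra.adjoin k t = ⊤ := by
    refine eq_top_iff.mpr fun x _ => ?_
    obtain ⟨n, a, hx⟩ := IsLocalization.Away.surj g x
    have hS : ∀ b : S, algebraMap S E b ∈ Algebra.adjoin k t := fun b => by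
      have hb : algebraMap S E b ∈ (Algebra.adjoin k s).map (IsScalarTower.toAlgHom k S E) :=
        ⟨b, by rw [hs]; trivial, rfl⟩
      rw [← Algebra.adjoin_image] at hb
      exact Algebra.adjoin_mono (Set.subset_union_left) hb
    have : x = algebraMap S E a * IsLocalization.Away.invSelf g ^ n := by
      rw [← hx, mul_assoc, ← mul_pow, IsLocalization.Away.mul_invSelf, one_pow, mul_one]
    rw [this]
    have hinv : IsLocalization.Away.invSelf (S := E) g ∈ t :=
      Set.mem_union_right (algebraMap S E '' s) (Set.mem_singleton _)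
    exact mul_mem (hS a) (pow_mem (Algebra.subset_adjoin hinv) n)
  have htcard : #t < #k := by
    refine ((mk_union_le _ _).trans (add_le_add mk_image_le (mk_singleton _).le)).trans_lt ?_
    rwa [add_one_of_aleph0_le hinf]
  have hd : Disjoint (Submonoid.powers g : Set S) P := by
    refine Set.disjoint_left.mpr ?_
    rintro _ ⟨i, rfl⟩ hx
    exact hgP (hP.mem_of_pow_mem i hx)
  have hPE := IsLocalization.isPrime_of_isPrime_disjoint (Submonoid.powers g) E P hP hd
  obtain ⟨n, hn, hle⟩ := Ideal.exists_le_maximal _ hPE.ne_top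
  have := isAlgebraic_quotient t ht htcard n
  let M := n.comap (algebraMap S E)
  have : M.IsPrime := Ideal.IsPrime.comap _
  let : Algebra (S ⧸ M) (E ⧸ n) := (Ideal.quotientMap n (algebraMap S E) le_rfl).toAlgebra
  have : IsScalarTower k (S ⧸ M) (E ⧸ n) := IsScalarTower.of_algebraMap_eq fun c => by
    show Ideal.Quotient.mk n (algebraMap k E c) = Ideal.Quotient.mk n (algebraMap S E (algebraMap k S c))
    rw [← IsScalarTower.algebraMap_apply k S E]
  let : Field (E ⧸ n) := Ideal.Quotient.field n
  have hinj : Function.Injective (algebraMap (S ⧸ M) (E ⧸ n)) := Ideal.quotientMap_injective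
  have hint : Algebra.IsIntegral k (E ⧸ n) := Algebra.IsAlgebraic.isIntegral
  have : Algebra.IsIntegral k (S ⧸ M) := ⟨fun x =>
    (isIntegral_algHom_iff (IsScalarTower.toAlgHom k (S ⧸ M) (E ⧸ n)) hinj).mp (hint.isIntegral _)⟩
  have hfield : IsField (S ⧸ M) := isField_of_isIntegral_of_isField' (Field.toIsField k)
  have hM : M.IsMaximal := Ideal.Quotient.maximal_of_isField _ hfield
  have hgM : g ∈ M := by
    have := Submodule.mem_sInf.mp hg M ⟨Ideal.map_le_iff_le_comap.mp hle, hM⟩
    exact this
  exact hn.ne_top (Ideal.eq_top_of_isUnit_mem _ hgM (IsLocalization.Away.algebraMap_isUnit g))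

end Groth.Agent.CAlg1
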