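import Groth.Agent.Cohen12.Structure
import Groth.Agent.Cohen12.Field
import Groth.Agent.Cohen12.Finite
import Groth.Agent.EGA4Alg4.IntegralDim
import Groth.Prelude.Def_Found

/-! Cohen structure theorems, assembled. -/

set_option autoImplicit false
set_option maxHeartbeats 800000
universe u

open IsLocalRing

namespace Groth.Agent.CAlg1

theorem exists_cohenRing_charP (p : ℕ) [Fact p.Prime] (k : Type u) [Field k] [CharP k p] :
    ∃ (Λ : Type u) (_ : CommRing Λ) (_ : IsLocalRing Λ), CAlg.IsCohenRing Λ ∧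
      Nonempty (ResidueField Λ ≃+* k) := by
  obtain ⟨W, _, _, e, hW⟩ := Cohen12.exists_cohenRing k
  rcases hW with ⟨hf, hz⟩ | hW
  · exfalso
    let := hf.toField
    have : CharZero k :=
      charZero_of_injective_ringHom (f := e.toRingHom.comp (residue W)) (RingHom.injective _)
    exact (Fact.out : p.Prime).ne_zero (CharP.eq k (inferInstance : CharP k p) (CharP.ofCharZero k))
  · exact ⟨W, inferInstance, inferInstance, hW, ⟨e⟩⟩

theorem exists_surjective_powerSeries (R : Type u) [CommRing R] [IsLocalRing R]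
    [IsAdicComplete (maximalIdeal R) R] (hfg : (maximalIdeal R).FG) :
    ∃ (Λ : Type u) (_ : CommRing Λ) (n : ℕ) (f : MvPowerSeries (Fin n) Λ →+* R),
      (IsField Λ ∨ CAlg.IsCohenRing Λ) ∧ Function.Surjective f := by
  have : IsNoetherianRing (R ⧸ maximalIdeal R) := inferInstanceAs (IsNoetherianRing (ResidueField R))
  have : IsNoetherianRing R := CAlg1.isNoetherianRing_of_isAdicComplete (maximalIdeal R) hfg
  obtain ⟨W, _, _, hW, w, hwl, hw⟩ := Cohen12.exists_cohen_hom R
  obtain ⟨hN, hc, -, -, -⟩ := Cohen12.cohen_struct hW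
  obtain ⟨m, φ, hφ, -, -⟩ := Cohen12.exists_surjection_of_cohen_hom w hw
  exact ⟨W, inferInstance, m, φ, hW.imp And.left id, hφ⟩

theorem exists_finite_injective_of_field {k R : Type u} [Field k] [CommRing R] [IsDomain R] [IsLocalRing R]
    [IsNoetherianRing R] [IsAdicComplete (maximalIdeal R) R] (σ : k →+* R)
    (hσ : Function.Surjective ((residue R).comp σ)) :
    ∃ (Λ : Type u) (_ : CommRing Λ) (n : ℕ) (f : MvPowerSeries (Fin n) Λ →+* R),
      (IsField Λ ∨ CAlg.IsCohenRing Λ) ∧ Function.Injective f ∧ f.Finite ∧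
      Function.Surjective ((residue R).comp f) := by
  let : Algebra k R := σ.toAlgebra
  have : Module.Finite k (ResidueField R) :=
    Module.Finite.of_surjective (Algebra.linearMap k (ResidueField R)) hσ
  obtain ⟨n, w, -, hwi, -, hwf⟩ := Cohen12.exists_finite_powerSeries (k₀ := k) (A := R)
  refine ⟨k, inferInstance, n, w.toRingHom, Or.inl (Field.toIsField _), hwi, hwf, fun z => ?_⟩
  obtain ⟨x, rfl⟩ := hσ z
  refine ⟨algebraMap k (MvPowerSeries (Fin n) k) x, ?_⟩
  show residue R (w (algebraMap k (MvPowerSeries (Fin n) k) x)) = _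
  rw [AlgHom.commutes]
  rfl

theorem exists_finite_injective (R : Type u) [CommRing R] [IsDomain R] [IsLocalRing R] [IsNoetherianRing R]
    [IsAdicComplete (maximalIdeal R) R] :
    ∃ (Λ : Type u) (_ : CommRing Λ) (n : ℕ) (f : MvPowerSeries (Fin n) Λ →+* R),
      (IsField Λ ∨ CAlg.IsCohenRing Λ) ∧ Function.Injective f ∧ f.Finite ∧
      Function.Surjective ((residue R).comp f) := by
  classical
  obtain ⟨p, hp⟩ := CharP.exists (ResidueField R)
  by_cases hp0 : (p : R) = 0
  · -- equal characteristic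
    obtain ⟨σ, hσ⟩ := Cohen12.exists_coefficientField R p hp0
    exact exists_finite_injective_of_field σ fun x => ⟨x, hσ x⟩
  -- mixed characteristic
  obtain ⟨W, _, _, hW, w, hwl, hw⟩ := Cohen12.exists_cohen_hom R
  obtain ⟨hN, hc, hWd, hW0, q, hq, hmW⟩ := Cohen12.cohen_struct hW
  have hqp : q = p := by
    have : CharP (ResidueField R) q := (RingHom.charP_iff (ResidueField.map w) (RingHom.injective _) q).mp hq
    exact CharP.eq (ResidueField R) this hp
  subst hqp
  have hpm : (q : R) ∈ maximalIdeal R := by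
    rw [← residue_eq_zero_iff, map_natCast, CharP.cast_eq_zero]
  let I₀ : Ideal R := Ideal.span {(q : R)}
  have hI₀ : I₀ ≠ ⊥ := by simpa [I₀] using hp0
  have hI₀t : I₀ ≠ ⊤ := fun h => (maximalIdeal.isMaximal R).ne_top
    (top_le_iff.mp (h ▸ (Ideal.span_singleton_le_iff_mem (I := maximalIdeal R)).mpr hpm))
  have : Nontrivial (R ⧸ I₀) := Ideal.Quotient.nontrivial_iff.mpr hI₀t
  have : IsLocalRing (R ⧸ I₀) := IsLocalRing.of_surjective' (Ideal.Quotient.mk I₀) Ideal.Quotient.mk_surjective
  obtain ⟨s, hs, hcard⟩ := (maximalIdeal (R ⧸ I₀)).exists_finset_card_eq_height_of_isNoetherianRing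
  let n := s.card
  have hdimq : ringKrullDim (R ⧸ I₀) = (n : WithBot ℕ∞) := by
    rw [← IsLocalRing.maximalIdeal_height_eq_ringKrullDim, ← hcard]; rfl
  let lift := Function.surjInv (Ideal.Quotient.mk_surjective (I := I₀))
  let y : Fin n → R := fun i => lift (s.equivFin.symm i)
  have hylift : ∀ i, Ideal.Quotient.mk I₀ (y i) = s.equivFin.symm i := fun i =>
    Function.surjInv_eq Ideal.Quotient.mk_surjective _
  have hy : ∀ i, y i ∈ maximalIdeal R := fun i => by
    have h1 : (s.equivFin.symm i : R ⧸ I₀) ∈ maximalIdeal (R ⧸ I₀) := hs.1.2 (Ideal.subset_span (s.equivFin.symm i).2)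
    rw [← hylift] at h1
    exact (mem_maximalIdeal _).mpr fun hu => (mem_maximalIdeal _).mp h1 (hu.map _)
  obtain ⟨φ, hC, hX⟩ := LA18.exists_powerSeries_hom (maximalIdeal R) w y hy
  let A := MvPowerSeries (Fin n) W
  let : Algebra A R := φ.toAlgebra
  obtain ⟨hAreg, hAc, hAdim⟩ := Cohen12.regular_powerSeries_cohen (W := W) n hW
  have hq0 : q ≠ 0 := fun h => hp0 (by rw [h, Nat.cast_zero])
  have hAdim' : ringKrullDim A = ((n + 1 : ℕ) : WithBot ℕ∞) := by
    rw [hAdim q hq, if_neg hq0]
  let I : Ideal A := maximalIdeal A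
  have hle : I.map (algebraMap A R) ≤ maximalIdeal R := by
    refine Ideal.map_le_iff_le_comap.mpr ?_
    show maximalIdeal A ≤ _
    rw [Cohen12.maximalIdeal_powerSeries, hmW, Ideal.map_span, Set.image_singleton]
    refine sup_le (Ideal.span_le.mpr ?_) (Ideal.span_le.mpr ?_)
    · rintro _ rfl
      show φ (MvPowerSeries.C (q : W)) ∈ maximalIdeal R
      rw [hC, map_natCast]; exact hpm
    · rintro _ ⟨i, rfl⟩
      show φ (MvPowerSeries.X i) ∈ maximalIdeal R
      rw [hX]; exact hy i
  have hprim : ∃ N : ℕ, maximalIdeal R ^ N ≤ I.map (algebraMap A R) := by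
    refine Ideal.exists_pow_le_of_le_radical_of_fg ?_ (IsNoetherian.noetherian _)
    rw [Ideal.radical_eq_sInf]
    refine le_sInf fun P ⟨hP, hPp⟩ => ?_
    have hqP : (q : R) ∈ P := by
      have h1 : (q : A) ∈ maximalIdeal A := by
        rw [Cohen12.mem_maximalIdeal_powerSeries, map_natCast, hmW]
        exact Ideal.mem_span_singleton_self _
      have := hP (Ideal.mem_map_of_mem (algebraMap A R) h1)
      rwa [map_natCast] at this
    have hI₀P : I₀ ≤ P := by simpa [I₀, Ideal.span_singleton_le_iff_mem] using hqP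
    have hPq := Ideal.isPrime_map_quotientMk_of_isPrime hI₀P
    have hsP : Ideal.span (s : Set (R ⧸ I₀)) ≤ P.map (Ideal.Quotient.mk I₀) := Ideal.span_le.mpr fun z hz => by
      have h1 : y (s.equivFin ⟨z, hz⟩) ∈ P := by
        rw [← hX]
        exact hP (Ideal.mem_map_of_mem (algebraMap A R) ((Cohen12.mem_maximalIdeal_powerSeries _).mpr (by simp)))
      have := Ideal.mem_map_of_mem (Ideal.Quotient.mk I₀) h1
      rwa [hylift, Equiv.symm_apply_apply] at this
    have h2 : maximalIdeal (R ⧸ I₀) ≤ P.map (Ideal.Quotient.mk I₀) :=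
      hs.2 ⟨hPq, hsP⟩ (le_maximalIdeal hPq.ne_top)
    intro x hx
    have h3 : Ideal.Quotient.mk I₀ x ∈ P.map (Ideal.Quotient.mk I₀) :=
      h2 ((mem_maximalIdeal _).mpr fun hu => by
        have : IsLocalHom (Ideal.Quotient.mk I₀) := IsLocalHom.of_surjective _ Ideal.Quotient.mk_surjective
        exact (mem_maximalIdeal _).mp hx (isUnit_of_map_unit _ _ hu))
    rw [← Ideal.mem_comap, Ideal.comap_map_quotientMk, sup_eq_right.mpr hI₀P] at h3
    exact h3
  have hres : ∀ b : R, ∃ x ∈ Submodule.span A (({1} : Finset R) : Set R), b - x ∈ maximalIdeal R := by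
    intro b
    obtain ⟨a, ha⟩ := hw (residue R b)
    refine ⟨w a, ?_, (residue_eq_zero_iff _).mp (by rw [map_sub, sub_eq_zero]; exact ha.symm)⟩
    rw [Finset.coe_singleton, Submodule.mem_span_singleton]
    exact ⟨MvPowerSeries.C a, by rw [Algebra.smul_def, mul_one]; exact hC a⟩
  have hfin : Module.Finite A R := Cohen12.finite_of_residue A I hle {1} hres hprim
  refine ⟨W, inferInstance, n, φ, hW.imp And.left id, ?_, hfin, fun x => ?_⟩
  · have hrangedim : ringKrullDim φ.range = ((n + 1 : ℕ) : WithBot ℕ∞) := by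
      refine le_antisymm ((ringKrullDim_le_of_surjective φ.rangeRestrict φ.rangeRestrict_surjective).trans hAdim'.le) ?_
      have h2 : φ.range.subtype.Finite := RingHom.Finite.of_comp_finite (f := φ.rangeRestrict) hfin
      have : Module.Finite φ.range R := h2
      have : Algebra.IsIntegral φ.range R := Algebra.IsIntegral.of_finite _ _
      refine le_trans ?_ (EGA4Alg4.ringKrullDim_le_of_integral φ.range R)
      refine le_trans ?_ (CAlg1.ringKrullDim_quotient_succ_le_of_domain hI₀)
      rw [hdimq, Nat.cast_add, Nat.cast_one]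
    have : IsDomain A := NoZeroDivisors.to_isDomain _
    have hinj := CAlg6.injective_of_surjective_of_ringKrullDim_eq φ.rangeRestrict φ.rangeRestrict_surjective
      (n + 1) hAdim' hrangedim
    exact fun a b hab => hinj (Subtype.ext hab)
  · obtain ⟨a, ha⟩ := hw x
    exact ⟨MvPowerSeries.C a, (congrArg (residue R) (hC a)).trans ha⟩

end Groth.Agent.CAlg1
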