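import Groth.Agent.CAlg1.SepFamilyPoly
import Groth.Agent.EGA4H10.CompleteJ2
import Groth.Agent.EGA4H10.GenFormal
import Groth.Agent.S2073
import Mathlib

/-! Derivations of finite type algebras over complete local rings detect `p`-th powers. -/

set_option autoImplicit false
set_option linter.style.haveILetI false
universe u

open IsLocalRing

namespace Groth.Agent.CAlg1.DerFT

/-- over a base with a separating family -/
theorem exists_derivation_of_family {R0 B : Type u} [CommRing R0] [IsDomain R0] [CommRing B] [IsDomain B]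
    [Algebra R0 B] [Algebra.FiniteType R0 B] (hinj : Function.Injective (algebraMap R0 B)) (p : ℕ) [Fact p.Prime]
    [CharP B p] (F : EGA4H10.SepFamily p R0) (f : B) (L : Type u) [Field L] [Algebra B L] [IsFractionRing B L]
    [Algebra R0 L] [IsScalarTower R0 B L] (hf : ∀ x : L, x ^ p ≠ algebraMap B L f) :
    ∃ D : Derivation ℤ B B, D f ≠ 0 := by
  classical
  have : CharP R0 p := (RingHom.charP_iff _ hinj p).2 inferInstance
  obtain ⟨d, y, S', hy, hyS, hfg, hint, g, hg0, hg⟩ := S2073.result hinj
  let P := MvPolynomial (Fin d) R0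
  obtain ⟨G⟩ := SepPoly.nonempty_mvPolynomial p F d
  have : CharP P p := inferInstance
  let ψ : P →ₐ[R0] S' := MvPolynomial.aeval fun i => ⟨y i, hyS i⟩
  have hψval : S'.val.comp ψ = MvPolynomial.aeval y := MvPolynomial.algHom_ext fun i => by
    simp only [AlgHom.comp_apply, ψ, MvPolynomial.aeval_X]
    rfl
  letI : Algebra P S' := ψ.toRingHom.toAlgebra
  have : IsScalarTower R0 P S' := .of_algebraMap_eq fun r => (ψ.commutes r).symm
  have : FaithfulSMul P S' := (faithfulSMul_iff_algebraMap_injective P S').2 fun a b hab => hy (by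
    have := congrArg Subtype.val hab
    show MvPolynomial.aeval y a = MvPolynomial.aeval y b
    rw [← hψval]; exact this)
  have : Module.Finite P S' := by
    have : Algebra.FiniteType R0 S' := (Subalgebra.fg_iff_finiteType _).mp hfg
    have : Algebra.FiniteType P S' := Algebra.FiniteType.of_restrictScalars_finiteType R0 P S'
    have : Algebra.IsIntegral P S' := ⟨fun s => by
      obtain ⟨q, hqm, hq⟩ := hint s s.2
      have hmem : ∀ a : Algebra.adjoin R0 (Set.range y), ∃ b : P, MvPolynomial.aeval y b = a := fun a =>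
        (Algebra.adjoin_range_eq_range_aeval R0 y).le a.2
      choose j0 hj0 using hmem
      let j : Algebra.adjoin R0 (Set.range y) →+* P :=
        { toFun := j0
          map_one' := hy (by rw [hj0, map_one]; rfl)
          map_zero' := hy (by rw [hj0, map_zero]; rfl)
          map_add' := fun a b => hy (by rw [hj0, map_add, hj0, hj0]; rfl)
          map_mul' := fun a b => hy (by rw [hj0, map_mul, hj0, hj0]; rfl) }
      refine ⟨q.map j, hqm.map _, Subtype.val_injective ?_⟩
      rw [Polynomial.eval₂_map]
      show S'.val.toRingHom (Polynomial.eval₂ ((algebraMap P S').comp j) s q) = 0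
      rw [Polynomial.hom_eval₂, show S'.val.toRingHom.comp ((algebraMap P S').comp j) =
          algebraMap (Algebra.adjoin R0 (Set.range y)) B from RingHom.ext fun a => by
            show S'.val (ψ (j0 a)) = (a : B)
            rw [← hj0 a, ← hψval]; rfl]
      exact hq⟩
    exact Algebra.IsIntegral.finite
  -- fraction fields
  have hgB : algebraMap R0 B g ≠ 0 := (map_ne_zero_iff _ hinj).2 hg0
  have hgL : algebraMap B L (algebraMap R0 B g) ≠ 0 := (map_ne_zero_iff _ (IsFractionRing.injective B L)).2 hgB
  have hinjL : Function.Injective (algebraMap S' L) := by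
    rw [IsScalarTower.algebraMap_eq S' B L]
    exact (IsFractionRing.injective B L).comp Subtype.val_injective
  have : FaithfulSMul S' L := (faithfulSMul_iff_algebraMap_injective S' L).2 hinjL
  have hfrac : ∀ b : B, ∃ c e : S', algebraMap S' L e ≠ 0 ∧ algebraMap B L b = algebraMap S' L c / algebraMap S' L e := by
    intro b
    obtain ⟨n, hn⟩ := hg b
    refine ⟨⟨_, hn⟩, algebraMap R0 S' g ^ n, ?_, ?_⟩
    · rw [map_pow, IsScalarTower.algebraMap_apply S' B L]; exact pow_ne_zero _ hgL
    · rw [eq_div_iff (by rw [map_pow, IsScalarTower.algebraMap_apply S' B L]; exact pow_ne_zero _ hgL),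
        map_pow, IsScalarTower.algebraMap_apply S' B L, IsScalarTower.algebraMap_apply S' B L, ← map_pow, ← map_mul]
      congr 1
      show b * algebraMap R0 B g ^ n = g ^ n • b
      rw [Algebra.smul_def, map_pow, mul_comm]
  have : IsFractionRing S' L := IsFractionRing.of_field S' L fun z => by
    obtain ⟨a, b, hb, rfl⟩ := IsFractionRing.div_surjective (A := B) z
    obtain ⟨c, e, he, ha⟩ := hfrac a
    obtain ⟨c', e', he', hb'⟩ := hfrac b
    refine ⟨c * e', e * c', ?_⟩
    rw [ha, hb', map_mul, map_mul, div_div_div_eq]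
  -- the element
  obtain ⟨n, hn⟩ := hg f
  have hnp : n ≤ n * p := Nat.le_mul_of_pos_right n (Fact.out : p.Prime).pos
  let a : S' := ⟨g ^ (n * p) • f, by
    rw [← Nat.sub_add_cancel hnp, pow_add, mul_smul]
    exact S'.smul_mem hn _⟩
  let γ : L := algebraMap B L (algebraMap R0 B g) ^ n
  have haL : algebraMap S' L a = γ ^ p * algebraMap B L f := by
    rw [IsScalarTower.algebraMap_apply S' B L]
    show algebraMap B L (g ^ (n * p) • f) = _
    rw [Algebra.smul_def, map_mul, map_pow, map_pow, ← pow_mul]
  have hγ : γ ≠ 0 := pow_ne_zero _ hgL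
  obtain ⟨D, hD⟩ := G.exists_derivation S' a fun w hw => hf (IsLocalization.algEquiv (nonZeroDivisors S') (FractionRing S') L w / γ) (by
    rw [div_pow, ← map_pow, hw, AlgEquiv.commutes, haL, mul_div_assoc, mul_comm, div_mul_cancel₀ _ (pow_ne_zero _ hγ)])
  obtain ⟨δ, hδ⟩ := EGA4H10.exists_derivation_frac (L := L) D
  have hδp : ∀ x : L, δ (x ^ p) = 0 := fun x => by
    have : CharP L p := charP_of_injective_algebraMap (IsFractionRing.injective B L) p
    rw [Derivation.leibniz_pow, ← Nat.cast_smul_eq_nsmul L p, CharP.cast_eq_zero, zero_smul]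
  have hδf : δ (algebraMap B L f) ≠ 0 := fun h0 => by
    refine hD (hinjL ?_)
    rw [map_zero, ← hδ, haL, Derivation.leibniz, hδp, h0, smul_zero, smul_zero, add_zero]
  -- bounded denominators
  obtain ⟨T, hT⟩ := ‹Algebra.FiniteType R0 B›.out
  obtain ⟨⟨s, hs⟩, hsint⟩ := IsLocalization.exist_integer_multiples_of_finset (nonZeroDivisors B)
    (T.image fun x => δ (algebraMap B L x))
  have hall : ∀ b : B, ∃ r : B, algebraMap B L r = algebraMap B L s * δ (algebraMap B L b) := by
    intro b
    have hb : b ∈ Algebra.adjoin R0 (T : Set B) := hT ▸ Algebra.mem_top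
    induction hb using Algebra.adjoin_induction with
    | mem x hx =>
      obtain ⟨r, hr⟩ := hsint _ (Finset.mem_image.2 ⟨x, hx, rfl⟩)
      exact ⟨r, by rw [hr, Algebra.smul_def]⟩
    | algebraMap r =>
      refine ⟨s * (D (algebraMap R0 S' r) : B), ?_⟩
      rw [map_mul, show algebraMap B L (algebraMap R0 B r) = algebraMap S' L (algebraMap R0 S' r) from (IsScalarTower.algebraMap_apply S' B L (algebraMap R0 S' r)).symm, hδ]
      rfl
    | add u v _ _ hu hv =>
      obtain ⟨x, hx⟩ := hu; obtain ⟨z, hz⟩ := hv
      exact ⟨x + z, by rw [map_add, hx, hz, map_add, map_add, mul_add]⟩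
    | mul u v _ _ hu hv =>
      obtain ⟨x, hx⟩ := hu; obtain ⟨z, hz⟩ := hv
      refine ⟨u * z + v * x, ?_⟩
      rw [map_add, map_mul, map_mul, hx, hz, map_mul, Derivation.leibniz, smul_eq_mul, smul_eq_mul]
      ring
  choose Df hDf using hall
  have hinjB := IsFractionRing.injective B L
  obtain ⟨Δ, hΔ⟩ := EGA4H10.exists_derivation_of_addHom
    ({ toFun := Df
       map_zero' := hinjB (by rw [hDf, map_zero, map_zero, mul_zero])
       map_add' := fun x z => hinjB (by rw [hDf, map_add, map_add, mul_add, map_add, hDf, hDf]) } : B →+ B)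
    (fun x z => hinjB (by
      show algebraMap B L (Df (x * z)) = algebraMap B L (x * Df z + z * Df x)
      rw [hDf, map_mul, Derivation.leibniz, map_add, map_mul, map_mul, hDf, hDf, smul_eq_mul, smul_eq_mul]
      ring))
  refine ⟨Δ, fun h0 => ?_⟩
  rw [hΔ] at h0
  have h1 : algebraMap B L (Df f) = 0 := by
    show algebraMap B L (Df f) = 0
    rw [show Df f = 0 from h0, map_zero]
  rw [hDf] at h1
  rcases mul_eq_zero.1 h1 with h | h
  · exact nonZeroDivisors.ne_zero hs ((map_eq_zero_iff _ hinjB).1 h)
  · exact hδf h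

theorem exists_derivation {R B : Type u} [CommRing R] [IsLocalRing R]
    [IsNoetherianRing R] [IsAdicComplete (maximalIdeal R) R] [CommRing B] [IsDomain B]
    [Algebra R B] [Algebra.FiniteType R B] (p : ℕ) [Fact p.Prime] [CharP B p] (f : B)
    (hf : ∀ x : FractionRing B, x ^ p ≠ algebraMap B (FractionRing B) f) :
    ∃ D : Derivation ℤ B B, D f ≠ 0 := by
  let I := RingHom.ker (algebraMap R B)
  have : I.IsPrime := RingHom.ker_isPrime _
  let A := R ⧸ I
  have : IsAdicComplete (maximalIdeal A) A := Cohen12.isAdicComplete_quotient I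
  letI : Algebra A B := (RingHom.kerLift (algebraMap R B)).toAlgebra
  have : IsScalarTower R A B := .of_algebraMap_eq fun r => rfl
  have hinjA : Function.Injective (algebraMap A B) := RingHom.kerLift_injective _
  have : Algebra.FiniteType A B := Algebra.FiniteType.of_restrictScalars_finiteType R A B
  obtain ⟨R0, _, _, _, _, _, hinj, hfam⟩ := EGA4H10.exists_finite_regular A
  letI : Algebra R0 B := ((algebraMap A B).comp (algebraMap R0 A)).toAlgebra
  have : IsScalarTower R0 A B := .of_algebraMap_eq fun _ => rfl
  have : Algebra.FiniteType R0 A := inferInstance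
  have : Algebra.FiniteType R0 B := Algebra.FiniteType.trans (R := R0) (S := A) inferInstance inferInstance
  obtain ⟨F⟩ := hfam p Fact.out ((RingHom.charP_iff _ hinjA p).2 inferInstance)
  exact exists_derivation_of_family (show Function.Injective ((algebraMap A B).comp (algebraMap R0 A)) from hinjA.comp hinj) p F f (FractionRing B) hf

end Groth.Agent.CAlg1.DerFT
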