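import Mathlib
import Groth.Agent.Smooth28.Idem
import Groth.Agent.Smooth28.Retract

/-! Étale neighbourhoods of a closed subscheme. -/

open TensorProduct

universe u

namespace Groth.Agent.CAlg1

variable {A : Type u} [CommRing A] (I : Ideal A)

theorem map_le_ker {A' : Type u} [CommRing A'] [Algebra A A'] (π : A' →ₐ[A] A ⧸ I) :
    I.map (algebraMap A A') ≤ RingHom.ker π.toRingHom :=
  Ideal.map_le_iff_le_comap.mpr fun a ha => by
    show π (algebraMap A A' a) = 0
    rw [AlgHom.commutes]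
    exact Ideal.Quotient.eq_zero_iff_mem.mpr ha

/-- An étale algebra with a point over `A ⧸ I` shrinks to an étale neighbourhood of `A ⧸ I`. -/
theorem exists_etale_shrink {A' : Type u} [CommRing A'] [Algebra A A'] [Algebra.Etale A A']
    (π : A' →ₐ[A] A ⧸ I) :
    ∃ (A'' : Type u) (_ : CommRing A'') (_ : Algebra A A''), Algebra.Etale A A'' ∧
      Function.Bijective (algebraMap (A ⧸ I) (A'' ⧸ I.map (algebraMap A A''))) ∧
      ∃ φ : A' →ₐ[A] A'', ∀ x, Ideal.Quotient.mk (I.map (algebraMap A A'')) (φ x) =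
        algebraMap (A ⧸ I) (A'' ⧸ I.map (algebraMap A A'')) (π x) := by
  classical
  let J := I.map (algebraMap A A')
  let B := A' ⧸ J
  let σ : A ⧸ I →ₐ[A] B := IsScalarTower.toAlgHom A (A ⧸ I) B
  let πb : B →ₐ[A] A ⧸ I := Ideal.Quotient.liftₐ J π fun a ha => map_le_ker I π ha
  have hπb : ∀ x, πb (Ideal.Quotient.mk J x) = π x := fun x => rfl
  have hσ : ∀ x, πb (σ x) = x := fun x => by
    obtain ⟨a, rfl⟩ := Ideal.Quotient.mk_surjective x
    show πb (σ (algebraMap A (A ⧸ I) a)) = _
    rw [AlgHom.commutes, AlgHom.commutes]; rfl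
  let mkB : A' →ₐ[A] B := Ideal.Quotient.mkₐ A J
  let δ : A' → B := fun x => mkB x - σ (π x)
  let K : Ideal B := RingHom.ker πb.toRingHom
  have hδK : ∀ x, δ x ∈ K := fun x => by
    show πb (mkB x - σ (π x)) = 0
    rw [map_sub, hσ]; exact sub_eq_zero.mpr (hπb x)
  obtain ⟨G, hG⟩ := (inferInstance : Algebra.FiniteType A A').out
  let K' : Ideal B := Ideal.span (G.image δ : Set B)
  have hKK' : ∀ x, δ x ∈ K' := by
    intro x
    have hx : x ∈ Algebra.adjoin A (G : Set A') := hG ▸ Algebra.mem_top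
    induction hx using Algebra.adjoin_induction with
    | mem x hx => exact Ideal.subset_span (Finset.mem_coe.mpr (Finset.mem_image_of_mem δ hx))
    | algebraMap a =>
      have : δ (algebraMap A A' a) = 0 := by simp only [δ, AlgHom.commutes, sub_self]
      rw [this]; exact zero_mem _
    | add x y _ _ hx hy =>
      have : δ (x + y) = δ x + δ y := by simp only [δ, map_add]; abel
      rw [this]; exact add_mem hx hy
    | mul x y _ _ hx hy =>
      have : δ (x * y) = mkB x * δ y + σ (π y) * δ x := by simp only [δ, map_mul]; ring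
      rw [this]; exact add_mem (Ideal.mul_mem_left _ _ hy) (Ideal.mul_mem_left _ _ hx)
  have hKeq : ∀ z ∈ K, ∃ x, z = δ x := fun z hz => by
    obtain ⟨x, rfl⟩ := Ideal.Quotient.mk_surjective z
    exact ⟨x, by
      show Ideal.Quotient.mk J x = mkB x - σ (π x)
      rw [← hπb, show πb (Ideal.Quotient.mk J x) = 0 from hz, map_zero, sub_zero]; rfl⟩
  have hfg : K.FG := ⟨G.image δ, le_antisymm (Ideal.span_le.mpr fun z hz => by
    obtain ⟨x, -, rfl⟩ := Finset.mem_image.mp (Finset.mem_coe.mp hz)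
    exact hδK x) fun z hz => by obtain ⟨x, rfl⟩ := hKeq z hz; exact hKK' x⟩
  have hidem : IsIdempotentElem K := by
    refine le_antisymm Ideal.mul_le_left fun z hz => ?_
    obtain ⟨x, rfl⟩ := hKeq z hz
    let T := B ⧸ K ^ 2
    let L : Ideal T := K.map (Ideal.Quotient.mk (K ^ 2))
    have hL : L ^ 2 = ⊥ := by rw [← Ideal.map_pow, Ideal.map_quotient_self]
    let f : A' →ₐ[A] T := (Ideal.Quotient.mkₐ A (K ^ 2)).comp mkB
    let g : A' →ₐ[A] T := (Ideal.Quotient.mkₐ A (K ^ 2)).comp (σ.comp π)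
    have hfg : f = g := Algebra.FormallyUnramified.comp_injective L hL (AlgHom.ext fun y => by
      show Ideal.Quotient.mk L (Ideal.Quotient.mk (K ^ 2) (mkB y)) =
        Ideal.Quotient.mk L (Ideal.Quotient.mk (K ^ 2) (σ (π y)))
      rw [Ideal.Quotient.eq, ← map_sub]
      exact Ideal.mem_map_of_mem _ (hδK y))
    have := AlgHom.congr_fun hfg x
    rw [← pow_two]
    exact Ideal.Quotient.eq.mp this
  obtain ⟨e, he, heK⟩ := (Ideal.isIdempotentElem_iff_of_fg K hfg).mp hidem
  obtain ⟨s, hs⟩ := Ideal.Quotient.mk_surjective (1 - e)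
  have hπs : π s = 1 := by
    have heK' : e ∈ K := heK ▸ Submodule.mem_span_singleton_self e
    rw [← hπb, hs, map_sub, map_one, show πb e = 0 from heK', sub_zero]
  have hsJ : ∀ x, π x = 0 → s * x ∈ J := by
    intro x hx
    have hxK : Ideal.Quotient.mk J x ∈ K := hx
    rw [heK] at hxK
    obtain ⟨b, hb⟩ := Submodule.mem_span_singleton.mp hxK
    rw [← Ideal.Quotient.eq_zero_iff_mem, map_mul, hs, ← hb, smul_eq_mul]
    linear_combination -b * he.eq
  let A'' := Localization.Away s
  let φ : A' →ₐ[A] A'' := IsScalarTower.toAlgHom A A' A''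
  let J'' := I.map (algebraMap A A'')
  have : Algebra.Etale A' A'' := Algebra.Etale.of_isLocalizationAway s
  have hetale : Algebra.Etale A A'' := Algebra.Etale.comp A A' A''
  have hJ : J.map φ.toRingHom = J'' := by
    show (I.map (algebraMap A A')).map (algebraMap A' A'') = _
    rw [Ideal.map_map, ← IsScalarTower.algebraMap_eq]
  let q := algebraMap (A ⧸ I) (A'' ⧸ J'')
  have hqmk : ∀ a, q (Ideal.Quotient.mk I a) = Ideal.Quotient.mk J'' (algebraMap A A'' a) := fun a => rfl
  have hkey : ∀ x, Ideal.Quotient.mk J'' (φ x) = q (π x) := by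
    intro x
    obtain ⟨a, ha⟩ := Ideal.Quotient.mk_surjective (π x)
    rw [← ha, hqmk, Ideal.Quotient.eq]
    have h1 : φ (s * (x - algebraMap A A' a)) ∈ J'' := hJ ▸ Ideal.mem_map_of_mem _ (hsJ _ (by
      rw [map_sub, AlgHom.commutes]; exact sub_eq_zero.mpr ha.symm))
    rw [map_mul, map_sub, AlgHom.commutes] at h1
    exact (Ideal.unit_mul_mem_iff_mem _ (IsLocalization.Away.algebraMap_isUnit s)).mp h1
  have hu : ∀ y : Submonoid.powers s, IsUnit (π y) := fun ⟨_, n, hn⟩ => by
    subst hn; simp [hπs]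
  let π'' : A'' →ₐ[A] A ⧸ I := IsLocalization.liftAlgHom (f := π) hu
  have hinj : Function.Injective q := by
    rw [injective_iff_map_eq_zero]
    intro z hz
    obtain ⟨a, rfl⟩ := Ideal.Quotient.mk_surjective z
    rw [hqmk, Ideal.Quotient.eq_zero_iff_mem] at hz
    have := map_le_ker I π'' hz
    rw [RingHom.mem_ker] at this
    exact (π''.commutes a).symm.trans this
  refine ⟨A'', inferInstance, inferInstance, hetale, ⟨hinj, fun z => ?_⟩, φ, hkey⟩
  obtain ⟨z, rfl⟩ := Ideal.Quotient.mk_surjective z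
  obtain ⟨x, y, rfl⟩ := IsLocalization.exists_mk'_eq (Submonoid.powers s) z
  refine ⟨π x, ?_⟩
  have hy : π (y : A') = 1 := by
    obtain ⟨k, hk⟩ := (Submonoid.mem_powers_iff _ _).mp y.2
    rw [← hk, map_pow, hπs, one_pow]
  have h1 : IsLocalization.mk' A'' x y * φ (y : A') = φ x := IsLocalization.mk'_spec A'' x y
  have h2 := congrArg (Ideal.Quotient.mk J'') h1
  rw [map_mul, hkey, hkey, hy, map_one, mul_one] at h2
  exact h2.symm

section smooth

variable {B : Type u} [CommRing B] [Algebra A B] [Algebra.Smooth A B]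

theorem exists_etale_lift_section (σ : B →ₐ[A] A ⧸ I) :
    ∃ (A' : Type u) (_ : CommRing A') (_ : Algebra A A'), Algebra.Etale A A' ∧
      Function.Bijective (algebraMap (A ⧸ I) (A' ⧸ I.map (algebraMap A A'))) ∧
      ∃ τ : B →ₐ[A] A', ∀ b : B,
        Ideal.Quotient.mk (I.map (algebraMap A A')) (τ b) =
          algebraMap (A ⧸ I) (A' ⧸ I.map (algebraMap A A')) (σ b) := by
  obtain ⟨T, _, _, _, _, _, ⟨r⟩, hstd⟩ := Groth.Agent.Smooth28.exists_standardSmooth_retract (R := A) (A := B)
  let σ' : T →ₐ[A] A ⧸ I := σ.comp (r.restrictScalars A)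
  have hstd' : (algebraMap A T).IsStandardSmooth := RingHom.isStandardSmooth_algebraMap.mpr hstd
  obtain ⟨n, g, hgC, hg⟩ := hstd'.exists_etale_mvPolynomial
  choose c hc using fun i => Ideal.Quotient.mk_surjective (I := I) (σ' (g (MvPolynomial.X i)))
  let := g.toAlgebra
  let := (MvPolynomial.aeval c : MvPolynomial (Fin n) A →ₐ[A] A).toRingHom.toAlgebra
  have hT : IsScalarTower A (MvPolynomial (Fin n) A) T :=
    IsScalarTower.of_algebraMap_eq' hgC.symm
  have hA : IsScalarTower A (MvPolynomial (Fin n) A) A :=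
    IsScalarTower.of_algebraMap_eq fun a => ((MvPolynomial.aeval c).commutes a).symm
  have : Algebra.Etale (MvPolynomial (Fin n) A) T := hg
  let A₁ := A ⊗[MvPolynomial (Fin n) A] T
  have : Algebra.Etale A A₁ := inferInstance
  have hcomm : σ'.toRingHom.comp g = (Ideal.Quotient.mk I).comp (MvPolynomial.aeval c).toRingHom := by
    refine MvPolynomial.ringHom_ext (fun a => ?_) fun i => ?_
    · show σ' (g (MvPolynomial.C a)) = Ideal.Quotient.mk I (MvPolynomial.aeval c (MvPolynomial.C a))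
      rw [MvPolynomial.aeval_C, show g (MvPolynomial.C a) = algebraMap A T a from RingHom.congr_fun hgC a,
        AlgHom.commutes]
      rfl
    · show σ' (g (MvPolynomial.X i)) = Ideal.Quotient.mk I (MvPolynomial.aeval c (MvPolynomial.X i))
      rw [MvPolynomial.aeval_X, hc]
  let σP : T →ₐ[MvPolynomial (Fin n) A] A ⧸ I :=
    { σ'.toRingHom with commutes' := fun p => RingHom.congr_fun hcomm p }
  let π : A₁ →ₐ[A] A ⧸ I :=
    Algebra.TensorProduct.lift (Algebra.ofId A (A ⧸ I)) σP fun _ _ => Commute.all _ _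
  obtain ⟨A'', _, _, het, hbij, φ, hφ⟩ := exists_etale_shrink I π
  let incl : T →ₐ[A] A₁ :=
    { (Algebra.TensorProduct.includeRight : T →ₐ[MvPolynomial (Fin n) A] A₁).toRingHom with
      commutes' := fun a => by
        show (Algebra.TensorProduct.includeRight : T →ₐ[MvPolynomial (Fin n) A] A₁) (algebraMap A T a) = _
        rw [IsScalarTower.algebraMap_apply A (MvPolynomial (Fin n) A) T, AlgHom.commutes,
          IsScalarTower.algebraMap_apply (MvPolynomial (Fin n) A) A A₁]
        congr 1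
        exact (MvPolynomial.aeval c).commutes a }
  refine ⟨A'', inferInstance, inferInstance, het, hbij,
    φ.comp (incl.comp (IsScalarTower.toAlgHom A B T)), fun b => ?_⟩
  show Ideal.Quotient.mk _ (φ (incl (algebraMap B T b))) = _
  rw [hφ]
  congr 1
  show π ((1 : A) ⊗ₜ algebraMap B T b) = σ b
  rw [show π ((1 : A) ⊗ₜ algebraMap B T b) = Algebra.ofId A (A ⧸ I) 1 * σP (algebraMap B T b) from
    Algebra.TensorProduct.lift_tmul _ _ _ _ _, map_one, one_mul]
  show σ (r (algebraMap B T b)) = σ b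
  rw [AlgHom.commutes]; rfl

end smooth

section factor

open Polynomial

theorem exists_etale_lift_factorization (f : A[X]) (hf : f.Monic) (g h : (A ⧸ I)[X]) (hg : g.Monic)
    (hh : h.Monic) (hcop : IsCoprime g h) (hfgh : f.map (Ideal.Quotient.mk I) = g * h) :
    ∃ (A' : Type u) (_ : CommRing A') (_ : Algebra A A'), Algebra.Etale A A' ∧
      Function.Bijective (algebraMap (A ⧸ I) (A' ⧸ I.map (algebraMap A A'))) ∧
      ∃ g' h' : A'[X], g'.Monic ∧ h'.Monic ∧ IsCoprime g' h' ∧ f.map (algebraMap A A') = g' * h' ∧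
        g'.map (Ideal.Quotient.mk (I.map (algebraMap A A'))) =
          g.map (algebraMap (A ⧸ I) (A' ⧸ I.map (algebraMap A A'))) ∧
        h'.map (Ideal.Quotient.mk (I.map (algebraMap A A'))) =
          h.map (algebraMap (A ⧸ I) (A' ⧸ I.map (algebraMap A A'))) := by
  rcases subsingleton_or_nontrivial (A ⧸ I) with hsub | hnt
  · have hI : I = ⊤ := Ideal.Quotient.subsingleton_iff.mp hsub
    refine ⟨A, inferInstance, inferInstance, inferInstance, ?_, f, 1, hf, monic_one,
      isCoprime_one_right, by simp, ?_, ?_⟩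
    · have : Subsingleton (A ⧸ I.map (algebraMap A A)) :=
        Ideal.Quotient.subsingleton_iff.mpr (by rw [hI, Ideal.map_top])
      exact ⟨fun a b _ => Subsingleton.elim _ _, fun b => ⟨0, Subsingleton.elim _ _⟩⟩
    all_goals
      have : Subsingleton (A ⧸ I.map (algebraMap A A)) :=
        Ideal.Quotient.subsingleton_iff.mpr (by rw [hI, Ideal.map_top])
      exact Subsingleton.elim _ _
  have hdeg : f.natDegree = g.natDegree + h.natDegree := by
    rw [← hf.natDegree_map (Ideal.Quotient.mk I), hfgh, hg.natDegree_mul hh]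
  let p : MonicDegreeEq A f.natDegree := MonicDegreeEq.mk f hf rfl
  let q₁ : MonicDegreeEq (A ⧸ I) g.natDegree := MonicDegreeEq.mk g hg rfl
  let q₂ : MonicDegreeEq (A ⧸ I) h.natDegree := MonicDegreeEq.mk h hh rfl
  let R' := UniversalCoprimeFactorizationRing g.natDegree h.natDegree hdeg p
  let π : R' →ₐ[A] A ⧸ I :=
    (UniversalCoprimeFactorizationRing.homEquiv (S := A ⧸ I) g.natDegree h.natDegree hdeg p).symm
      ⟨(q₁, q₂), hfgh.symm, hcop⟩
  obtain ⟨A'', _, _, het, hbij, φ, hφ⟩ := exists_etale_shrink I π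
  let F₁ := (UniversalCoprimeFactorizationRing.homEquiv (S := A'') g.natDegree h.natDegree hdeg p φ)
  refine ⟨A'', inferInstance, inferInstance, het, hbij, F₁.1.1.1, F₁.1.2.1, F₁.1.1.monic, F₁.1.2.monic,
    F₁.2.2, F₁.2.1.symm, ?_⟩
  let mk'' : A'' →ₐ[A] A'' ⧸ I.map (algebraMap A A'') := Ideal.Quotient.mkₐ A _
  let q : A ⧸ I →ₐ[A] A'' ⧸ I.map (algebraMap A A'') := IsScalarTower.toAlgHom A _ _
  have hcomp : mk''.comp φ = q.comp π := AlgHom.ext hφ
  have hπ : (UniversalCoprimeFactorizationRing.homEquiv (S := A ⧸ I) g.natDegree h.natDegree hdeg p π).1 =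
      (q₁, q₂) := congrArg Subtype.val (Equiv.apply_symm_apply _ _)
  have e1 := ((UniversalCoprimeFactorizationRing.homEquiv_comp_fst A'' g.natDegree h.natDegree hdeg p φ mk'').symm.trans
    (congrArg (fun ψ => (UniversalCoprimeFactorizationRing.homEquiv (S := A'' ⧸ I.map (algebraMap A A''))
      g.natDegree h.natDegree hdeg p ψ).1.1) hcomp)).trans
    (UniversalCoprimeFactorizationRing.homEquiv_comp_fst (A ⧸ I) g.natDegree h.natDegree hdeg p π q)
  have e2 := ((UniversalCoprimeFactorizationRing.homEquiv_comp_snd A'' g.natDegree h.natDegree hdeg p φ mk'').symm.trans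
    (congrArg (fun ψ => (UniversalCoprimeFactorizationRing.homEquiv (S := A'' ⧸ I.map (algebraMap A A''))
      g.natDegree h.natDegree hdeg p ψ).1.2) hcomp)).trans
    (UniversalCoprimeFactorizationRing.homEquiv_comp_snd (A ⧸ I) g.natDegree h.natDegree hdeg p π q)
  rw [hπ] at e1 e2
  exact ⟨congrArg Subtype.val e1, congrArg Subtype.val e2⟩

theorem exists_etale_lift_idempotent {B : Type u} [CommRing B] [Algebra A B] [Algebra.IsIntegral A B]
    (e : B ⧸ I.map (algebraMap A B)) (he : IsIdempotentElem e) :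
    ∃ (A' : Type u) (_ : CommRing A') (_ : Algebra A A'), Algebra.Etale A A' ∧
      Function.Bijective (algebraMap (A ⧸ I) (A' ⧸ I.map (algebraMap A A'))) ∧
      ∃ e' : A' ⊗[A] B, IsIdempotentElem e' ∧
        ∀ b : B, Ideal.Quotient.mk (I.map (algebraMap A B)) b = e →
          e' - 1 ⊗ₜ b ∈ I.map (algebraMap A (A' ⊗[A] B)) := by
  classical
  obtain ⟨b, hb⟩ := Ideal.Quotient.mk_surjective e
  have hbb : b * b - b ∈ I.map (algebraMap A B) := by
    rw [← Ideal.Quotient.eq, map_mul, hb, he.eq]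
  -- the relation lives in a finite subalgebra
  obtain ⟨B₀, hfin, hb0, hmem⟩ : ∃ B₀ : Subalgebra A B, Module.Finite A B₀ ∧
      ∃ hb0 : b ∈ B₀, (⟨b, hb0⟩ * ⟨b, hb0⟩ - ⟨b, hb0⟩ : B₀) ∈ (I • ⊤ : Submodule A B₀) := by
    have hz : b * b - b ∈ (I • ⊤ : Submodule A B) := by
      rw [Ideal.smul_top_eq_map]; exact hbb
    obtain ⟨S, hS⟩ : ∃ S : Finset B, b * b - b ∈ I • Submodule.span A (S : Set B) := by
      refine Submodule.smul_induction_on hz (fun r hr x _ => ⟨{x}, Submodule.smul_mem_smul hr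
        (Submodule.subset_span (by simp))⟩) fun x y ⟨S, hS⟩ ⟨T, hT⟩ => ⟨S ∪ T, add_mem
          (Submodule.smul_mono le_rfl (Submodule.span_mono (by simp)) hS)
          (Submodule.smul_mono le_rfl (Submodule.span_mono (by simp)) hT)⟩
    let B₀ := Algebra.adjoin A ((insert b S : Finset B) : Set B)
    have hb0 : b ∈ B₀ := Algebra.subset_adjoin (by simp)
    have : Module.Finite A B₀ := Module.Finite.iff_fg.mpr
      (fg_adjoin_of_finite (Finset.finite_toSet _) fun x _ => Algebra.IsIntegral.isIntegral x)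
    refine ⟨B₀, this, hb0, ?_⟩
    have hle : Submodule.span A (S : Set B) ≤ LinearMap.range B₀.val.toLinearMap :=
      Submodule.span_le.mpr fun x hx =>
        ⟨⟨x, Algebra.subset_adjoin (Finset.mem_coe.mpr (Finset.mem_insert_of_mem hx))⟩, rfl⟩
    have h2 := Submodule.smul_mono le_rfl hle hS
    rw [← Submodule.map_top, ← Submodule.map_smul''] at h2
    obtain ⟨w, hw, hwe⟩ := h2
    have hwe' : (w : B) = b * b - b := hwe
    have e : (⟨b, hb0⟩ * ⟨b, hb0⟩ - ⟨b, hb0⟩ : B₀) = w := Subtype.ext hwe'.symm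
    rw [e]; exact hw
  let bb : B₀ := ⟨b, hb0⟩
  let z : B₀ := bb * bb - bb
  obtain ⟨p, hp, -, hpI, hpz⟩ := LinearMap.exists_monic_and_coeff_mem_pow_and_aeval_eq_zero_of_range_le_smul
    A (LinearMap.mulLeft A z) I (by
      rintro _ ⟨x, rfl⟩
      show z * x ∈ _
      suffices ∀ y ∈ (I • ⊤ : Submodule A B₀), y * x ∈ (I • ⊤ : Submodule A B₀) from this z hmem
      intro y hy
      refine Submodule.smul_induction_on hy (fun r hr y _ => ?_) (fun u v hu hv => ?_)
      · rw [smul_mul_assoc]; exact Submodule.smul_mem_smul hr trivial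
      · rw [add_mul]; exact add_mem hu hv)
  have hpz' : aeval z p = 0 := by
    have : aeval (Algebra.lmul A B₀ z) p = 0 := hpz
    rw [aeval_algHom_apply] at this
    have h1 := LinearMap.congr_fun this 1
    simpa using h1
  -- make the degree positive
  let P : A[X] := p * X
  have hP : P.Monic := hp.mul monic_X
  let d := p.natDegree + 1
  have hPmap : P.map (Ideal.Quotient.mk I) = X ^ d := by
    rcases subsingleton_or_nontrivial (A ⧸ I) with hs | hs
    · exact Subsingleton.elim _ _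
    have : p.map (Ideal.Quotient.mk I) = X ^ p.natDegree := by
      ext j
      rw [coeff_map, coeff_X_pow]
      rcases lt_trichotomy j p.natDegree with hj | hj | hj
      · rw [if_neg hj.ne, Ideal.Quotient.eq_zero_iff_mem]
        exact Ideal.pow_le_self (by omega) (hpI j)
      · subst hj; rw [if_pos rfl, show p.coeff p.natDegree = 1 from hp, map_one]
      · rw [if_neg hj.ne', coeff_eq_zero_of_natDegree_lt hj, map_zero]
    rw [Polynomial.map_mul, this, map_X, ← pow_succ]
  let f : A[X] := P.comp (X ^ 2 - X)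
  have hfmon : f.Monic := by
    rcases subsingleton_or_nontrivial A with hs | hs
    · exact Subsingleton.elim _ _
    have hq : (X ^ 2 - X : A[X]).Monic := monic_X_pow_sub (by simp)
    refine hP.comp hq ?_
    rw [show (X ^ 2 - X : A[X]).natDegree = 2 by compute_degree!]
    omega
  have hfz : aeval b f = 0 := by
    rw [aeval_comp, show aeval b (X ^ 2 - X : A[X]) = b * b - b by simp [pow_two]]
    rw [show P = p * X from rfl, map_mul, aeval_X]
    have := congrArg (fun t : B₀ => (t : B)) hpz'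
    simp only [ZeroMemClass.coe_zero] at this
    rw [show aeval (b * b - b) p = (B₀.val (aeval z p)) by rw [← aeval_algHom_apply]; rfl]
    show ((aeval z p : B₀) : B) * _ = 0
    rw [this, zero_mul]
  have hfmap : f.map (Ideal.Quotient.mk I) = X ^ d * (X - 1) ^ d := by
    rw [Polynomial.map_comp, hPmap, Polynomial.map_sub, Polynomial.map_pow, map_X, X_pow_comp, ← mul_pow]
    congr 1; ring
  have hcop : IsCoprime ((X : (A ⧸ I)[X]) ^ d) ((X - 1) ^ d) :=
    IsCoprime.pow ⟨1, -1, by ring⟩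
  obtain ⟨A', _, _, het, hbij, g, h, hg, hh, ⟨u, v, huv⟩, hgh, hgI, hhI⟩ :=
    exists_etale_lift_factorization I f hfmon _ _ (monic_X_pow d) ((monic_X_sub_C 1).pow d) hcop hfmap
  refine ⟨A', inferInstance, inferInstance, het, hbij, ?_⟩
  let C := A' ⊗[A] B
  let β : C := (1 : A') ⊗ₜ[A] b
  let ev : A'[X] →ₐ[A'] C := aeval β
  have hGH : ev g * ev h = 0 := by
    rw [← map_mul, ← hgh]
    show aeval β (f.map (algebraMap A A')) = 0
    rw [aeval_map_algebraMap, show β = (Algebra.TensorProduct.includeRight : B →ₐ[A] C) b from rfl,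
      aeval_algHom_apply, hfz, map_zero]
  have hone : ev u * ev g + ev v * ev h = 1 := by rw [← map_mul, ← map_mul, ← map_add, huv, map_one]
  refine ⟨ev u * ev g, ?_, fun b' hb' => ?_⟩
  · show _ = _
    linear_combination (ev u * ev g) * hone - ev u * ev v * hGH
  let J := I.map (algebraMap A C)
  let m := Ideal.Quotient.mk J
  have hβ : IsIdempotentElem (m β) := by
    show m β * m β = m β
    rw [← map_mul, Ideal.Quotient.eq]
    have := Ideal.mem_map_of_mem (Algebra.TensorProduct.includeRight : B →ₐ[A] C).toRingHom hbb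
    rw [Ideal.map_map] at this
    have e : (Algebra.TensorProduct.includeRight : B →ₐ[A] C) (b * b - b) = β * β - β := by
      rw [map_sub, map_mul]; rfl
    have h' : (Algebra.TensorProduct.includeRight : B →ₐ[A] C) (b * b - b) ∈ J := by
      show _ ∈ I.map (algebraMap A C)
      rw [← AlgHom.comp_algebraMap (Algebra.TensorProduct.includeRight : B →ₐ[A] C)]
      exact this
    rw [e] at h'
    exact h'
  have hJA' : (I.map (algebraMap A A')).map (algebraMap A' C) = J := by
    rw [Ideal.map_map, ← IsScalarTower.algebraMap_eq]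
  let ω : A' ⧸ I.map (algebraMap A A') →+* C ⧸ J :=
    Ideal.quotientMap J (algebraMap A' C) (Ideal.map_le_iff_le_comap.mp hJA'.le)
  have hev : ∀ q : A'[X], m (ev q) = eval₂ ω (m β) (q.map (Ideal.Quotient.mk _)) := by
    intro q
    rw [eval₂_map]
    show m (eval₂ (algebraMap A' C) β q) = _
    rw [hom_eval₂]
    rfl
  have hmg : m (ev g) = m β ^ d := by
    rw [hev, hgI]; simp
  have hmh : m (ev h) = (m β - 1) ^ d := by
    rw [hev, hhI]; simp [eval₂_pow]
  have hd : d ≠ 0 := Nat.succ_ne_zero _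
  have hpow : ∀ x : C ⧸ J, IsIdempotentElem x → x ^ d = x := fun x hx => by
    obtain ⟨k, hk⟩ := Nat.exists_eq_succ_of_ne_zero hd
    rw [hk]; exact hx.pow_succ_eq k
  have h0 : m β * (m β - 1) ^ d = 0 := by
    obtain ⟨k, hk⟩ := Nat.exists_eq_succ_of_ne_zero hd
    rw [hk, pow_succ']
    linear_combination (m β - 1) ^ k * hβ.eq
  have h1 : m (ev u * ev g) = m β := by
    have := congrArg m hone
    rw [map_add, map_mul, map_mul, map_one, hmg, hmh, hpow _ hβ] at this
    rw [map_mul, hmg, hpow _ hβ]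
    linear_combination (m β) * this - (m (ev v)) * h0 - m (ev u) * hβ.eq
  have h2 : m β = m ((1 : A') ⊗ₜ[A] b') := by
    rw [Ideal.Quotient.eq]
    have hd' : b - b' ∈ I.map (algebraMap A B) := Ideal.Quotient.eq.mp (hb.trans hb'.symm)
    have := Ideal.mem_map_of_mem (Algebra.TensorProduct.includeRight : B →ₐ[A] C).toRingHom hd'
    rw [Ideal.map_map] at this
    simpa [J, β, map_sub] using this
  exact Ideal.Quotient.eq.mp (h1.trans h2)

end factor

section projective

theorem exists_etale_lift_projective (P : Type u) [AddCommGroup P] [Module (A ⧸ I) P]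
    [Module.Finite (A ⧸ I) P] [Module.Projective (A ⧸ I) P] :
    ∃ (A' : Type u) (_ : CommRing A') (_ : Algebra A A'), Algebra.Etale A A' ∧
      Function.Bijective (algebraMap (A ⧸ I) (A' ⧸ I.map (algebraMap A A'))) ∧
      ∃ (P' : Type u) (_ : AddCommGroup P') (_ : Module A' P'), Module.Finite A' P' ∧
        Module.Projective A' P' ∧
        Nonempty (((A' ⧸ I.map (algebraMap A A')) ⊗[A'] P') ≃ₗ[A' ⧸ I.map (algebraMap A A')]
          ((A' ⧸ I.map (algebraMap A A')) ⊗[A ⧸ I] P)) := by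
  classical
  obtain ⟨n, p, i, -, -, hpi⟩ := Module.Finite.exists_comp_eq_id_of_projective (A ⧸ I) P
  let Eb : Matrix (Fin n) (Fin n) (A ⧸ I) := LinearMap.toMatrix' (i ∘ₗ p)
  have hEb : IsIdempotentElem Eb := by
    show Eb * Eb = Eb
    rw [← LinearMap.toMatrix'_comp, LinearMap.comp_assoc, ← LinearMap.comp_assoc p i p, hpi,
      LinearMap.id_comp]
  choose Et hEt using fun a b => Ideal.Quotient.mk_surjective (I := I) (Eb a b)
  have hmap : (Matrix.of Et).map (algebraMap A (A ⧸ I)) = Eb := by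
    ext a b; exact hEt a b
  obtain ⟨A₁, _, _, het₁, π, -, E, hE, hπE⟩ := Groth.Agent.Smooth28.exists_etale_idempotent_lift
    (P := A) (A₀ := A ⧸ I) Ideal.Quotient.mk_surjective (Matrix.of Et) (hmap.symm ▸ hEb)
  obtain ⟨A', _, _, het, hbij, φ, hφ⟩ := exists_etale_shrink I π
  let E' := φ.mapMatrix E
  have hE' : E' * E' = E' := by rw [← map_mul, hE.eq]
  let Rb := A' ⧸ I.map (algebraMap A A')
  let q := algebraMap (A ⧸ I) Rb
  have hEq : ∀ a b, Ideal.Quotient.mk (I.map (algebraMap A A')) (E' a b) = q (Eb a b) := fun a b => by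
    rw [show E' a b = φ (E a b) from rfl, hφ, ← hmap, ← hπE]; rfl
  let t : (Fin n → A') →ₗ[A'] (Fin n → A') := Matrix.toLin' E'
  have htt : ∀ v, t (t v) = t v := fun v => by
    simp only [t, Matrix.toLin'_apply, Matrix.mulVec_mulVec, hE']
  let P' := LinearMap.range t
  have : Module.Projective A' P' := Module.Projective.of_split P'.subtype t.rangeRestrict (by
    ext1 ⟨v, w, hw⟩
    exact Subtype.ext (by subst hw; exact htt w))
  have : Module.Finite A' P' := Module.Finite.of_surjective t.rangeRestrict t.surjective_rangeRestrict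
  refine ⟨A', inferInstance, inferInstance, het, hbij, P', inferInstance, inferInstance, inferInstance,
    inferInstance, ?_⟩
  let gen : Fin n → P' := fun j => ⟨t (Pi.single j 1), _, rfl⟩
  let θ : P' →ₗ[A'] Rb ⊗[A ⧸ I] P :=
    { toFun := fun v => ∑ j, Ideal.Quotient.mk (I.map (algebraMap A A')) (v.1 j) ⊗ₜ[A ⧸ I] p (Pi.single j 1)
      map_add' := fun v w => by
        simp only [Submodule.coe_add, Pi.add_apply, map_add, add_tmul, Finset.sum_add_distrib]
      map_smul' := fun r v => by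
        simp only [SetLike.val_smul, Pi.smul_apply, RingHom.id_apply, Finset.smul_sum, smul_tmul']
        rfl }
  let ψ : P →ₗ[A ⧸ I] Rb ⊗[A'] P' :=
    { toFun := fun x => ∑ j, q (i x j) ⊗ₜ[A'] gen j
      map_add' := fun x y => by
        simp only [map_add, Pi.add_apply, add_tmul, Finset.sum_add_distrib]
      map_smul' := fun r x => by
        simp only [map_smul, Pi.smul_apply, RingHom.id_apply, Finset.smul_sum, smul_tmul', smul_eq_mul,
          map_mul, Algebra.smul_def]
        rfl }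
  let fwd : Rb ⊗[A'] P' →ₗ[Rb] Rb ⊗[A ⧸ I] P := AlgebraTensorModule.lift
    ((LinearMap.ringLmapEquivSelf Rb Rb _).symm θ)
  let bwd : Rb ⊗[A ⧸ I] P →ₗ[Rb] Rb ⊗[A'] P' := AlgebraTensorModule.lift
    ((LinearMap.ringLmapEquivSelf Rb Rb _).symm ψ)
  have hfwd : ∀ v, fwd (1 ⊗ₜ v) = θ v := fun v => by simp [fwd]
  have hbwd : ∀ x, bwd (1 ⊗ₜ x) = ψ x := fun x => by simp [bwd]
  have hsingle : ∀ (j k : Fin n), t (Pi.single j 1) k = E' k j := fun j k => by
    simp [t, Matrix.toLin'_apply, Matrix.mulVec_single]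
  have hq : ∀ (c : Rb) (r : A ⧸ I) (x : P), (c * q r) ⊗ₜ[A ⧸ I] x = c ⊗ₜ[A ⧸ I] (r • x) := fun c r x => by
    rw [← smul_tmul, Algebra.smul_def, mul_comm]
  refine ⟨LinearEquiv.ofLinearMap fwd bwd (AlgebraTensorModule.ext fun c x => ?_)
    (AlgebraTensorModule.ext fun c v => ?_)⟩
  · rw [LinearMap.comp_apply, LinearMap.id_apply, show c ⊗ₜ[A ⧸ I] x = c • ((1 : Rb) ⊗ₜ[A ⧸ I] x) by
      rw [smul_tmul', smul_eq_mul, mul_one], map_smul, map_smul, hbwd]
    congr 1
    show fwd (∑ j, q (i x j) ⊗ₜ[A'] _) = _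
    rw [map_sum]
    have h1 : ∀ j, fwd (q (i x j) ⊗ₜ[A'] gen j) =
        ∑ k, (1 : Rb) ⊗ₜ[A ⧸ I] ((i x j * Eb k j) • p (Pi.single k 1)) := fun j => by
      rw [show ∀ w : P', q (i x j) ⊗ₜ[A'] w = q (i x j) • ((1 : Rb) ⊗ₜ[A'] w) from fun w => by
        rw [smul_tmul', smul_eq_mul, mul_one], map_smul, hfwd]
      show q (i x j) • (∑ k, _ ⊗ₜ[A ⧸ I] p (Pi.single k 1)) = _
      rw [Finset.smul_sum]
      refine Finset.sum_congr rfl fun k _ => ?_
      rw [show (gen j).1 k = E' k j from hsingle j k, hEq, smul_tmul', smul_eq_mul, ← map_mul, ← one_mul (q _), hq]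
    rw [Finset.sum_congr rfl fun j _ => h1 j, Finset.sum_comm]
    simp only [← tmul_sum, ← Finset.sum_smul]
    congr 1
    have h2 : ∀ k, ∑ j, i x j * Eb k j = i (p (i x)) k := fun k => by
      have := congrFun (LinearMap.toMatrix'_mulVec (i ∘ₗ p) (i x)) k
      rw [LinearMap.comp_apply] at this
      rw [← this]
      simp only [Matrix.mulVec, dotProduct, Eb, mul_comm]
    simp only [h2]
    have h3 : ∀ w : Fin n → A ⧸ I, ∑ k, w k • p (Pi.single k 1) = p w := fun w => by
      conv_rhs => rw [pi_eq_sum_univ' w, map_sum]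
      exact Finset.sum_congr rfl fun k _ => (map_smul p _ _).symm
    rw [h3]
    have hpi' : ∀ y, p (i y) = y := LinearMap.congr_fun hpi
    rw [hpi', hpi']
  · rw [LinearMap.comp_apply, LinearMap.id_apply, show c ⊗ₜ[A'] v = c • ((1 : Rb) ⊗ₜ[A'] v) by
      rw [smul_tmul', smul_eq_mul, mul_one], map_smul, map_smul, hfwd]
    congr 1
    show bwd (∑ k, Ideal.Quotient.mk _ (v.1 k) ⊗ₜ[A ⧸ I] p (Pi.single k 1)) = _
    rw [map_sum]
    have h1 : ∀ k, bwd (Ideal.Quotient.mk _ (v.1 k) ⊗ₜ[A ⧸ I] p (Pi.single k 1)) =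
        ∑ j, (1 : Rb) ⊗ₜ[A'] ((v.1 k * E' j k) • gen j) := fun k => by
      rw [show ∀ (r : Rb) (w : P), r ⊗ₜ[A ⧸ I] w = r • ((1 : Rb) ⊗ₜ[A ⧸ I] w) from fun r w => by
        rw [smul_tmul', smul_eq_mul, mul_one], map_smul, hbwd]
      show _ • (∑ j, q (i (p (Pi.single k 1)) j) ⊗ₜ[A'] _) = _
      rw [Finset.smul_sum]
      refine Finset.sum_congr rfl fun j _ => ?_
      have : i (p (Pi.single k 1)) j = Eb j k := (LinearMap.toMatrix'_apply (i ∘ₗ p) j k).symm
      rw [this, ← hEq, smul_tmul', smul_eq_mul, ← map_mul, ← smul_tmul, Algebra.smul_def, mul_one]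
      rfl
    rw [Finset.sum_congr rfl fun k _ => h1 k, Finset.sum_comm]
    simp only [← tmul_sum, ← Finset.sum_smul]
    congr 1
    apply Subtype.ext
    obtain ⟨w, hw⟩ := v.2
    have h2 : ∀ j, ∑ k, v.1 k * E' j k = v.1 j := fun j => by
      calc ∑ k, v.1 k * E' j k = t v.1 j := by
            simp only [t, Matrix.toLin'_apply, Matrix.mulVec, dotProduct, mul_comm]
        _ = v.1 j := by rw [← hw, htt]
    simp only [h2, AddSubmonoidClass.coe_finsetSum, SetLike.val_smul]
    conv_rhs => rw [← hw, ← htt w, hw]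
    conv_rhs => rw [pi_eq_sum_univ' v.1, map_sum]
    exact Finset.sum_congr rfl fun k _ => (map_smul t _ _).symm

end projective

end Groth.Agent.CAlg1
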