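import Groth.Prelude.Def_CAlgX
import Mathlib

/-! Descent of formal smoothness along a base extension admitting a linear retraction. -/

set_option autoImplicit false
universe u

open TensorProduct

namespace Groth.Agent.CAlg1

theorem adicFS_descent_retraction {R S R' : Type u} [CommRing R] [CommRing S] [Algebra R S]
    (𝔫 : Ideal S) [CommRing R'] [Algebra R R'] (ρ : R' →ₗ[R] R) (hρ : ∀ r : R, ρ (algebraMap R R' r) = r)
    (h : CAlgX.IsAdicFormallySmooth R' (R' ⊗[R] S)
      (𝔫.map (Algebra.TensorProduct.includeRight : S →ₐ[R] R' ⊗[R] S))) :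
    CAlgX.IsAdicFormallySmooth R S 𝔫 := by
  intro C _ _ J hJ ψ hψ
  obtain ⟨k, hk⟩ := hψ
  let ι : C →ₐ[R] R' ⊗[R] C := Algebra.TensorProduct.includeRight
  let J' : Ideal (R' ⊗[R] C) := J.map ι.toRingHom
  have hJ' : J' ^ 2 = ⊥ := by rw [← Ideal.map_pow, hJ, Ideal.map_bot]
  let q : C ⧸ J →ₐ[R] (R' ⊗[R] C) ⧸ J' :=
    Ideal.Quotient.liftₐ J ((Ideal.Quotient.mkₐ R J').comp ι) fun c hc =>
      Ideal.Quotient.eq_zero_iff_mem.mpr (Ideal.mem_map_of_mem _ hc)
  let ψ' : R' ⊗[R] S →ₐ[R'] (R' ⊗[R] C) ⧸ J' :=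
    Algebra.TensorProduct.lift (Algebra.ofId R' _) (q.comp ψ) fun _ _ => Commute.all _ _
  obtain ⟨χ, hχ⟩ := h (R' ⊗[R] C) J' hJ' ψ' ⟨k, fun w hw => by
    have hle : ((𝔫.map (Algebra.TensorProduct.includeRight : S →ₐ[R] R' ⊗[R] S)) ^ k) ≤ RingHom.ker ψ'.toRingHom := by
      rw [← Ideal.map_pow, Ideal.map_le_iff_le_comap]
      intro x hx
      show ψ' ((1 : R') ⊗ₜ[R] x) = 0
      rw [Algebra.TensorProduct.lift_tmul, map_one, one_mul, AlgHom.comp_apply, hk x hx, map_zero]
    exact hle hw⟩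
  let P : R' ⊗[R] C →ₗ[R] C := (TensorProduct.lid R C).toLinearMap ∘ₗ ρ.rTensor C
  have hP : ∀ (r : R') (c : C), P (r ⊗ₜ c) = ρ r • c := fun r c => by simp [P]
  have hρ1 : ρ 1 = 1 := by rw [← map_one (algebraMap R R')]; exact hρ 1
  have hPι : ∀ c, P (ι c) = c := fun c => by
    show P ((1 : R') ⊗ₜ c) = c
    rw [hP, hρ1, one_smul]
  have hPmul : ∀ (c : C) (w : R' ⊗[R] C), P (ι c * w) = c * P w := fun c w => by
    induction w with
    | zero => simp
    | add a b ha hb => rw [mul_add, map_add, map_add, ha, hb, mul_add]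
    | tmul r d =>
      show P ((1 : R') ⊗ₜ c * r ⊗ₜ d) = _
      rw [Algebra.TensorProduct.tmul_mul_tmul, one_mul, hP, hP, mul_smul_comm]
  have hPJ : ∀ w ∈ J', P w ∈ J := by
    intro w hw
    obtain ⟨l, hl⟩ := (Finsupp.mem_ideal_span_range_iff_exists_finsupp
      (v := fun c : J => ι (c : C))).mp (by
        have : J' = Ideal.span (Set.range fun c : J => ι (c : C)) := by
          show J.map ι.toRingHom = _
          rw [Ideal.map, Set.image_eq_range]
          rfl
        rw [← this]; exact hw)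
    rw [← hl, Finsupp.sum, map_sum]
    refine J.sum_mem fun c _ => ?_
    rw [mul_comm, hPmul]
    exact J.mul_mem_right _ c.2
  let g : S →ₐ[R] R' ⊗[R] C := (χ.restrictScalars R).comp Algebra.TensorProduct.includeRight
  have hg : ∀ s c, Ideal.Quotient.mk J c = ψ s → g s - ι c ∈ J' := fun s c hc => by
    rw [← Ideal.Quotient.eq]
    refine (AlgHom.congr_fun hχ ((1 : R') ⊗ₜ[R] s)).trans ?_
    rw [Algebra.TensorProduct.lift_tmul, map_one, one_mul, AlgHom.comp_apply, ← hc]
    rfl
  choose c hc using fun s => Ideal.Quotient.mk_surjective (ψ s)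
  have hsq : ∀ a ∈ J, ∀ b ∈ J, a * b = 0 := fun a ha b hb => by
    have : a * b ∈ J ^ 2 := by rw [pow_two]; exact Ideal.mul_mem_mul ha hb
    rwa [hJ] at this
  have hsq' : ∀ a ∈ J', ∀ b ∈ J', a * b = 0 := fun a ha b hb => by
    have : a * b ∈ J' ^ 2 := by rw [pow_two]; exact Ideal.mul_mem_mul ha hb
    rwa [hJ'] at this
  have hdec : ∀ s, P (g s) = c s + P (g s - ι (c s)) := fun s => by rw [map_sub, hPι]; ring
  have hmul : ∀ s t, P (g (s * t)) = P (g s) * P (g t) := by
    intro s t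
    set a := g s - ι (c s) with ha
    set b := g t - ι (c t) with hb
    have hA : a ∈ J' := hg s _ (hc s)
    have hB : b ∈ J' := hg t _ (hc t)
    have e : g (s * t) = ι (c s * c t) + ι (c s) * b + ι (c t) * a + a * b := by
      rw [map_mul, map_mul, ha, hb]; ring
    rw [e, hsq' a hA b hB, add_zero, map_add, map_add, hPι, hPmul, hPmul, hdec s, hdec t, ← ha, ← hb, add_mul,
      mul_add, mul_add, hsq (P a) (hPJ a hA) (P b) (hPJ b hB)]
    ring
  have hone : P (g 1) = 1 := by
    rw [map_one g, ← map_one ι, hPι]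
  refine ⟨{ toFun := fun s => P (g s), map_one' := hone, map_mul' := hmul, map_zero' := by rw [map_zero, map_zero],
            map_add' := fun a b => by rw [map_add, map_add],
            commutes' := fun r => by
              show P (g (algebraMap R S r)) = _
              rw [AlgHom.commutes, ← ι.commutes, hPι] }, AlgHom.ext fun s => ?_⟩
  show Ideal.Quotient.mk J (P (g s)) = ψ s
  rw [hdec s, map_add, hc s, Ideal.Quotient.eq_zero_iff_mem.mpr (hPJ _ (hg s _ (hc s))), add_zero]

end Groth.Agent.CAlg1
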