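import Groth.Agent.FlatCrit65.Basic
import Groth.Agent.CAlg1.Complete
import Groth.Agent.CAlg5.AdicFS
import Mathlib

/-! Complete modules which are flat modulo the powers of the ideal are flat (Noetherian rings). -/

set_option autoImplicit false
set_option linter.style.haveILetI false
universe u

open TensorProduct

namespace Groth.Agent.CAlg1.FlatCpl

/-- systems of linear equations in flat modules -/
theorem flat_system {S V : Type u} [CommRing S] [AddCommGroup V] [Module S V] [Module.Flat S V] :
    ∀ (l m : ℕ) (z : Fin l → Fin m → S) (v : Fin m → V), (∀ i, ∑ j, z i j • v j = 0) →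
      ∃ (k : ℕ) (C : Fin m → Fin k → S) (y : Fin k → V),
        (∀ j, v j = ∑ t, C j t • y t) ∧ ∀ i t, ∑ j, z i j * C j t = 0 := by
  classical
  intro l
  induction l with
  | zero =>
    intro m z v _
    refine ⟨m, fun j t => if j = t then 1 else 0, v, fun j => ?_, fun i => i.elim0⟩
    simp [ite_smul]
  | succ l ih =>
    intro m z v hv
    obtain ⟨k, C, y, hy, hC⟩ := Module.Flat.isTrivialRelation_of_sum_smul_eq_zero (hv 0)
    obtain ⟨k', D, y', hy', hD⟩ := ih k (fun i t => ∑ j, z i.succ j * C j t) y fun i => by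
      rw [← hv i.succ]
      simp only [Finset.sum_smul, mul_smul]
      rw [Finset.sum_comm]
      refine Finset.sum_congr rfl fun j _ => ?_
      rw [hy j, Finset.smul_sum]
    refine ⟨k', fun j t => ∑ s, C j s * D s t, y', fun j => ?_, fun i t => ?_⟩
    · rw [hy j]
      simp only [hy', Finset.smul_sum, Finset.sum_smul, mul_smul]
      rw [Finset.sum_comm]
    · have key : ∑ j, z i j * ∑ s, C j s * D s t = ∑ s, (∑ j, z i j * C j s) * D s t := by
        simp only [Finset.mul_sum, Finset.sum_mul, mul_assoc]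
        rw [Finset.sum_comm]
      rw [key]
      refine Fin.cases ?_ (fun i => ?_) i
      · exact Finset.sum_eq_zero fun s _ => by rw [hC s, zero_mul]
      · exact hD i t

variable {A : Type u} [CommRing A] [IsNoetherianRing A] (J : Ideal A) {P : Type u} [AddCommGroup P]
  [Module A P]

/-- approximate solutions are near exact solutions -/
theorem key_lemma (hflat : ∀ N, Module.Flat (A ⧸ J ^ N) (P ⧸ (J ^ N • ⊤ : Submodule A P)))
    {l m : ℕ} (z : Fin l → Fin m → A) (n : ℕ) :
    ∃ N, n ≤ N ∧ ∀ v : Fin m → P, (∀ i, ∑ j, z i j • v j ∈ (J ^ N • ⊤ : Submodule A P)) →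
      ∃ (k : ℕ) (C : Fin m → Fin k → A) (y : Fin k → P), (∀ i t, ∑ j, z i j * C j t = 0) ∧
        ∀ j, v j - ∑ t, C j t • y t ∈ (J ^ n • ⊤ : Submodule A P) := by
  classical
  let Z : (Fin m → A) →ₗ[A] (Fin l → A) :=
    { toFun := fun a i => ∑ j, z i j * a j
      map_add' := fun a b => funext fun i => by simp [mul_add, Finset.sum_add_distrib]
      map_smul' := fun c a => funext fun i => by simp [Finset.mul_sum, mul_left_comm] }
  obtain ⟨c, hc⟩ := J.exists_pow_inf_eq_pow_smul (M := Fin l → A) (LinearMap.range Z)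
  refine ⟨n + c, Nat.le_add_right n c, fun v hv => ?_⟩
  have := hflat (n + c)
  let q := (J ^ (n + c) • ⊤ : Submodule A P).mkQ
  have hqs : ∀ (a : A) (p : P), Ideal.Quotient.mk (J ^ (n + c)) a • q p = q (a • p) := fun a p => rfl
  obtain ⟨k, Cb, yb, hyb, hCb⟩ := flat_system l m (fun i j => Ideal.Quotient.mk (J ^ (n + c)) (z i j))
    (fun j => q (v j)) fun i => by
      simp only [hqs, ← map_sum]
      exact (Submodule.Quotient.mk_eq_zero _).2 (hv i)
  choose C' hC' using fun j t => Ideal.Quotient.mk_surjective (Cb j t)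
  choose y' hy' using fun t => Submodule.mkQ_surjective _ (yb t)
  -- correct the coefficients
  have hcol : ∀ t, ∃ w : Fin m → A, (∀ i, ∑ j, z i j * w j = 0) ∧ ∀ j, C' j t - w j ∈ J ^ n := by
    intro t
    have h1 : Z (fun j => C' j t) ∈ (J ^ (n + c) • ⊤ : Submodule A (Fin l → A)) := by
      have h0 : ∀ i, Z (fun j => C' j t) i ∈ J ^ (n + c) := fun i => by
        rw [← Ideal.Quotient.eq_zero_iff_mem]
        show Ideal.Quotient.mk _ (∑ j, z i j * C' j t) = 0
        rw [map_sum]
        refine Eq.trans (Finset.sum_congr rfl fun j _ => ?_) (hCb i t)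
        rw [map_mul, hC']
      rw [pi_eq_sum_univ (Z fun j => C' j t)]
      exact Submodule.sum_mem _ fun i _ => Submodule.smul_mem_smul (h0 i) Submodule.mem_top
    have h2 : Z (fun j => C' j t) ∈ (J ^ n • LinearMap.range Z : Submodule A (Fin l → A)) := by
      have h3 : Z (fun j => C' j t) ∈ J ^ (n + c) • ⊤ ⊓ LinearMap.range Z := ⟨h1, ⟨_, rfl⟩⟩
      rw [hc (n + c) (Nat.le_add_left c n), Nat.add_sub_cancel] at h3
      exact (Submodule.smul_mono le_rfl inf_le_right) h3
    rw [LinearMap.range_eq_map, ← Submodule.map_smul''] at h2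
    obtain ⟨d, hd, hdZ⟩ := h2
    have hd' : ∀ j, d j ∈ J ^ n := fun j => by
      refine Submodule.smul_induction_on hd (fun a ha b _ => ?_) (fun a b ha hb => ?_)
      · exact Ideal.mul_mem_right (b j) _ ha
      · exact add_mem ha hb
    refine ⟨fun j => C' j t - d j, fun i => ?_, fun j => by rw [sub_sub_cancel]; exact hd' j⟩
    have := congrFun (show Z ((fun j => C' j t) - d) = 0 by rw [map_sub, hdZ, sub_self]) i
    exact this
  choose w hw hwC using hcol
  refine ⟨k, fun j t => w t j, y', fun i t => hw t i, fun j => ?_⟩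
  have h1 : v j - ∑ t, C' j t • y' t ∈ (J ^ (n + c) • ⊤ : Submodule A P) := by
    rw [← Submodule.Quotient.mk_eq_zero]
    show q (v j - ∑ t, C' j t • y' t) = 0
    rw [map_sub, map_sum, sub_eq_zero, hyb j]
    refine Finset.sum_congr rfl fun t _ => ?_
    rw [← hqs, hC', hy']
  have h2 : ∑ t, (C' j t - w t j) • y' t ∈ (J ^ n • ⊤ : Submodule A P) :=
    Submodule.sum_mem _ fun t _ => Submodule.smul_mem_smul (hwC t j) Submodule.mem_top
  have h3 := add_mem (Submodule.smul_mono_left (Ideal.pow_le_pow_right (Nat.le_add_right n c)) h1) h2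
  simp only [sub_smul, Finset.sum_sub_distrib] at h3
  rwa [sub_add_sub_cancel] at h3

/-- the limit criterion of flatness -/
theorem flat_of_flat_mods [IsAdicComplete J P]
    (hflat : ∀ N, Module.Flat (A ⧸ J ^ N) (P ⧸ (J ^ N • ⊤ : Submodule A P))) : Module.Flat A P := by
  classical
  rw [Module.Flat.iff_forall_isTrivialRelation]
  intro l f x hx
  -- generators of the syzygies
  let φ : (Fin l → A) →ₗ[A] A :=
    { toFun := fun a => ∑ i, f i * a i
      map_add' := fun a b => by simp [mul_add, Finset.sum_add_distrib]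
      map_smul' := fun c a => by simp [Finset.mul_sum, mul_left_comm] }
  obtain ⟨s, hs⟩ := IsNoetherian.noetherian (LinearMap.ker φ)
  let m := s.card
  let g : Fin m → (Fin l → A) := fun t => s.equivFin.symm t
  have hg : Submodule.span A (Set.range g) = LinearMap.ker φ := by
    rw [← hs]
    congr 1
    ext a
    exact ⟨fun ⟨t, ht⟩ => ht ▸ (s.equivFin.symm t).2, fun ha => ⟨s.equivFin ⟨a, ha⟩, by simp [g]⟩⟩
  let z : Fin l → Fin m → A := fun i t => g t i
  have hrel : ∀ t, ∑ i, f i * g t i = 0 := fun t =>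
    (hg.le (Submodule.subset_span ⟨t, rfl⟩) : g t ∈ LinearMap.ker φ)
  -- the exactness defects
  choose N1 hN1 key1 using fun n => key_lemma J hflat (fun (_ : Fin 1) i => f i) n
  choose N2 hN2 key2 using fun n => key_lemma J hflat z n
  have hsolve : ∀ n, ∃ y : Fin m → P, ∀ i, x i - ∑ t, g t i • y t ∈ (J ^ n • ⊤ : Submodule A P) := by
    intro n
    obtain ⟨k, C, y, hC, hy⟩ := key1 n x fun _ => by rw [hx]; exact zero_mem _
    have hmem : ∀ t, ∃ a : Fin m → A, ∀ i, C i t = ∑ u, a u * g u i := fun t => by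
      have h1 : (fun i => C i t) ∈ Submodule.span A (Set.range g) := hg.ge (hC 0 t)
      obtain ⟨a, ha⟩ := (Submodule.mem_span_range_iff_exists_fun A).1 h1
      exact ⟨a, fun i => by rw [← congrFun ha i]; simp⟩
    choose a ha using hmem
    refine ⟨fun u => ∑ t, a t u • y t, fun i => ?_⟩
    convert hy i using 2
    simp only [ha, Finset.sum_smul, Finset.smul_sum, smul_smul]
    rw [Finset.sum_comm]
    exact Finset.sum_congr rfl fun t _ => Finset.sum_congr rfl fun u _ => by rw [mul_comm]
  -- a compatible sequence of solutions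
  let N : ℕ → ℕ := fun n => Nat.rec (N2 0) (fun k prev => max prev (N2 (k + 1))) n
  have hNmono : ∀ n, N n ≤ N (n + 1) := fun n => le_max_left _ _
  have hN2N : ∀ n, N2 n ≤ N n := fun n => by
    cases n with
    | zero => exact le_rfl
    | succ k => exact le_max_right _ _
  have hstep : ∀ n (y : Fin m → P), (∀ i, x i - ∑ t, g t i • y t ∈ (J ^ N n • ⊤ : Submodule A P)) →
      ∃ y' : Fin m → P, (∀ i, x i - ∑ t, g t i • y' t ∈ (J ^ N (n + 1) • ⊤ : Submodule A P)) ∧
        ∀ t, y t - y' t ∈ (J ^ n • ⊤ : Submodule A P) := by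
    intro n y hy
    obtain ⟨y1, hy1⟩ := hsolve (N (n + 1))
    obtain ⟨k, C, w, hC, hw⟩ := key2 n (fun t => y t - y1 t) fun i => by
      refine Submodule.smul_mono_left (Ideal.pow_le_pow_right (hN2N n)) ?_
      have h1 := sub_mem (Submodule.smul_mono_left (Ideal.pow_le_pow_right (hNmono n)) (hy1 i)) (hy i)
      rw [sub_sub_sub_cancel_left] at h1
      simp only [z, smul_sub, Finset.sum_sub_distrib]
      exact h1
    refine ⟨fun t => y1 t + ∑ u, C t u • w u, fun i => ?_, fun t => ?_⟩
    · have h0 : ∑ t, g t i • ∑ u, C t u • w u = 0 := by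
        simp only [Finset.smul_sum, smul_smul]
        rw [Finset.sum_comm]
        refine Finset.sum_eq_zero fun u _ => ?_
        rw [← Finset.sum_smul, hC i u, zero_smul]
      simp only [smul_add, Finset.sum_add_distrib, h0, add_zero]
      exact hy1 i
    · rw [← sub_sub]; exact hw t
  choose! next hnext hclose using hstep
  let Y : ℕ → (Fin m → P) := fun n => Nat.rec (hsolve (N 0)).choose next n
  have hY : ∀ n i, x i - ∑ t, g t i • Y n t ∈ (J ^ N n • ⊤ : Submodule A P) := by
    intro n
    induction n with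
    | zero => exact (hsolve (N 0)).choose_spec
    | succ n ih => exact hnext n _ ih
  have hcauchy : ∀ t, ∀ {a b : ℕ}, a ≤ b → Y a t ≡ Y b t [SMOD (J ^ a • ⊤ : Submodule A P)] := by
    intro t a b hab
    induction b, hab using Nat.le_induction with
    | base => exact SModEq.refl _
    | succ b hab ih =>
      refine ih.trans (SModEq.sub_mem.2 ?_)
      exact Submodule.smul_mono_left (Ideal.pow_le_pow_right hab) (hclose b _ (hY b) t)
  choose L hL using fun t => IsPrecomplete.prec (I := J) (M := P) inferInstance (f := fun n => Y n t) (hcauchy t)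
  refine ⟨m, z, L, fun i => ?_, hrel⟩
  rw [← sub_eq_zero]
  refine IsHausdorff.haus (I := J) inferInstance _ fun n => ?_
  rw [SModEq.zero]
  have h1 := Submodule.smul_mono_left (Ideal.pow_le_pow_right ((hN2 n).trans (hN2N n))) (hY n i)
  have h2 : ∑ t, g t i • (Y n t - L t) ∈ (J ^ n • ⊤ : Submodule A P) :=
    Submodule.sum_mem _ fun t _ => Submodule.smul_mem _ _ (SModEq.sub_mem.1 (hL t n))
  have h3 := add_mem h1 h2
  simp only [smul_sub, Finset.sum_sub_distrib] at h3
  rwa [sub_add_sub_cancel] at h3

theorem flat_of_semilinear {S S' V V' : Type u} [CommRing S] [CommRing S'] [AddCommGroup V] [Module S V]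
    [AddCommGroup V'] [Module S' V'] (e : S ≃+* S') (ε : V ≃+ V') (hε : ∀ s v, ε (s • v) = e s • ε v)
    [Module.Flat S' V'] : Module.Flat S V := by
  rw [Module.Flat.iff_forall_isTrivialRelation]
  intro l f x hx
  obtain ⟨k, a, y, hy, ha⟩ := Module.Flat.isTrivialRelation_of_sum_smul_eq_zero
    (f := fun i => e (f i)) (x := fun i => ε (x i)) (by
      simp only [← hε, ← map_sum, hx, map_zero])
  refine ⟨k, fun i j => e.symm (a i j), fun j => ε.symm (y j), fun i => ε.injective ?_, fun j => e.injective ?_⟩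
  · rw [map_sum]
    refine (hy i).trans ?_
    exact Finset.sum_congr rfl fun j _ => by rw [hε, e.apply_symm_apply, ε.apply_symm_apply]
  · rw [map_sum, map_zero, ← ha j]
    exact Finset.sum_congr rfl fun i _ => by rw [map_mul, e.apply_symm_apply]

open FlatCrit65

variable {R : Type u} [CommRing R] (I : Ideal R) {M : Type u} [AddCommGroup M] [Module R M]

theorem flat_quot_pow (h1 : Function.Injective (I.subtype.lTensor M))
    (h2 : Module.Flat (R ⧸ I) ((R ⧸ I) ⊗[R] M)) (N : ℕ) :
    Module.Flat (R ⧸ I ^ N) (M ⧸ (I ^ N • ⊤ : Submodule R M)) := by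
  have hT := (torTriv_of_injective h1 h2).pow N
  let S := R ⧸ I ^ N
  have hflat : Module.Flat S (S ⊗[R] M) := by
    rw [Module.Flat.iff_lTensor_injective']
    intro K
    have h := hT S (K.restrictScalars R) (by
      refine le_trans (le_of_eq ?_) bot_le
      rw [eq_bot_iff, Submodule.smul_le]
      intro r hr s _
      rw [Submodule.mem_bot, Algebra.smul_def, Ideal.Quotient.algebraMap_eq, Ideal.Quotient.eq_zero_iff_mem.2 hr,
        zero_mul])
    let eK : (S ⊗[R] M) ⊗[S] K ≃ₗ[R] M ⊗[R] K :=
      (TensorProduct.comm S (S ⊗[R] M) K).restrictScalars R ≪≫ₗ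
        (AlgebraTensorModule.cancelBaseChange R S S K M).restrictScalars R ≪≫ₗ TensorProduct.comm R K M
    let eS : (S ⊗[R] M) ⊗[S] S ≃ₗ[R] M ⊗[R] S :=
      (TensorProduct.comm S (S ⊗[R] M) S).restrictScalars R ≪≫ₗ
        (AlgebraTensorModule.cancelBaseChange R S S S M).restrictScalars R ≪≫ₗ TensorProduct.comm R S M
    have hcomm : ∀ u, eS (K.subtype.lTensor (S ⊗[R] M) u) = (K.restrictScalars R).subtype.lTensor M (eK u) := by
      intro u
      induction u using TensorProduct.induction_on with
      | zero => rw [map_zero, map_zero, map_zero]; exact (map_zero _).symm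
      | add a b ha hb => rw [map_add, map_add, map_add, ha, hb]; exact (map_add _ _ _).symm
      | tmul w k =>
        induction w using TensorProduct.induction_on with
        | zero => rw [TensorProduct.zero_tmul, map_zero, map_zero, map_zero]; exact (map_zero _).symm
        | add a b ha hb => rw [TensorProduct.add_tmul, map_add, map_add, map_add, ha, hb]; exact (map_add _ _ _).symm
        | tmul s p =>
          simp [eS, eK]
          rfl
    intro a b hab
    apply eK.injective
    refine h ?_
    rw [← hcomm, ← hcomm, hab]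
  let e := (TensorProduct.quotTensorEquivQuotSMul M (I ^ N)).extendScalarsOfSurjective
    (S := S) Ideal.Quotient.mk_surjective
  exact Module.Flat.of_linearEquiv e.symm

theorem flat_adicCompletion (hI : I.FG) [IsNoetherianRing (R ⧸ I)]
    [Module.Flat (R ⧸ I) (M ⧸ (I • ⊤ : Submodule R M))]
    (hT : Function.Injective (TensorProduct.lift ((LinearMap.lsmul R M).comp (Submodule.subtype I)))) :
    Module.Flat (AdicCompletion I R) (AdicCompletion I M) := by
  let A := AdicCompletion I R
  let P := AdicCompletion I M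
  let J := I.map (algebraMap R A)
  have : IsNoetherianRing A := CAlg1.isNoetherianRing_adicCompletion I hI
  have hc : IsAdicComplete I P := AdicCompletion.isAdicComplete hI
  have : IsAdicComplete J P := (IsAdicComplete.map_algebraMap_iff _ _).mpr hc
  have h1 : Function.Injective (I.subtype.lTensor M) := by
    have hc : ∀ u : M ⊗[R] I, TensorProduct.rid R M (I.subtype.lTensor M u) =
        TensorProduct.lift ((LinearMap.lsmul R M).comp (Submodule.subtype I)) (TensorProduct.comm R M I u) := by
      intro u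
      induction u using TensorProduct.induction_on with
      | zero => simp
      | add a b ha hb => simp only [map_add, ha, hb]
      | tmul p i => simp
    intro a b hab
    refine (TensorProduct.comm R M I).injective (hT ?_)
    rw [← hc, ← hc, hab]
  have h2 : Module.Flat (R ⧸ I) ((R ⧸ I) ⊗[R] M) :=
    Module.Flat.of_linearEquiv
      ((TensorProduct.quotTensorEquivQuotSMul M I).extendScalarsOfSurjective (S := R ⧸ I) Ideal.Quotient.mk_surjective)
  refine flat_of_flat_mods J fun N => ?_
  have hker : ∀ p : P, p ∈ (J ^ N • ⊤ : Submodule A P) ↔ AdicCompletion.eval I M N p = 0 := fun p => by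
    rw [← LinearMap.mem_ker, ← AdicCompletion.pow_smul_top_eq_ker_eval hI,
      ← Submodule.restrictScalars_mem R (J ^ N • ⊤ : Submodule A P), ← Ideal.map_pow,
      Ideal.smul_restrictScalars, Submodule.restrictScalars_top]
  have hkerA : RingHom.ker (AdicCompletion.evalₐ I N).toRingHom = J ^ N := by
    ext a
    rw [RingHom.mem_ker]
    show AdicCompletion.evalₐ I N a = 0 ↔ _
    rw [CAlg5.evalₐ_eq_zero_iff I hI]
  let e : A ⧸ J ^ N ≃+* R ⧸ I ^ N :=
    (Ideal.quotEquivOfEq hkerA.symm).trans (RingHom.quotientKerEquivOfSurjective (AdicCompletion.surjective_evalₐ I N))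
  let ev : P →+ M ⧸ (I ^ N • ⊤ : Submodule R M) := (AdicCompletion.eval I M N).toAddMonoidHom
  let ε0 : (P ⧸ (J ^ N • ⊤ : Submodule A P)) →+ M ⧸ (I ^ N • ⊤ : Submodule R M) :=
    QuotientAddGroup.lift _ ev fun p hp => (hker p).1 hp
  let ε : (P ⧸ (J ^ N • ⊤ : Submodule A P)) ≃+ M ⧸ (I ^ N • ⊤ : Submodule R M) :=
    AddEquiv.ofBijective ε0 ⟨by
      rw [injective_iff_map_eq_zero]
      intro x hx
      obtain ⟨p, rfl⟩ := Submodule.mkQ_surjective _ x
      exact (Submodule.Quotient.mk_eq_zero _).2 ((hker p).2 hx), fun y => by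
      obtain ⟨p, hp⟩ := AdicCompletion.eval_surjective I M N y
      exact ⟨Submodule.Quotient.mk p, hp⟩⟩
  have := flat_quot_pow I h1 h2 N
  refine flat_of_semilinear e ε fun s v => ?_
  obtain ⟨a, rfl⟩ := Ideal.Quotient.mk_surjective s
  obtain ⟨p, rfl⟩ := Submodule.mkQ_surjective _ v
  show AdicCompletion.eval I M N (a • p) = AdicCompletion.evalₐ I N a • AdicCompletion.eval I M N p
  exact AdicCompletion.val_smul_eq_evalₐ_smul I N a _

end Groth.Agent.CAlg1.FlatCpl
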