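import Mathlib

/-! Flat local extensions of arbitrary local rings with prescribed residue field. -/

set_option autoImplicit false
set_option linter.style.haveILetI false
universe u

open IsLocalRing Polynomial

namespace Groth.Agent.CAlg1.Gonfl

theorem flat_of_chain {R P : Type u} [CommRing R] [CommRing P] [Algebra R P] (c : Set (Ideal P))
    (hne : c.Nonempty) (hc : DirectedOn (· ≤ ·) c) (h : ∀ J ∈ c, Module.Flat R (P ⧸ J)) :
    Module.Flat R (P ⧸ sSup c) := by
  rw [Module.Flat.iff_forall_isTrivialRelation]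
  intro l f x hx
  choose y hy using fun i => Ideal.Quotient.mk_surjective (x i)
  obtain rfl : x = fun i => Ideal.Quotient.mk (sSup c) (y i) := funext fun i => (hy i).symm
  have hmem : ∑ i, f i • y i ∈ sSup c := by
    rw [← Ideal.Quotient.eq_zero_iff_mem, ← hx, map_sum]
    rfl
  obtain ⟨J, hJ, hJm⟩ := (Submodule.mem_sSup_of_directed hne hc).1 hmem
  have := h J hJ
  obtain ⟨k, a, z, hz, ha⟩ := Module.Flat.isTrivialRelation_of_sum_smul_eq_zero
    (f := f) (x := fun i => Ideal.Quotient.mk J (y i)) (by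
      rw [← Ideal.Quotient.eq_zero_iff_mem.2 hJm, map_sum]; rfl)
  let q := Ideal.Quotient.factorₐ R (le_sSup hJ)
  refine ⟨k, a, fun j => q (z j), fun i => ?_, ha⟩
  have h1 := congrArg q (hz i)
  rw [map_sum] at h1
  exact h1.trans (Finset.sum_congr rfl fun j _ => map_smul q _ _)

/-- adjoining a root of a monic polynomial -/
theorem flat_step {R A : Type u} [CommRing R] [CommRing A] [Algebra R A] (J0 : Ideal A)
    [Module.Flat R (A ⧸ J0)] {f : A[X]} (hf : f.Monic) :
    Module.Flat R (A[X] ⧸ (J0.map Polynomial.C ⊔ Ideal.span {f})) := by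
  let f' := f.map (Ideal.Quotient.mk J0)
  have hf' : f'.Monic := hf.map _
  have := hf'.free_adjoinRoot
  have : Module.Flat (A ⧸ J0) (AdjoinRoot f') := inferInstance
  have : Module.Flat R (AdjoinRoot f') := Module.Flat.trans R (A ⧸ J0) _
  let g : A[X] →ₐ[R] AdjoinRoot f' :=
    AlgHom.mk ((AdjoinRoot.mk f').comp (Polynomial.mapRingHom (Ideal.Quotient.mk J0))) fun r => by
      simp [AdjoinRoot.mk_C, Polynomial.algebraMap_apply]
      rfl
  have hms : Function.Surjective (Polynomial.mapRingHom (Ideal.Quotient.mk J0)) :=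
    Polynomial.map_surjective _ Ideal.Quotient.mk_surjective
  have hs : Function.Surjective g := AdjoinRoot.mk_surjective.comp hms
  have hker : RingHom.ker g = J0.map Polynomial.C ⊔ Ideal.span {f} := by
    show RingHom.ker ((AdjoinRoot.mk f').comp (Polynomial.mapRingHom (Ideal.Quotient.mk J0))) = _
    rw [← RingHom.comap_ker, show RingHom.ker (AdjoinRoot.mk f') = Ideal.span {f'} from Ideal.mk_ker,
      show Ideal.span {f'} = (Ideal.span {f}).map (Polynomial.mapRingHom (Ideal.Quotient.mk J0)) by
        rw [Ideal.map_span, Set.image_singleton]; rfl,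
      Ideal.comap_map_of_surjective' _ hms, Polynomial.ker_mapRingHom, Ideal.mk_ker, sup_comm]
  exact Module.Flat.of_linearEquiv
    ((Ideal.quotientEquivAlgOfEq R hker.symm).trans (Ideal.quotientKerAlgEquivOfSurjective hs)).toLinearEquiv

section

variable (R : Type u) [CommRing R] [IsLocalRing R] (K : Type u) [Field K] [Algebra R K]

/-- the evaluation map -/
noncomputable def ev : MvPolynomial K R →ₐ[R] K := MvPolynomial.aeval id

/-- partial solutions -/
def Good (x : Set K × Ideal (MvPolynomial K R)) : Prop :=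
  x.2 ≤ RingHom.ker (ev R K) ∧ Module.Flat R (MvPolynomial K R ⧸ x.2) ∧
    x.2 ≤ Ideal.span {p | p ∈ x.2 ∧ p ∈ MvPolynomial.supported R x.1} ∧
    ∀ p ∈ MvPolynomial.supported R x.1, ev R K p = 0 → p ∈ x.2 ⊔ (maximalIdeal R).map MvPolynomial.C

variable {R K}

theorem good_empty [IsLocalHom (algebraMap R K)] : Good R K (∅, ⊥) := by
  refine ⟨bot_le, Module.Flat.of_linearEquiv (AlgEquiv.quotientBot R (MvPolynomial K R)).toLinearEquiv,
    bot_le, fun p hp h0 => ?_⟩
  rw [MvPolynomial.supported_empty, Algebra.mem_bot] at hp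
  obtain ⟨r, rfl⟩ := hp
  refine Ideal.mem_sup_right (Ideal.mem_map_of_mem (I := maximalIdeal R) MvPolynomial.C ?_)
  rw [AlgHom.commutes] at h0
  exact fun hu => (hu.map (algebraMap R K)).ne_zero h0

theorem good_chain (c : Set (Set K × Ideal (MvPolynomial K R))) (hcG : ∀ x ∈ c, Good R K x)
    (hc : IsChain (· ≤ ·) c) (hne : c.Nonempty) : ∃ ub, Good R K ub ∧ ∀ x ∈ c, x ≤ ub := by
  let J := sSup (Prod.snd '' c)
  let E := ⋃ x ∈ c, x.1
  have hdirJ : DirectedOn (· ≤ ·) (Prod.snd '' c) := by
    rintro _ ⟨a, ha, rfl⟩ _ ⟨b, hb, rfl⟩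
    obtain ⟨d, hd, had, hbd⟩ := hc.directedOn a ha b hb
    exact ⟨d.2, ⟨d, hd, rfl⟩, had.2, hbd.2⟩
  have hmem : ∀ x ∈ c, x.2 ≤ J := fun x hx => le_sSup ⟨x, hx, rfl⟩
  have hE : ∀ x ∈ c, x.1 ⊆ E := fun x hx => Set.subset_biUnion_of_mem (u := Prod.fst) hx
  refine ⟨(E, J), ⟨sSup_le ?_, flat_of_chain _ (hne.image _) hdirJ ?_, sSup_le ?_, fun p hp h0 => ?_⟩,
    fun x hx => ⟨hE x hx, hmem x hx⟩⟩
  · rintro _ ⟨x, hx, rfl⟩; exact (hcG x hx).1
  · rintro _ ⟨x, hx, rfl⟩; exact (hcG x hx).2.1
  · rintro _ ⟨x, hx, rfl⟩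
    exact (hcG x hx).2.2.1.trans (Ideal.span_mono fun p hp =>
      ⟨hmem x hx hp.1, MvPolynomial.supported_mono (hE x hx) hp.2⟩)
  · rw [MvPolynomial.mem_supported] at hp
    have hdirE : DirectedOn (fun a b => a.1 ⊆ b.1) c := fun a ha b hb => by
      obtain ⟨d, hd, had, hbd⟩ := hc.directedOn a ha b hb
      exact ⟨d, hd, had.1, hbd.1⟩
    obtain ⟨x, hx, hpx⟩ : ∃ x ∈ c, ↑p.vars ⊆ x.1 := by
      have : ∀ T : Finset K, ↑T ⊆ E → ∃ x ∈ c, ↑T ⊆ x.1 := by
        classical
        intro T
        induction T using Finset.induction_on with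
        | empty => exact fun _ => ⟨hne.choose, hne.choose_spec, by simp⟩
        | insert a T _ ih =>
          intro hT
          rw [Finset.coe_insert, Set.insert_subset_iff] at hT
          obtain ⟨x, hx, hxT⟩ := ih hT.2
          obtain ⟨y, hy, hay⟩ := Set.mem_iUnion₂.1 hT.1
          obtain ⟨d, hd, hxd, hyd⟩ := hdirE x hx y hy
          exact ⟨d, hd, by rw [Finset.coe_insert, Set.insert_subset_iff]; exact ⟨hyd hay, hxT.trans hxd⟩⟩
      exact this _ hp
    exact (sup_le_sup_right (hmem x hx) _) ((hcG x hx).2.2.2 p (MvPolynomial.mem_supported.2 hpx) h0)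

theorem good_step {E : Set K} {J : Ideal (MvPolynomial K R)} (h : Good R K (E, J)) {s : K} (hs : s ∉ E)
    (hint : ∀ x : K, IsIntegral R x) : ∃ J', J ≤ J' ∧ Good R K (insert s E, J') := by
  classical
  obtain ⟨hJker, hflat, hspan, hres⟩ := h
  simp only at hJker hflat hspan hres
  let π := ev R K
  let S := MvPolynomial.supported R E
  let Fs : Subalgebra R K := S.map π
  have : Algebra.IsIntegral Fs K := ⟨fun x => (hint x).tower_top⟩
  let ρ : S →+* Fs := (π.toRingHom.comp S.val.toRingHom).codRestrict Fs fun x => ⟨x, x.2, rfl⟩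
  have hρ : Function.Surjective ρ := fun ⟨_, p, hp, rfl⟩ => ⟨⟨p, hp⟩, rfl⟩
  letI : Field Fs := (isField_of_isIntegral_of_isField (R := Fs) (S := K) Subtype.val_injective (Field.toIsField K)).toField
  have hsint : IsIntegral Fs s := (hint s).tower_top
  let g := minpoly Fs s
  obtain ⟨f, hfg, hfdeg, hfm⟩ := Polynomial.lifts_and_degree_eq_and_monic
    (f := ρ) (Polynomial.mem_lifts_of_surjective hρ g) (minpoly.monic hsint)
  -- evaluation at the new variable
  let θ : S[X] →+* MvPolynomial K R := Polynomial.eval₂RingHom S.val.toRingHom (MvPolynomial.X s)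
  have hπθ : ∀ q : S[X], π (θ q) = Polynomial.aeval s (q.map ρ) := by
    intro q
    show π.toRingHom (Polynomial.eval₂ S.val.toRingHom (MvPolynomial.X s) q) = _
    rw [Polynomial.hom_eval₂, Polynomial.aeval_def, Polynomial.eval₂_map]
    congr 1
    exact MvPolynomial.aeval_X id s
  have hθS : ∀ q, θ q ∈ MvPolynomial.supported R (insert s E) := fun q => by
    show Polynomial.eval₂ _ _ q ∈ _
    rw [Polynomial.eval₂_eq_sum]
    refine Subalgebra.sum_mem _ fun i _ => mul_mem ?_ (pow_mem ?_ _)
    · exact MvPolynomial.supported_mono (Set.subset_insert s E) (q.coeff i).2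
    · exact Algebra.subset_adjoin ⟨s, Set.mem_insert s E, rfl⟩
  refine ⟨J ⊔ Ideal.span {θ f}, le_sup_left, sup_le hJker ?_, ?_, ?_, ?_⟩
  · rw [Ideal.span_singleton_le_iff_mem, RingHom.mem_ker]
    show π (θ f) = 0
    rw [hπθ, hfg, minpoly.aeval]
  · -- flatness
    let P' := MvPolynomial {t // t ≠ s} R
    let e : MvPolynomial K R ≃ₐ[R] P'[X] :=
      (MvPolynomial.renameEquiv R (Equiv.optionSubtypeNe s).symm).trans (MvPolynomial.optionEquivLeft R _)
    have heX : e (MvPolynomial.X s) = Polynomial.X := by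
      simp [e]
      exact MvPolynomial.optionEquivLeft_X_none R _
    have heS : ∀ p ∈ S, ∃ p' : P', e p = Polynomial.C p' := by
      intro p hp
      induction hp using Algebra.adjoin_induction with
      | mem x hx =>
        obtain ⟨t, ht, rfl⟩ := hx
        have hts : t ≠ s := fun h => hs (h ▸ ht)
        exact ⟨MvPolynomial.X ⟨t, hts⟩, by simp [e, hts]; exact MvPolynomial.optionEquivLeft_X_some R _ _⟩
      | algebraMap r => exact ⟨algebraMap R P' r, by rw [AlgEquiv.commutes]; rfl⟩
      | add x y _ _ hx hy =>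
        obtain ⟨a, ha⟩ := hx; obtain ⟨b, hb⟩ := hy
        exact ⟨a + b, by rw [map_add, ha, hb, map_add]⟩
      | mul x y _ _ hx hy =>
        obtain ⟨a, ha⟩ := hx; obtain ⟨b, hb⟩ := hy
        exact ⟨a * b, by rw [map_mul, ha, hb, map_mul]⟩
    choose ψ0 hψ0 using fun p : S => heS p p.2
    let J1 := J.map e.toRingEquiv.toRingHom
    let J0 := J1.comap Polynomial.C
    have hJ : J1 = J0.map Polynomial.C := by
      refine le_antisymm ?_ Ideal.map_comap_le
      refine (Ideal.map_mono hspan).trans ?_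
      rw [Ideal.map_span, Ideal.span_le]
      rintro _ ⟨p, ⟨hpJ, hpS⟩, rfl⟩
      obtain ⟨p', hp'⟩ := heS p hpS
      show e p ∈ J0.map Polynomial.C
      rw [hp']
      refine Ideal.mem_map_of_mem _ (Ideal.mem_comap.2 ?_)
      rw [← hp']
      exact Ideal.mem_map_of_mem e.toRingEquiv.toRingHom hpJ
    have : Module.Flat R (P'[X] ⧸ J1) := Module.Flat.of_linearEquiv
      (Ideal.quotientEquivAlg J J1 e rfl).symm.toLinearEquiv
    have : Module.Flat R (P' ⧸ J0) := by
      refine Module.Flat.of_retract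
        (Ideal.quotientMapₐ J1 (IsScalarTower.toAlgHom R P' P'[X]) le_rfl).toLinearMap
        (Ideal.quotientMapₐ J0 ((Polynomial.aeval (0 : P')).restrictScalars R) ?_).toLinearMap ?_
      · rw [hJ, Ideal.map_le_iff_le_comap]
        intro a ha
        show Polynomial.aeval (0 : P') (Polynomial.C a) ∈ J0
        simpa using ha
      · refine LinearMap.ext fun x => ?_
        obtain ⟨a, rfl⟩ := Ideal.Quotient.mk_surjective x
        show Ideal.Quotient.mk J0 (Polynomial.aeval (0 : P') (algebraMap P' P'[X] a)) = Ideal.Quotient.mk J0 a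
        simp
    have hef : (e (θ f)).Monic := by
      have key : ∀ q : S[X], e (θ q) = ∑ i ∈ q.support, Polynomial.C (ψ0 (q.coeff i)) * Polynomial.X ^ i := by
        intro q
        show e (Polynomial.eval₂ _ _ q) = _
        rw [Polynomial.eval₂_eq_sum, Polynomial.sum_def, map_sum]
        refine Finset.sum_congr rfl fun i _ => ?_
        rw [map_mul, map_pow, heX, ← hψ0]
        rfl
      let ψ : S →+* P' :=
        { toFun := ψ0
          map_one' := Polynomial.C_injective (by rw [← hψ0, OneMemClass.coe_one, map_one, map_one])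
          map_zero' := Polynomial.C_injective (by rw [← hψ0, ZeroMemClass.coe_zero, map_zero, map_zero])
          map_add' := fun a b => Polynomial.C_injective (by
            rw [← hψ0, map_add, ← hψ0, ← hψ0, ← map_add]; rfl)
          map_mul' := fun a b => Polynomial.C_injective (by
            rw [← hψ0, map_mul, ← hψ0, ← hψ0, ← map_mul]; rfl) }
      have : e (θ f) = f.map ψ := by
        rw [key, Polynomial.map, Polynomial.eval₂_eq_sum, Polynomial.sum_def]
        rfl
      rw [this]
      exact hfm.map ψ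
    have := flat_step J0 hef (R := R)
    refine Module.Flat.of_linearEquiv (Ideal.quotientEquivAlg _ (J0.map Polynomial.C ⊔ Ideal.span {e (θ f)}) e ?_).toLinearEquiv
    rw [Ideal.map_sup, Ideal.map_span, Set.image_singleton, ← hJ]
    rfl
  · refine sup_le (hspan.trans (Ideal.span_mono fun p hp =>
      ⟨le_sup_left (a := J) hp.1, MvPolynomial.supported_mono (Set.subset_insert s E) hp.2⟩)) ?_
    exact Ideal.span_mono (Set.singleton_subset_iff.2
      ⟨le_sup_right (a := J) (Ideal.subset_span rfl), hθS f⟩)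
  · intro p hp h0
    obtain ⟨q, rfl⟩ : ∃ q, θ q = p := by
      clear h0
      induction hp using Algebra.adjoin_induction with
      | mem x hx =>
        obtain ⟨t, ht, rfl⟩ := hx
        rcases ht with rfl | ht
        · exact ⟨Polynomial.X, Polynomial.eval₂_X _ _⟩
        · exact ⟨Polynomial.C ⟨MvPolynomial.X t, Algebra.subset_adjoin ⟨t, ht, rfl⟩⟩, Polynomial.eval₂_C _ _⟩
      | algebraMap r => exact ⟨Polynomial.C (algebraMap R S r), Polynomial.eval₂_C _ _⟩
      | add x y _ _ hx hy =>
        obtain ⟨a, rfl⟩ := hx; obtain ⟨b, rfl⟩ := hy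
        exact ⟨a + b, map_add θ a b⟩
      | mul x y _ _ hx hy =>
        obtain ⟨a, rfl⟩ := hx; obtain ⟨b, rfl⟩ := hy
        exact ⟨a * b, map_mul θ a b⟩
    rw [hπθ] at h0
    have hr0 : (q %ₘ f).map ρ = 0 := by
      refine Polynomial.eq_zero_of_dvd_of_degree_lt (minpoly.dvd Fs s ?_) ?_
      · rw [Polynomial.map_modByMonic _ hfm, hfg]
        have := congrArg (Polynomial.aeval s) (Polynomial.modByMonic_add_div (q.map ρ) g)
        rw [map_add, map_mul, minpoly.aeval, zero_mul, add_zero, h0] at this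
        exact this
      · refine (Polynomial.degree_map_le).trans_lt ?_
        calc (q %ₘ f).degree < f.degree := Polynomial.degree_modByMonic_lt q hfm
          _ = g.degree := hfdeg
    conv => arg 2; rw [← Polynomial.modByMonic_add_div q f, map_add, map_mul]
    refine add_mem ?_ (Ideal.mul_mem_right _ _ (le_sup_left (a := J ⊔ _) (le_sup_right (a := J) (Ideal.subset_span rfl))))
    show Polynomial.eval₂ _ _ _ ∈ _
    rw [Polynomial.eval₂_eq_sum]
    refine Submodule.sum_mem _ fun i _ => Ideal.mul_mem_right _ _ ?_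
    refine SetLike.le_def.1 (sup_le_sup_right le_sup_left _) (hres _ ((q %ₘ f).coeff i).2 ?_)
    have := congrArg (fun t : Fs[X] => ((t.coeff i : Fs) : K)) hr0
    simp only [Polynomial.coeff_map, Polynomial.coeff_zero] at this
    exact this

/-- the algebraic case, before localization -/
theorem exists_flat_algebra [IsLocalHom (algebraMap R K)] (hint : ∀ x : K, IsIntegral R x) :
    ∃ (Q : Type u) (_ : CommRing Q) (_ : Algebra R Q) (φ : Q →ₐ[R] K), Module.Flat R Q ∧
      Function.Surjective φ ∧ RingHom.ker φ = (maximalIdeal R).map (algebraMap R Q) := by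
  obtain ⟨⟨E, J⟩, -, hmax⟩ := zorn_le_nonempty₀ {x | Good R K x}
    (fun c hc hchain y hy => good_chain c hc hchain ⟨y, hy⟩) (∅, ⊥) good_empty
  have hG : Good R K (E, J) := hmax.1
  have hE : E = Set.univ := by
    by_contra hE
    obtain ⟨s, hs⟩ := (Set.ne_univ_iff_exists_notMem E).1 hE
    obtain ⟨J', hJ', hG'⟩ := good_step hG hs hint
    exact hs ((hmax.2 hG' ⟨Set.subset_insert s E, hJ'⟩).1 (Set.mem_insert s E))
  obtain ⟨hJker, hflat, -, hres⟩ := hG
  simp only at hJker hflat hres
  let φ : (MvPolynomial K R ⧸ J) →ₐ[R] K := Ideal.Quotient.liftₐ J (ev R K) fun a ha => hJker ha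
  have hφ : ∀ p, φ (Ideal.Quotient.mk J p) = ev R K p := fun p => rfl
  refine ⟨MvPolynomial K R ⧸ J, inferInstance, inferInstance, φ, hflat,
    fun x => ⟨Ideal.Quotient.mk J (MvPolynomial.X x), by rw [hφ]; exact MvPolynomial.aeval_X id x⟩, ?_⟩
  refine le_antisymm (fun z hz => ?_) (Ideal.map_le_iff_le_comap.2 fun r hr => ?_)
  · obtain ⟨p, rfl⟩ := Ideal.Quotient.mk_surjective z
    have := hres p (by rw [hE, MvPolynomial.supported_univ]; trivial) hz
    have h2 := Ideal.mem_map_of_mem (Ideal.Quotient.mk J) this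
    rw [Ideal.map_sup, Ideal.map_quotient_self, bot_sup_eq, Ideal.map_map] at h2
    exact h2
  · show φ (algebraMap R _ r) = 0
    rw [AlgHom.commutes]
    by_contra h
    exact hr (isUnit_of_map_unit (algebraMap R K) r (Ne.isUnit h))

end

/-- gonflement -/
theorem exists_extension {R K : Type u} [CommRing R] [IsLocalRing R] [Field K] [Algebra (ResidueField R) K] :
    ∃ (R' : Type u) (_ : CommRing R') (_ : IsLocalRing R') (_ : Algebra R R') (_ : IsLocalHom (algebraMap R R')),
      Module.Flat R R' ∧ (maximalIdeal R).map (algebraMap R R') = maximalIdeal R' ∧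
      Nonempty (ResidueField R' ≃ₐ[ResidueField R] K) := by
  classical
  let k := ResidueField R
  obtain ⟨Γ, hΓ⟩ := exists_isTranscendenceBasis k K
  let π0 : MvPolynomial Γ R →+* K :=
    MvPolynomial.eval₂Hom ((algebraMap k K).comp (residue R)) (Subtype.val : Γ → K)
  have hπ0C : ∀ r, π0 (MvPolynomial.C r) = algebraMap k K (residue R r) := fun r => MvPolynomial.eval₂_C _ _ _
  have hπ0 : π0 = (MvPolynomial.aeval (R := k) (Subtype.val : Γ → K)).toRingHom.comp (MvPolynomial.map (residue R)) := by
    refine MvPolynomial.ringHom_ext (fun r => ?_) fun i => ?_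
    · rw [hπ0C, RingHom.comp_apply, MvPolynomial.map_C]
      exact (MvPolynomial.aeval_C _ _).symm
    · simp [π0]
  have hker : RingHom.ker π0 = (maximalIdeal R).map MvPolynomial.C := by
    rw [hπ0, RingHom.ker_comp_of_injective _ hΓ.1, MvPolynomial.ker_map, IsLocalRing.ker_residue]
  let p := RingHom.ker π0
  have : p.IsPrime := RingHom.ker_isPrime π0
  let R1 := Localization.AtPrime p
  have hu : ∀ x : p.primeCompl, IsUnit (π0 x) := fun x => Ne.isUnit x.2
  letI : Algebra R1 K := (IsLocalization.lift hu : R1 →+* K).toAlgebra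
  have hlift : ∀ x, algebraMap R1 K (algebraMap _ R1 x) = π0 x := fun x => IsLocalization.lift_eq hu x
  have hm1 : (maximalIdeal R).map (algebraMap R R1) = maximalIdeal R1 := by
    rw [IsScalarTower.algebraMap_eq R (MvPolynomial Γ R) R1, ← Ideal.map_map, MvPolynomial.algebraMap_eq, ← hker,
      Localization.AtPrime.map_eq_maximalIdeal]
  have hloc : IsLocalHom (algebraMap R1 K) := by
    refine ((local_hom_TFAE (algebraMap R1 K)).out 0 2).mpr ?_
    rw [← Localization.AtPrime.map_eq_maximalIdeal, Ideal.map_map,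
      show (algebraMap R1 K).comp (algebraMap (MvPolynomial Γ R) R1) = π0 from RingHom.ext hlift]
    exact (Ideal.map_eq_bot_iff_le_ker π0).2 le_rfl |>.trans_le bot_le
  letI : Algebra (ResidueField R1) K := (ResidueField.lift (algebraMap R1 K)).toAlgebra
  have : IsScalarTower R1 (ResidueField R1) K := .of_algebraMap_eq fun x => rfl
  have hint : ∀ x : K, IsIntegral R1 x := fun x => by
    have : Algebra.IsIntegral R1 (ResidueField R1) := ⟨fun z => by
      obtain ⟨z, rfl⟩ := residue_surjective z
      exact isIntegral_algebraMap⟩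
    refine isIntegral_trans (A := ResidueField R1) x ?_
    refine (isAlgebraic_iff_isIntegral).1 ?_
    let A := Algebra.adjoin k (Set.range (Subtype.val : Γ → K))
    let ι : ResidueField R1 →+* K := algebraMap (ResidueField R1) K
    have hA : ∀ a : A, ∃ z, ι z = a := by
      intro a
      obtain ⟨a, ha⟩ := a
      induction ha using Algebra.adjoin_induction with
      | mem y hy =>
        obtain ⟨i, rfl⟩ := hy
        exact ⟨residue R1 (algebraMap _ R1 (MvPolynomial.X i)), (hlift _).trans (MvPolynomial.eval₂_X _ _ _)⟩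
      | algebraMap c =>
        obtain ⟨r, rfl⟩ := residue_surjective c
        exact ⟨residue R1 (algebraMap _ R1 (MvPolynomial.C r)), (hlift _).trans (hπ0C r)⟩
      | add y z _ _ hy hz =>
        obtain ⟨u, hu'⟩ := hy; obtain ⟨v, hv⟩ := hz
        exact ⟨u + v, by rw [map_add, hu', hv]⟩
      | mul y z _ _ hy hz =>
        obtain ⟨u, hu'⟩ := hy; obtain ⟨v, hv⟩ := hz
        exact ⟨u * v, by rw [map_mul, hu', hv]⟩
    choose j0 hj0 using hA
    let j : A →+* ResidueField R1 :=
      { toFun := j0
        map_one' := ι.injective (by rw [hj0, map_one]; rfl)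
        map_zero' := ι.injective (by rw [hj0, map_zero]; rfl)
        map_add' := fun a b => ι.injective (by rw [hj0, map_add, hj0, hj0]; rfl)
        map_mul' := fun a b => ι.injective (by rw [hj0, map_mul, hj0, hj0]; rfl) }
    have := hΓ.isAlgebraic
    obtain ⟨g, hg0, hgx⟩ := Algebra.IsAlgebraic.isAlgebraic (R := A) x
    have hcomp : ι.comp j = algebraMap A K := RingHom.ext hj0
    refine ⟨g.map j, (Polynomial.map_ne_zero_iff fun a b h => Subtype.ext ?_).2 hg0, ?_⟩
    · rw [← hj0 a, ← hj0 b]; exact congrArg ι h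
    · rw [Polynomial.aeval_def, Polynomial.eval₂_map, hcomp]
      exact hgx
  obtain ⟨Q, _, _, φ, hflat, hφs, hφk⟩ := exists_flat_algebra hint
  let M := RingHom.ker φ
  have : M.IsMaximal := RingHom.ker_isMaximal_of_surjective φ hφs
  let B := Localization.AtPrime M
  letI : Algebra R Q := ((algebraMap R1 Q).comp (algebraMap R R1)).toAlgebra
  have : IsScalarTower R R1 Q := .of_algebraMap_eq fun _ => rfl
  have : IsScalarTower R Q B := inferInstance
  have : Module.Flat R R1 := Module.Flat.trans R (MvPolynomial Γ R) R1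
  have : Module.Flat R Q := Module.Flat.trans R R1 Q
  have : Module.Flat R B := Module.Flat.trans R Q B
  have hmB : (maximalIdeal R).map (algebraMap R B) = maximalIdeal B := by
    rw [IsScalarTower.algebraMap_eq R Q B, IsScalarTower.algebraMap_eq R R1 Q, ← Ideal.map_map, ← Ideal.map_map,
      hm1, ← hφk, Localization.AtPrime.map_eq_maximalIdeal]
  have : IsLocalHom (algebraMap R B) := ((local_hom_TFAE (algebraMap R B)).out 0 2).mpr hmB.le
  refine ⟨B, inferInstance, inferInstance, inferInstance, inferInstance, inferInstance, hmB, ?_⟩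
  have huB : ∀ x : M.primeCompl, IsUnit (φ.toRingHom x) := fun x => Ne.isUnit x.2
  let Φ : B →+* K := IsLocalization.lift huB
  have hΦ : ∀ q, Φ (algebraMap Q B q) = φ q := fun q => IsLocalization.lift_eq huB q
  have hΦl : IsLocalHom Φ := by
    refine ((local_hom_TFAE Φ).out 0 2).mpr ?_
    rw [← Localization.AtPrime.map_eq_maximalIdeal, Ideal.map_map, IsLocalization.lift_comp]
    exact (Ideal.map_eq_bot_iff_le_ker _).2 le_rfl |>.trans_le bot_le
  refine ⟨AlgEquiv.ofRingEquiv (f := RingEquiv.ofBijective (ResidueField.lift Φ) ⟨RingHom.injective _, fun x => ?_⟩) ?_⟩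
  · obtain ⟨q, rfl⟩ := hφs x
    exact ⟨residue B (algebraMap Q B q), hΦ q⟩
  · intro c
    obtain ⟨r, rfl⟩ := residue_surjective c
    show Φ (algebraMap R B r) = algebraMap k K (residue R r)
    rw [IsScalarTower.algebraMap_apply R Q B, hΦ, IsScalarTower.algebraMap_apply R R1 Q, φ.commutes,
      IsScalarTower.algebraMap_apply R (MvPolynomial Γ R) R1, hlift]
    exact hπ0C r

end Groth.Agent.CAlg1.Gonfl
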