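import Groth.Prelude
import Groth.Agent.S0497
import Groth.Agent.S6361
import Groth.Agent.S6338

/-!
# Countably generated Mittag-Leffler modules over henselian local rings

Such a module is a direct sum of finitely presented modules.
-/

set_option autoImplicit false
universe u

open Polynomial IsLocalRing

namespace Groth.Agent.CAlg1.HenselFP

variable {R : Type u} [CommRing R]

theorem finitePresentation_of_retract {Q N : Type u} [AddCommGroup Q] [Module R Q] [AddCommGroup N]
    [Module R N] [Module.FinitePresentation R Q] (r : Q →ₗ[R] N) (s : N →ₗ[R] Q)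
    (h : r ∘ₗ s = LinearMap.id) : Module.FinitePresentation R N := by
  have hr : Function.Surjective r := fun n => ⟨s n, LinearMap.congr_fun h n⟩
  refine Module.finitePresentation_of_surjective r hr ?_
  have hk : LinearMap.ker r = LinearMap.range (LinearMap.id - s ∘ₗ r : Q →ₗ[R] Q) := by
    refine le_antisymm ?_ ?_
    · intro q hq
      rw [LinearMap.mem_ker] at hq
      exact ⟨q, by simp [hq]⟩
    · rintro _ ⟨q, rfl⟩
      have : r (s (r q)) = r q := LinearMap.congr_fun h (r q)
      simp [LinearMap.mem_ker, this]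
  rw [hk, ← Module.Finite.iff_fg]
  exact Module.Finite.range _

theorem universallyInjective_of_leftInverse {M N : Type u} [AddCommGroup M] [Module R M] [AddCommGroup N]
    [Module R N] (f : M →ₗ[R] N) (g : N →ₗ[R] M) (h : g ∘ₗ f = LinearMap.id) :
    CAlgX.UniversallyInjective R f := by
  intro P _ _
  refine Function.LeftInverse.injective (g := LinearMap.rTensor P g) fun x => ?_
  rw [← LinearMap.comp_apply, ← LinearMap.rTensor_comp, h, LinearMap.rTensor_id, LinearMap.id_apply]

/-- Lifting of a coprime factorisation of the reduction, with a Bézout identity upstairs. -/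
theorem exists_factor [HenselianLocalRing R] (P : R[X]) (hP : P.Monic) :
    ∃ P₀ P₁ : R[X], P = P₀ * P₁ ∧ IsUnit (P₀.eval 1) ∧ IsUnit (P₁.coeff 0) ∧ IsCoprime P₀ P₁ := by
  have hP0 : P.map (residue R) ≠ 0 := (hP.map (residue R)).ne_zero
  obtain ⟨g, hg, hXg⟩ := exists_eq_pow_rootMultiplicity_mul_and_not_dvd (P.map (residue R)) hP0 0
  set a := (P.map (residue R)).rootMultiplicity 0
  rw [map_zero, sub_zero] at hg hXg
  have hg0 : g.coeff 0 ≠ 0 := fun h => hXg (X_dvd_iff.2 h)
  have hcop : IsCoprime ((X : (ResidueField R)[X]) ^ a) g := by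
    refine IsCoprime.pow_left ?_
    exact (Irreducible.coprime_iff_not_dvd irreducible_X).2 hXg
  obtain ⟨P₀, P₁, hPP, hmon, hm0, hm1⟩ :=
    Groth.Agent.S0497.result R P _ g (monic_X_pow a) hcop hg
  refine ⟨P₀, P₁, hPP, ?_, ?_, ?_⟩
  · rw [← residue_ne_zero_iff_isUnit]
    rw [← eval_map_apply, map_one, hm0, eval_pow, eval_X, one_pow]
    exact one_ne_zero
  · rw [← residue_ne_zero_iff_isUnit, ← coeff_map, hm1]
    exact hg0
  · obtain ⟨α, β, hαβ⟩ := hcop
    obtain ⟨α', rfl⟩ := map_surjective (residue R) residue_surjective α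
    obtain ⟨β', rfl⟩ := map_surjective (residue R) residue_surjective β
    haveI : Module.Finite R (AdjoinRoot P₀) := hmon.finite_adjoinRoot
    let J : Submodule R (AdjoinRoot P₀) :=
      (Ideal.span {AdjoinRoot.mk P₀ P₁}).restrictScalars R
    have hle : (⊤ : Submodule R (AdjoinRoot P₀)) ≤ J ⊔ maximalIdeal R • ⊤ := by
      intro y _
      obtain ⟨y, rfl⟩ := AdjoinRoot.mk_surjective y
      have hred : (y - y * (α' * P₀ + β' * P₁)).map (residue R) = 0 := by
        rw [Polynomial.map_sub, Polynomial.map_mul, Polynomial.map_add, Polynomial.map_mul, Polynomial.map_mul, hm0, hm1, hαβ,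
          mul_one, sub_self]
      have hm : AdjoinRoot.mk P₀ (y - y * (α' * P₀ + β' * P₁)) ∈
          maximalIdeal R • (⊤ : Submodule R (AdjoinRoot P₀)) := by
        rw [← sum_monomial_eq (y - y * (α' * P₀ + β' * P₁)), Polynomial.sum_def, map_sum]
        refine Submodule.sum_mem _ fun i _ => ?_
        rw [← C_mul_X_pow_eq_monomial, map_mul, AdjoinRoot.mk_C, ← AdjoinRoot.algebraMap_eq,
          ← Algebra.smul_def]
        refine Submodule.smul_mem_smul ?_ Submodule.mem_top
        rw [← residue_eq_zero_iff, ← coeff_map, hred, coeff_zero]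
      have hj : AdjoinRoot.mk P₀ (y * (α' * P₀ + β' * P₁)) ∈ J := by
        rw [mul_add, map_add, map_mul, map_mul, map_mul, AdjoinRoot.mk_self, mul_zero, mul_zero, zero_add,
          map_mul]
        exact Ideal.mul_mem_left _ _ (Ideal.mul_mem_left _ _ (Ideal.subset_span rfl))
      rw [show AdjoinRoot.mk P₀ y = AdjoinRoot.mk P₀ (y * (α' * P₀ + β' * P₁)) +
        AdjoinRoot.mk P₀ (y - y * (α' * P₀ + β' * P₁)) by rw [← map_add, add_sub_cancel]]
      exact Submodule.add_mem_sup hj hm
    have h1 := Submodule.le_of_le_smul_of_le_jacobson_bot Module.Finite.fg_top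
      (IsLocalRing.jacobson_eq_maximalIdeal ⊥ bot_ne_top).ge hle (Submodule.mem_top (x := 1))
    obtain ⟨t, ht⟩ := Ideal.mem_span_singleton'.1 h1
    obtain ⟨t, rfl⟩ := AdjoinRoot.mk_surjective t
    rw [← map_mul, ← map_one (AdjoinRoot.mk P₀), AdjoinRoot.mk_eq_mk] at ht
    obtain ⟨u, hu⟩ := ht
    exact ⟨-u, t, by linear_combination hu⟩

/-- An endomorphism of a finite module over a henselian local ring has a "non-nilpotent part". -/
theorem exists_split [HenselianLocalRing R] {Q : Type u} [AddCommGroup Q] [Module R Q] [Module.Finite R Q]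
    (ψ : Module.End R Q) :
    ∃ E ψ' : Module.End R Q, E * E = E ∧ Commute E ψ ∧ Commute E ψ' ∧ Commute ψ ψ' ∧
      ψ * ψ' * E = E ∧ ∀ z, ψ z = z → E z = z := by
  obtain ⟨P, hP, hPψ⟩ := Algebra.IsIntegral.isIntegral (R := R) ψ
  obtain ⟨P₀, P₁, rfl, hu0, hu1, u, v, huv⟩ := exists_factor P hP
  rw [← aeval_def] at hPψ
  obtain ⟨c, hc⟩ := hu1
  let w := P₁.divX
  have hw : P₁ = C (c : R) + X * w := by
    rw [hc, add_comm]; exact (X_mul_divX_add P₁).symm
  have hzero : (u * P₀) * P₁ = u * (P₀ * P₁) := mul_assoc _ _ _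
  refine ⟨aeval ψ (u * P₀), aeval ψ (-(C (↑c⁻¹ : R)) * w), ?_, ?_, ?_, ?_, ?_, ?_⟩
  · rw [← map_mul]
    have : (u * P₀) * (u * P₀) = u * P₀ - (v * u) * (P₀ * P₁) := by linear_combination (u * P₀) * huv
    rw [this, map_sub, map_mul _ (v * u), hPψ, mul_zero, sub_zero]
  · have := (Commute.all (u * P₀) X).map (aeval ψ)
    rwa [aeval_X] at this
  · exact (Commute.all _ _).map _
  · have := (Commute.all X (-(C (↑c⁻¹ : R)) * w)).map (aeval ψ)
    rwa [aeval_X] at this
  · conv_lhs => enter [1, 1]; rw [← aeval_X (R := R) ψ]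
    rw [← map_mul, ← map_mul]
    have hcc : C (↑c⁻¹ : R) * C (c : R) = 1 := by rw [← C_mul, Units.inv_mul, C_1]
    have : X * (-(C (↑c⁻¹ : R)) * w) * (u * P₀) = u * P₀ - (C (↑c⁻¹ : R) * u) * (P₀ * P₁) := by
      rw [hw]; linear_combination (u * P₀) * hcc
    rw [this, map_sub, map_mul _ (C (↑c⁻¹ : R) * u), hPψ, mul_zero, sub_zero]
  · intro z hz
    have hev : ∀ p : R[X], aeval ψ p z = p.eval 1 • z := by
      intro p
      induction p using Polynomial.induction_on' with
      | add p q hp hq => rw [map_add, LinearMap.add_apply, hp, hq, eval_add, add_smul]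
      | monomial i r =>
        rw [aeval_monomial, eval_monomial, one_pow, mul_one, Module.End.mul_apply,
          Module.algebraMap_end_apply]
        congr 1
        induction i with
        | zero => rfl
        | succ i ih => rw [pow_succ, Module.End.mul_apply, hz, ih]
    rw [hev]
    have h0 : (P₀ * P₁).eval 1 • z = 0 := by rw [← hev, hPψ]; rfl
    obtain ⟨d, hd⟩ := hu0
    rw [eval_mul, ← hd, mul_smul] at h0
    have h1 : P₁.eval 1 • z = 0 := by
      have := congrArg ((↑d⁻¹ : R) • ·) h0
      simpa [smul_smul] using this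
    have h2 := congrArg (Polynomial.eval (1 : R)) huv
    rw [eval_add, eval_one, eval_mul (p := v), eq_comm, ← sub_eq_iff_eq_add] at h2
    rw [← h2, sub_smul, one_smul, mul_smul, h1, smul_zero, sub_zero]

/-- Every element lies in a finitely presented direct summand. -/
theorem exists_fp_idem [HenselianLocalRing R] (M : Type u) [AddCommGroup M] [Module R M]
    (hc : CAlg.IsCountablyGenerated R M) (hML : CAlg.IsMittagLeffler R M) (x : M) :
    ∃ e : Module.End R M, e * e = e ∧ e x = x ∧ Module.FinitePresentation R (LinearMap.range e) := by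
  obtain ⟨Q, _, _, _, b, c, hbc⟩ := Groth.Agent.S6361.result R M hML hc (LinearMap.toSpanSingleton R M x)
  have hx : c (b x) = x := by simpa using LinearMap.congr_fun hbc 1
  obtain ⟨E, ψ', hE, hEψ, hEψ', hψψ', hinv, hfix⟩ := exists_split (b ∘ₗ c : Module.End R Q)
  have hzE : E (b x) = b x := hfix _ (congrArg b hx)
  have key : ∀ q, E (b (c (ψ' (E q)))) = E q := fun q => by
    have h2 : b (c (ψ' (E q))) = E q := LinearMap.congr_fun hinv q
    rw [h2]
    exact LinearMap.congr_fun hE q
  let e : Module.End R M := c ∘ₗ ψ' ∘ₗ E ∘ₗ b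
  have hee : ∀ m, e (e m) = e m := fun m => congrArg (fun q => c (ψ' q)) (key (b m))
  refine ⟨e, LinearMap.ext hee, ?_, ?_⟩
  · show c (ψ' (E (b x))) = x
    have h3 : ψ' (b (c (b x))) = b x := by
      have h4 := LinearMap.congr_fun hψψ' (b x)
      have h5 : b (c (ψ' (E (b x)))) = E (b x) := LinearMap.congr_fun hinv (b x)
      simp only [Module.End.mul_apply, LinearMap.comp_apply] at h4
      rw [hzE] at h5
      exact h4.symm.trans h5
    rw [hx] at h3
    rw [hzE, h3, hx]
  · refine finitePresentation_of_retract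
      ((c ∘ₗ ψ' ∘ₗ E).codRestrict (LinearMap.range e) fun q => ⟨c (ψ' (E q)), ?_⟩)
      (E ∘ₗ b ∘ₗ (LinearMap.range e).subtype) (LinearMap.ext fun y => Subtype.ext ?_)
    · show c (ψ' (E (b (c (ψ' (E q)))))) = c (ψ' (E q))
      rw [key]
    · obtain ⟨m, hm⟩ := y.2
      show c (ψ' (E (E (b (y : M))))) = y
      rw [show E (E (b (y : M))) = E (b (y : M)) from LinearMap.congr_fun hE _, ← hm]
      exact hee m

section iterate

variable {M : Type u} [AddCommGroup M] [Module R M]

/-- One step: enlarge an idempotent with finitely presented image to fix a further element. -/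
theorem exists_step [HenselianLocalRing R] (hc : CAlg.IsCountablyGenerated R M)
    (hML : CAlg.IsMittagLeffler R M) (F : Module.End R M) (hF : F * F = F) (x : M) :
    ∃ d : Module.End R M, d * d = d ∧ d * F = 0 ∧ F * d = 0 ∧ (F + d) x = x ∧
      Module.FinitePresentation R (LinearMap.range d) := by
  let M' := LinearMap.ker F
  let π : M →ₗ[R] M' := (LinearMap.id - F).codRestrict M' fun m => by
    have : F (F m) = F m := LinearMap.congr_fun hF m
    simp [M', LinearMap.mem_ker, this]
  have hπ : π ∘ₗ M'.subtype = LinearMap.id := LinearMap.ext fun y => Subtype.ext (by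
    show (y : M) - F y = y
    rw [show F (y : M) = 0 from y.2, sub_zero])
  have hc' : CAlg.IsCountablyGenerated R M' := by
    obtain ⟨s, hs, hspan⟩ := hc
    refine ⟨π '' s, hs.image _, ?_⟩
    rw [Submodule.span_image, hspan, Submodule.map_top, LinearMap.range_eq_top]
    exact fun y => ⟨y, LinearMap.congr_fun hπ y⟩
  have hML' := Groth.Agent.S6338.result R M'.subtype (universallyInjective_of_leftInverse _ π hπ) hML
  obtain ⟨e, hee, hex, hfp⟩ := exists_fp_idem M' hc' hML' (π x)
  let d : Module.End R M := M'.subtype ∘ₗ e ∘ₗ π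
  refine ⟨d, LinearMap.ext fun m => ?_, LinearMap.ext fun m => ?_, LinearMap.ext fun m => ?_, ?_, ?_⟩
  · show ((e (π (e (π m) : M))) : M) = e (π m)
    rw [show π (e (π m) : M) = e (π m) from LinearMap.congr_fun hπ _]
    exact congrArg Subtype.val (LinearMap.congr_fun hee (π m))
  · show ((e (π (F m))) : M) = 0
    have : π (F m) = 0 := Subtype.ext (by
      show F m - F (F m) = 0
      rw [show F (F m) = F m from LinearMap.congr_fun hF m, sub_self])
    rw [this, map_zero]; rfl
  · exact (e (π m)).2
  · show F x + (e (π x) : M) = x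
    rw [hex]
    show F x + (x - F x) = x
    abel
  · have hrange : LinearMap.range d = Submodule.map M'.subtype (LinearMap.range e) := by
      show LinearMap.range (M'.subtype ∘ₗ (e ∘ₗ π)) = _
      have hs : LinearMap.range π = ⊤ :=
        LinearMap.range_eq_top.2 fun y => ⟨y, LinearMap.congr_fun hπ y⟩
      rw [LinearMap.range_comp, LinearMap.range_comp_of_range_eq_top e hs]
    exact Module.FinitePresentation.of_equiv
      ((Submodule.equivMapOfInjective _ M'.injective_subtype _).trans (LinearEquiv.ofEq _ _ hrange.symm))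

open scoped Classical in
theorem exists_decomposition [HenselianLocalRing R] (hc : CAlg.IsCountablyGenerated R M)
    (hML : CAlg.IsMittagLeffler R M) :
    ∃ (ι : Type u) (N : ι → Submodule R M), DirectSum.IsInternal N ∧
      ∀ i, Module.FinitePresentation R (N i) := by
  classical
  obtain ⟨s, hs, hspan⟩ := hc
  obtain ⟨g, hg⟩ := (Set.Countable.insert (0 : M) hs).exists_eq_range (Set.insert_nonempty _ _)
  have hgspan : Submodule.span R (Set.range g) = ⊤ := by
    rw [← hg, Submodule.span_insert_zero, hspan]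
  choose! d hdd hdF hFd hfix hfp using exists_step (R := R) (M := M) ⟨s, hs, hspan⟩ hML
  let F : ℕ → Module.End R M := fun k => Nat.rec 0 (fun k G => G + d G (g k)) k
  have hidem : ∀ k, F k * F k = F k := by
    intro k
    induction k with
    | zero => exact mul_zero _
    | succ k ih =>
      show (F k + d (F k) (g k)) * (F k + d (F k) (g k)) = _
      rw [mul_add, add_mul, add_mul, ih, hdF _ ih, hFd _ ih, hdd _ ih, add_zero, zero_add]
  let D : ℕ → Module.End R M := fun k => d (F k) (g k)
  have hFs : ∀ k, F (k + 1) = F k + D k := fun k => rfl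
  have hmono : ∀ j k, j ≤ k → F k * F j = F j ∧ F j * F k = F j := by
    intro j k h
    induction k, h using Nat.le_induction with
    | base => exact ⟨hidem j, hidem j⟩
    | succ k _ ih =>
      have h1 : D k * F j = 0 := by
        rw [← ih.1, ← mul_assoc, show D k * F k = 0 from hdF _ (hidem k) _, zero_mul]
      have h2 : F j * D k = 0 := by
        rw [← ih.2, mul_assoc, show F k * D k = 0 from hFd _ (hidem k) _, mul_zero]
      rw [hFs, add_mul, mul_add, h1, h2, add_zero, add_zero]
      exact ih
  have hD : ∀ k, D k = F (k + 1) - F k := fun k => by rw [hFs]; abel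
  have horth : ∀ j k, j ≠ k → D j * D k = 0 := by
    intro j k h
    rw [hD j, hD k, sub_mul, mul_sub, mul_sub]
    rcases Nat.lt_or_gt_of_ne h with h | h
    · rw [(hmono (j + 1) (k + 1) (by omega)).2, (hmono (j + 1) k (by omega)).2,
        (hmono j (k + 1) (by omega)).2, (hmono j k (by omega)).2]
      abel
    · rw [(hmono (k + 1) (j + 1) (by omega)).1, (hmono k (j + 1) (by omega)).1,
        (hmono (k + 1) j (by omega)).1, (hmono k j (by omega)).1]
      abel
  refine ⟨ULift.{u} ℕ, fun i => LinearMap.range (D i.down), ?_, fun i => hfp _ (hidem _) _⟩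
  letI : DecidableEq (ULift.{u} ℕ) := fun a b => Classical.propDecidable (a = b)
  refine DirectSum.isInternal_submodule_of_iSupIndep_of_iSup_eq_top ?_ (top_le_iff.1 ?_)
  · rw [iSupIndep_def]
    intro i
    rw [Submodule.disjoint_def]
    rintro _ ⟨m, rfl⟩ hm
    have hle : (⨆ j, ⨆ (_ : j ≠ i), LinearMap.range (D j.down)) ≤ LinearMap.ker (D i.down) := by
      refine iSup₂_le fun j hj => ?_
      rintro _ ⟨y, rfl⟩
      exact LinearMap.congr_fun (horth i.down j.down fun h => hj (ULift.ext _ _ h.symm)) y
    have := hle hm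
    rwa [LinearMap.mem_ker, show D i.down (D i.down m) = D i.down m from
      LinearMap.congr_fun (hdd _ (hidem _) _) m] at this
  · rw [← hgspan, Submodule.span_le]
    rintro _ ⟨k, rfl⟩
    have h1 : F (k + 1) (g k) = g k := hfix _ (hidem k) (g k)
    rw [SetLike.mem_coe, ← h1]
    suffices ∀ j m, F j m ∈ ⨆ i : ULift.{u} ℕ, LinearMap.range (D i.down) from this (k + 1) (g k)
    intro j
    induction j with
    | zero => intro m; exact zero_mem _
    | succ j ih =>
      intro m
      rw [hFs, LinearMap.add_apply]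
      exact add_mem (ih m) (Submodule.mem_iSup_of_mem ⟨j⟩ ⟨m, rfl⟩)

end iterate

end Groth.Agent.CAlg1.HenselFP
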