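import Groth.Agent.Ind91.Etale
import Groth.Agent.WE24.Field
import Groth.Agent.CAlg1.SkFlat
import Mathlib

/-! Fibres of Noetherian ind-étale algebras. -/

set_option autoImplicit false
set_option linter.style.haveILetI false
universe u

open TensorProduct

namespace Groth.Agent.CAlg1.IndEt

theorem fibres {A B : Type u} [CommRing A] [CommRing B] [Algebra A B] (hB : EtPBC.IsIndEtale A B)
    [IsNoetherianRing B] (p : Ideal A) [p.IsPrime] :
    {q : PrimeSpectrum B | q.asIdeal.LiesOver p}.Finite ∧ IsReduced (p.Fiber B) ∧ ringKrullDim (p.Fiber B) ≤ 0 ∧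
      ∀ (q : Ideal B) [q.IsPrime] [q.LiesOver p],
        @Algebra.IsSeparable p.ResidueField q.ResidueField _ _
          (Ideal.ResidueField.mapₐ p q (Algebra.ofId A B) (q.over_def p)).toRingHom.toAlgebra := by
  classical
  let κ := p.ResidueField
  let F := p.Fiber B
  have hw : Algebra.WeaklyEtale κ F :=
    Ind91.weaklyEtale_of_isIndEtale (Ind91.isIndEtale_baseChange A B κ hB)
  have hsep : ∀ x : F, IsSeparable κ x := fun x => WE24.isSeparable_of_weaklyEtale x
  have : Algebra.IsIntegral κ F := ⟨fun x => (hsep x).isIntegral⟩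
  have hmax : ∀ P : Ideal F, P.IsPrime → P.IsMaximal := fun P hP =>
    Ideal.isMaximal_of_isIntegral_of_isMaximal_comap (R := κ) P
      (by rw [Ideal.eq_bot_of_prime (P.comap (algebraMap κ F))]; exact Ideal.bot_isMaximal)
  have hdim : Ring.KrullDimLE 0 F := Ring.KrullDimLE.mk₀ hmax
  have hN : IsNoetherianRing F := CAlg1.isNoetherianRing_fiber (S := B) p
  have : IsArtinianRing F := isArtinianRing_iff_isNoetherianRing_krullDimLE_zero.mpr ⟨hN, hdim⟩
  refine ⟨?_, FlatMor67.isReduced_of_weaklyEtale κ F, Ring.krullDimLE_iff.1 hdim, fun q _ _ => ?_⟩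
  · have hfin : Finite (PrimeSpectrum.comap (algebraMap A B) ⁻¹' {(⟨p, inferInstance⟩ : PrimeSpectrum A)}) :=
      Finite.of_equiv _ (PrimeSpectrum.preimageEquivFiber A B ⟨p, inferInstance⟩).symm
    refine (Set.finite_coe_iff.1 hfin).subset fun q (hq : q.asIdeal.LiesOver p) => ?_
    exact PrimeSpectrum.ext hq.over.symm
  let L := q.ResidueField
  letI : Algebra κ L := (Ideal.ResidueField.mapₐ p q (Algebra.ofId A B) (q.over_def p)).toRingHom.toAlgebra
  have : IsScalarTower A κ L := .of_algebraMap_eq fun a =>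
    ((Ideal.ResidueField.mapₐ p q (Algebra.ofId A B) (q.over_def p)).commutes a).symm
  let f : F →ₐ[κ] L := Algebra.TensorProduct.lift (Algebra.ofId κ L) (IsScalarTower.toAlgHom A B L)
    fun _ _ => Commute.all _ _
  have hf : ∀ b : B, algebraMap B L b ∈ separableClosure κ L := fun b => by
    rw [mem_separableClosure_iff]
    have h1 : f ((1 : κ) ⊗ₜ b) = algebraMap B L b := by
      rw [Algebra.TensorProduct.lift_tmul, map_one, one_mul]; rfl
    rw [← h1]
    exact (hsep ((1 : κ) ⊗ₜ b)).of_dvd (minpoly.dvd _ _ (by rw [Polynomial.aeval_algHom_apply, minpoly.aeval, map_zero]))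
  show Algebra.IsSeparable κ L
  refine ⟨fun x => mem_separableClosure_iff.1 ?_⟩
  obtain ⟨a, d, -, rfl⟩ := IsFractionRing.div_surjective (A := B ⧸ q) x
  obtain ⟨a, rfl⟩ := Ideal.Quotient.mk_surjective a
  obtain ⟨d, rfl⟩ := Ideal.Quotient.mk_surjective d
  rw [← Ideal.Quotient.algebraMap_eq, ← IsScalarTower.algebraMap_apply, ← IsScalarTower.algebraMap_apply]
  exact div_mem (hf a) (hf d)

end Groth.Agent.CAlg1.IndEt
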