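import Mathlib
import Groth.Agent.CAlg1.NagataAU

/-! A `p`-th root in the completion of a Nagata local domain already lies in the domain. -/

set_option autoImplicit false
set_option linter.style.haveILetI false
universe u

open IsLocalRing Polynomial

namespace Groth.Agent.CAlg1.Nag

theorem exists_root_of_frac {A : Type u} [CommRing A] [IsDomain A] [IsLocalRing A] [IsNoetherianRing A]
    [IsReduced (AdicCompletion (maximalIdeal A) A)] (p : ℕ) [Fact p.Prime] [CharP A p] (a : A)
    (α : AdicCompletion (maximalIdeal A) A) (hα : α ^ p = algebraMap A _ a)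
    (c : FractionRing A) (hc : c ^ p = algebraMap A _ a) : ∃ b : A, b ^ p = a := by
  haveI := faithfullyFlat_completion A
  obtain ⟨u, v, hv, rfl⟩ := IsFractionRing.div_surjective A c
  have hv0 : v ≠ 0 := nonZeroDivisors.ne_zero hv
  have h1 : u ^ p = a * v ^ p := by
    apply IsFractionRing.injective A (FractionRing A)
    rw [map_mul, map_pow, map_pow, ← hc, div_pow, div_mul_cancel₀]
    exact pow_ne_zero _ ((map_ne_zero_iff _ (IsFractionRing.injective A (FractionRing A))).mpr hv0)
  have hinj : Function.Injective (algebraMap A (AdicCompletion (maximalIdeal A) A)) :=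
    FaithfulSMul.algebraMap_injective A _
  haveI : CharP (AdicCompletion (maximalIdeal A) A) p := charP_of_injective_algebraMap hinj p
  have h2 : algebraMap A _ v * α - algebraMap A (AdicCompletion (maximalIdeal A) A) u = 0 := by
    refine IsReduced.eq_zero _ ⟨p, ?_⟩
    rw [sub_pow_char, mul_pow, hα, ← map_pow, ← map_pow, h1, map_mul, mul_comm, sub_self]
  rw [sub_eq_zero] at h2
  have h3 : u ∈ Ideal.span {v} := by
    rw [← Ideal.comap_map_eq_self_of_faithfullyFlat (B := AdicCompletion (maximalIdeal A) A) (Ideal.span {v}),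
      Ideal.mem_comap, ← h2, Ideal.map_span, Set.image_singleton]
    exact Ideal.mul_mem_right _ _ (Ideal.mem_span_singleton_self _)
  obtain ⟨b, rfl⟩ := Ideal.mem_span_singleton'.mp h3
  exact ⟨b, mul_right_cancel₀ (pow_ne_zero p hv0) (by rw [← mul_pow, h1])⟩

theorem exists_pth_root {A : Type u} [CommRing A] [IsDomain A] [IsLocalRing A] (hA : CAlg.IsNagata A)
    (p : ℕ) [Fact p.Prime] [CharP A p] (a : A)
    (h : ∃ α : AdicCompletion (maximalIdeal A) A, α ^ p = algebraMap A (AdicCompletion (maximalIdeal A) A) a) :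
    ∃ b : A, b ^ p = a := by
  classical
  obtain ⟨α, hα⟩ := h
  haveI := hA.1
  haveI := isReduced_cpl_of_isNagata A hA
  by_contra hno
  let K := FractionRing A
  have hnoK : ∀ c : K, c ^ p ≠ algebraMap A K a := fun c hc => hno (exists_root_of_frac p a α hα c hc)
  have hp : p.Prime := Fact.out
  let g : A[X] := X ^ p - C a
  have hg : g.Monic := monic_X_pow_sub_C a hp.pos.ne'
  have hirr : Irreducible (g.map (algebraMap A K)) := by
    rw [Polynomial.map_sub, Polynomial.map_pow, map_X, map_C]
    exact X_pow_sub_C_irreducible_of_prime hp hnoK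
  let B := AdjoinRoot g
  haveI : Module.Finite A B := hg.finite_adjoinRoot
  haveI hfact : Fact (Irreducible (g.map (algebraMap A K))) := ⟨hirr⟩
  let φ : B →+* AdjoinRoot (g.map (algebraMap A K)) := AdjoinRoot.lift
    ((AdjoinRoot.of _).comp (algebraMap A K)) (AdjoinRoot.root _)
    (by rw [← eval₂_map]; exact AdjoinRoot.eval₂_root _)
  have hφ : Function.Injective φ := by
    rw [injective_iff_map_eq_zero]
    intro y
    induction y using AdjoinRoot.induction_on with
    | ih f =>
      intro hy
      rw [AdjoinRoot.lift_mk, ← eval₂_map, ← AdjoinRoot.algebraMap_eq, ← aeval_def, AdjoinRoot.aeval_eq, AdjoinRoot.mk_eq_zero] at hy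
      rw [AdjoinRoot.mk_eq_zero, ← modByMonic_eq_zero_iff_dvd hg]
      apply Polynomial.map_injective (algebraMap A K) (IsFractionRing.injective A K)
      rw [map_modByMonic _ hg, Polynomial.map_zero, modByMonic_eq_zero_iff_dvd (hg.map _)]
      exact hy
  haveI : IsDomain B := hφ.isDomain φ
  have hinjAB : Function.Injective (algebraMap A B) := AdjoinRoot.of.injective_of_degree_ne_zero (by
    rw [degree_X_pow_sub_C hp.pos]; exact_mod_cast hp.pos.ne')
  haveI : CharP B p := charP_of_injective_algebraMap hinjAB p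
  let t : B := AdjoinRoot.root g
  have ht : t ^ p = algebraMap A B a := by
    have := AdjoinRoot.eval₂_root g
    rwa [eval₂_sub, eval₂_X_pow, eval₂_C, sub_eq_zero, ← AdjoinRoot.algebraMap_eq] at this
  have hpow : ∀ y : B, ∃ c : A, y ^ p = algebraMap A B c := by
    intro y
    induction y using AdjoinRoot.induction_on with
    | ih f =>
      induction f using Polynomial.induction_on' with
      | add f₁ f₂ h1 h2 =>
        obtain ⟨c1, hc1⟩ := h1
        obtain ⟨c2, hc2⟩ := h2
        exact ⟨c1 + c2, by rw [map_add, add_pow_char, hc1, hc2, map_add]⟩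
      | monomial n c =>
        refine ⟨c ^ p * a ^ n, ?_⟩
        rw [← C_mul_X_pow_eq_monomial, map_mul, map_pow, AdjoinRoot.mk_X, AdjoinRoot.mk_C, mul_pow, ← pow_mul,
          mul_comm n p, pow_mul, ← AdjoinRoot.algebraMap_eq, show (AdjoinRoot.root g) ^ p = algebraMap A B a from ht,
          map_mul, map_pow, map_pow]
  haveI : Algebra.IsIntegral A B := Algebra.IsIntegral.of_finite A B
  obtain ⟨n₀, hn₀⟩ := Ideal.exists_maximal B
  haveI := hn₀
  have hmem : ∀ n : Ideal B, n.IsMaximal → ∀ y : B, ∀ c : A, y ^ p = algebraMap A B c → (y ∈ n ↔ c ∈ maximalIdeal A) := by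
    intro n hn y c hyc
    haveI := hn
    rw [← eq_maximalIdeal (Ideal.isMaximal_comap_of_isIntegral_of_isMaximal (R := A) n), Ideal.mem_comap, ← hyc]
    exact (Ideal.IsPrime.pow_mem_iff_mem inferInstance p hp.pos).symm
  haveI : IsLocalRing B := IsLocalRing.of_unique_max_ideal ⟨n₀, hn₀, fun n hn => Ideal.ext fun y => by
    obtain ⟨c, hc⟩ := hpow y
    rw [hmem n hn y c hc, hmem n₀ hn₀ y c hc]⟩
  have hB : CAlg.IsNagata B := isNagata_of_finite hA
  haveI := hB.1
  haveI := isReduced_cpl_of_isNagata B hB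
  haveI := Cohen12.isAdicComplete_completion (A := B)
  haveI := Cohen12.isNoetherianRing_completion (A := B)
  let f : A →+* AdicCompletion (maximalIdeal B) B := (algebraMap B _).comp (algebraMap A B)
  have hf : (maximalIdeal A).map f ≤ maximalIdeal (AdicCompletion (maximalIdeal B) B) := by
    rw [Ideal.map_le_iff_le_comap]
    intro r hr
    rw [Ideal.mem_comap, AdicCompletion.maximalIdeal_eq_map]
    refine Ideal.mem_map_of_mem (algebraMap B (AdicCompletion (maximalIdeal B) B)) ?_
    exact (hmem _ (maximalIdeal.isMaximal B) (algebraMap A B r) (r ^ p) (map_pow _ _ _).symm).mpr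
      (Ideal.pow_mem_of_mem _ hr p hp.pos)
  obtain ⟨G, hG⟩ := Cohen12.exists_extension (A := A) f hf
  haveI : CharP (AdicCompletion (maximalIdeal B) B) p := by
    haveI := faithfullyFlat_completion B
    exact charP_of_injective_algebraMap (FaithfulSMul.algebraMap_injective B _) p
  have hGα : G α = algebraMap B _ t := by
    refine sub_eq_zero.mp (IsReduced.eq_zero _ ⟨p, ?_⟩)
    rw [sub_pow_char, ← map_pow, hα, hG, ← map_pow, ht, sub_eq_zero]
    rfl
  -- `t` is congruent to an element of `A` modulo the maximal ideal of `A`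
  have hrad : maximalIdeal B ≤ ((maximalIdeal A).map (algebraMap A B)).radical := by
    intro y hy
    obtain ⟨c, hc⟩ := hpow y
    exact ⟨p, hc ▸ Ideal.mem_map_of_mem _ ((hmem _ (maximalIdeal.isMaximal B) y c hc).mp hy)⟩
  obtain ⟨N, hN⟩ := Ideal.exists_pow_le_of_le_radical_of_fg hrad (IsNoetherian.noetherian _)
  obtain ⟨a₀, ha₀⟩ := Cohen12.exists_sub_mem_pow A N α
  have hle : (maximalIdeal (AdicCompletion (maximalIdeal A) A)).map G ≤ maximalIdeal (AdicCompletion (maximalIdeal B) B) := by
    rw [AdicCompletion.maximalIdeal_eq_map, Ideal.map_map, Ideal.map_le_iff_le_comap]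
    intro r hr
    rw [Ideal.mem_comap, RingHom.comp_apply, hG]
    exact hf (Ideal.mem_map_of_mem _ hr)
  have h1 : G (α - algebraMap A _ a₀) ∈ maximalIdeal (AdicCompletion (maximalIdeal B) B) ^ N := by
    refine Ideal.pow_right_mono hle _ ?_
    rw [← Ideal.map_pow]
    exact Ideal.mem_map_of_mem _ ha₀
  rw [map_sub, hGα, hG, RingHom.comp_apply, ← map_sub, Cohen12.algebraMap_mem_pow_iff] at h1
  have h2 : t - algebraMap A B a₀ ∈ (maximalIdeal A).map (algebraMap A B) := hN h1
  let κ := ResidueField A
  let ψ : B →+* AdjoinRoot (g.map (residue A)) := AdjoinRoot.lift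
    ((AdjoinRoot.of _).comp (residue A)) (AdjoinRoot.root _) (by rw [← eval₂_map]; exact AdjoinRoot.eval₂_root _)
  have h3 : ψ (t - algebraMap A B a₀) = 0 := by
    have hle' : (maximalIdeal A).map (algebraMap A B) ≤ RingHom.ker ψ := by
      rw [Ideal.map_le_iff_le_comap]
      intro r hr
      rw [Ideal.mem_comap, RingHom.mem_ker, AdjoinRoot.algebraMap_eq, AdjoinRoot.lift_of, RingHom.comp_apply,
        (residue_eq_zero_iff r).mpr hr, map_zero]
    exact hle' h2
  have h4 : AdjoinRoot.mk (g.map (residue A)) (X - C (residue A a₀)) = 0 := by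
    rw [map_sub, AdjoinRoot.mk_X, AdjoinRoot.mk_C, ← h3, map_sub, AdjoinRoot.lift_root, AdjoinRoot.algebraMap_eq,
      AdjoinRoot.lift_of, RingHom.comp_apply]
  rw [AdjoinRoot.mk_eq_zero] at h4
  have h5 := natDegree_le_of_dvd h4 (X_sub_C_ne_zero _)
  rw [hg.natDegree_map, natDegree_X_pow_sub_C, natDegree_X_sub_C] at h5
  exact absurd h5 (not_le.mpr hp.one_lt)

end Groth.Agent.CAlg1.Nag
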