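import Groth.Agent.DR39.PC3

/-! Pseudo-coherence: complexes of finite projectives, top cohomology. -/

set_option autoImplicit false
set_option linter.style.haveILetI false
universe u

open CategoryTheory CategoryTheory.Limits CategoryTheory.Pretriangulated

attribute [local instance] HasDerivedCategory.standard

namespace Groth.Agent.CAlg1

open Groth.Agent.DR39

variable {A : Type u} [CommRing A]

theorem pc_inD_of_projective_nat (k : ℕ) (P : Type u) [AddCommGroup P] [Module A P] [Module.Finite A P]
    [Module.Projective A P] : PC (-(k : ℤ)) (Dual.inD A P) := by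
  induction k generalizing P with
  | zero => exact (pcModule_zero_iff P).2 inferInstance
  | succ k ih =>
    obtain ⟨n, g, hg⟩ := Module.Finite.exists_fin' A P
    obtain ⟨s, hs⟩ := Module.projective_lifting_property g LinearMap.id hg
    obtain ⟨T, hT, e1, e2, e3⟩ := exists_triangle_of_surjective g hg
    let r : (Fin n → A) →ₗ[A] LinearMap.ker g :=
      LinearMap.codRestrict _ (LinearMap.id - s ∘ₗ g) fun x => by
        have := LinearMap.congr_fun hs (g x)
        simp only [LinearMap.comp_apply, LinearMap.id_apply] at this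
        simp [this]
    have hr : r ∘ₗ (LinearMap.ker g).subtype = LinearMap.id := by
      ext z : 2
      simp [r, show g z = 0 from z.2]
    haveI : Module.Projective A (LinearMap.ker g) := Module.Projective.of_split _ r hr
    haveI : Module.Finite A (LinearMap.ker g) :=
      Module.Finite.of_surjective r fun z => ⟨z, LinearMap.congr_fun hr z⟩
    rw [← e3]
    refine PC.obj₃ hT ?_ (by rw [e2]; exact pc_of_bff (bff_inD_of_free _))
    rw [e1]
    exact (ih (LinearMap.ker g)).mono (by omega)

theorem pc_inD_of_projective (m : ℤ) (P : Type u) [AddCommGroup P] [Module A P] [Module.Finite A P]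
    [Module.Projective A P] : PC m (Dual.inD A P) :=
  (pc_inD_of_projective_nat (-m).toNat P).mono (by omega)

theorem pc_iff_fp (K : Dual.D A) : (∀ m : ℤ, DRing.IsPseudoCoherent A m K) ↔
    ∃ (E : DRing.Cx A) (b : ℤ), DRing.VanishesAbove E b ∧
        DRing.TermwiseFiniteProjective E ∧ Nonempty (DRing.toD E ≅ K) := by
  constructor
  · intro h
    obtain ⟨E, b, hb, hE, e⟩ := (pc'_iff_forall_pc K).2 h
    exact ⟨E, b, hb, fun i => ⟨(hE i).1, proj_of_FF (hE i)⟩, e⟩
  · rintro ⟨E, b, hb, hE, ⟨e⟩⟩ m
    refine (pc_of_terms E b hb fun i _ => ?_).of_iso e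
    haveI := (hE i).1; haveI := (hE i).2
    exact pc_inD_of_projective _ (E.X i)

theorem fp_HF_top {m : ℤ} {X : Dual.D A} (h : PC m X) (hz : Acyc (m + 1 + 1) X) :
    Module.FinitePresentation A ((HF A (m + 1)).obj X) := by
  obtain ⟨T, hT, e2, h1, -, ⟨e3⟩⟩ := exists_triangle_top X (m + 1) hz
  have h3 : PC m T.obj₃ := PC.obj₃ hT (pc_of_acyc h1) (by rw [e2]; exact h)
  have h4 := (pc_single_iff _ (m + 1) m).1 (h3.of_iso e3)
  rw [show m - (m + 1) = (-1 : ℤ) by omega] at h4
  exact (pcModule_negOne_iff _).1 h4

theorem finite_homology (K : Dual.D A) (m : ℤ)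
    (hK : DRing.IsPseudoCoherent A m K) :
    ((∀ i : ℤ, m < i → Limits.IsZero ((DerivedCategory.homologyFunctor (ModuleCat.{u} A) i).obj K)) →
        Module.Finite A ((DerivedCategory.homologyFunctor (ModuleCat.{u} A) m).obj K)) ∧
      ((∀ i : ℤ, m + 1 < i → Limits.IsZero ((DerivedCategory.homologyFunctor (ModuleCat.{u} A) i).obj K)) →
        Module.FinitePresentation A ((DerivedCategory.homologyFunctor (ModuleCat.{u} A) (m + 1)).obj K)) :=
  ⟨fun h => finite_HF_top hK fun i hi => h i (by omega), fun h => fp_HF_top hK fun i hi => h i (by omega)⟩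

end Groth.Agent.CAlg1
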