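import Groth.Agent.DR39.BC

/-! Pseudo-coherence of complexes is local. -/

set_option autoImplicit false
set_option linter.style.haveILetI false
universe u

open CategoryTheory CategoryTheory.Limits

attribute [local instance] HasDerivedCategory.standard

namespace Groth.Agent.CAlg1

open Groth.Agent.DR39

theorem pc_of_away_cx {R : Type u} [CommRing R] {r : ℕ} (f : Fin r → R)
    (hf : Ideal.span (Set.range f) = ⊤) (K : DRing.Cx R) (m : ℤ)
    (hK : ∀ i, DRing.IsPseudoCoherent (Localization.Away (f i)) m
      (DRing.toD (((ModuleCat.extendScalars (algebraMap R (Localization.Away (f i)))).mapHomologicalComplex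
        (ComplexShape.up ℤ)).obj K))) :
    DRing.IsPseudoCoherent R m (DRing.toD K) := by
  haveI : ∀ i, Module.Flat R (Localization.Away (f i)) :=
    fun i => IsLocalization.flat _ (Submonoid.powers (f i))
  have h : ∀ i, PC m ((DF (extA R (Localization.Away (f i)))).obj ((QA R).obj K)) :=
    fun i => PC.of_iso (hK i) (DFQ (extA R (Localization.Away (f i))) K).symm
  choose b hb using fun i => acyc_of_pc (h i)
  obtain ⟨B, hB⟩ := (Set.finite_range b).bddAbove
  exact pc_descent (B := fun i => Localization.Away (f i)) (isZero_of_away f hf) (finite_of_away f hf)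
    (b := B) (fun i => (hb i).mono (hB ⟨i, rfl⟩)) h

end Groth.Agent.CAlg1
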