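import Mathlib
import Groth.Prelude.Def_CAlgX
import Groth.Agent.ML3.Dominate

/-! Finiteness via the pi comparison map; universally injective maps. -/

open TensorProduct

universe u

namespace Groth.Agent.CAlg1

variable {R : Type u} [CommRing R] {M N : Type u} [AddCommGroup M] [Module R M] [AddCommGroup N] [Module R N]

theorem exists_fg_of_piHom_surjective {K F : Type u} [AddCommGroup K] [Module R K]
    (π : F → K) (t : K ⊗[R] (F → R))
    (ht : ∀ i, TensorProduct.rid R K (TensorProduct.piRightHom R R K (fun _ => R) t i) = π i) :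
    ∃ s : Finset K, ∀ i, π i ∈ Submodule.span R (s : Set K) := by
  classical
  obtain ⟨S, rfl⟩ := TensorProduct.exists_finset t
  refine ⟨S.image Prod.fst, fun i => ?_⟩
  rw [← ht i, map_sum, Finset.sum_apply, map_sum]
  refine Submodule.sum_mem _ fun p hp => ?_
  rw [piRightHom_tmul, rid_tmul]
  exact Submodule.smul_mem _ _ (Submodule.subset_span (Finset.mem_coe.mpr (Finset.mem_image_of_mem _ hp)))

theorem finite_of_piHom_surjective (h : ∀ (ι : Type u) (Q : ι → Type u) [∀ i, AddCommGroup (Q i)]
    [∀ i, Module R (Q i)], Function.Surjective (TensorProduct.piRightHom R R M Q)) :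
    Module.Finite R M := by
  obtain ⟨t, ht⟩ := h M (fun _ => R) (fun m => m ⊗ₜ (1 : R))
  obtain ⟨s, hs⟩ := exists_fg_of_piHom_surjective (R := R) (id : M → M) t
    (fun i => by rw [ht]; simp)
  exact ⟨⟨s, eq_top_iff.mpr fun m _ => hs m⟩⟩

theorem finite_iff_piHom_surjective :
    Module.Finite R M ↔ ∀ (ι : Type u) (Q : ι → Type u) [∀ i, AddCommGroup (Q i)] [∀ i, Module R (Q i)],
      Function.Surjective (TensorProduct.piRightHom R R M Q) :=
  ⟨fun _ _ Q _ _ => Groth.Agent.ML3.piHom_surjective Q, finite_of_piHom_surjective⟩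

theorem fp_of_piHom_bijective (h : ∀ (ι : Type u) (Q : ι → Type u) [∀ i, AddCommGroup (Q i)]
    [∀ i, Module R (Q i)], Function.Bijective (TensorProduct.piRightHom R R M Q)) :
    Module.FinitePresentation R M := by
  classical
  have := finite_of_piHom_surjective fun ι Q _ _ => (h ι Q).2
  obtain ⟨n, π, hπ⟩ := Module.Finite.exists_fin' R M
  let K := LinearMap.ker π
  let Q : K → Type u := fun _ => R
  obtain ⟨x, hx⟩ := (Groth.Agent.ML3.piHom_bijective_fin Q n).2 (fun k => (k : Fin n → R) ⊗ₜ (1 : R))
  have h0 : π.rTensor (∀ k, Q k) x = 0 := by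
    apply (h K Q).1
    rw [map_zero]
    funext k
    rw [Groth.Agent.ML3.piHom_rTensor, hx, LinearMap.rTensor_tmul, LinearMap.mem_ker.mp k.2, zero_tmul]
    rfl
  obtain ⟨t, ht⟩ := (rTensor_exact (∀ k, Q k) π.exact_subtype_ker_map hπ x).mp h0
  obtain ⟨s, hs⟩ := exists_fg_of_piHom_surjective (R := R) (id : K → K) t (fun k => by
    apply Subtype.val_injective
    have h1 : TensorProduct.piRightHom R R (Fin n → R) Q (K.subtype.rTensor _ t) k =
        (k : Fin n → R) ⊗ₜ (1 : R) := by rw [ht, hx]
    rw [Groth.Agent.ML3.piHom_rTensor] at h1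
    have h2 := congrArg (TensorProduct.rid R (Fin n → R)) h1
    rw [rid_tmul, one_smul] at h2
    rw [id, ← h2]
    generalize TensorProduct.piRightHom R R K (fun _ => R) t k = z
    induction z with
    | zero => simp
    | add a b ha hb => simp only [map_add, Submodule.coe_add, ha, hb]
    | tmul a b => simp)
  exact Module.finitePresentation_of_surjective π hπ ⟨s.image Subtype.val, le_antisymm
    (Submodule.span_le.mpr fun z hz => by
      obtain ⟨k, -, rfl⟩ := Finset.mem_image.mp hz
      exact k.2)
    fun z hz => by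
      have := Submodule.mem_map_of_mem (f := K.subtype) (hs ⟨z, hz⟩)
      rw [Submodule.map_span] at this
      simpa using this⟩

theorem fp_iff_piHom_bijective :
    Module.FinitePresentation R M ↔ ∀ (ι : Type u) (Q : ι → Type u) [∀ i, AddCommGroup (Q i)]
      [∀ i, Module R (Q i)], Function.Bijective (TensorProduct.piRightHom R R M Q) :=
  ⟨fun _ ι Q _ _ => ⟨Groth.Agent.ML3.ml_of_fp ι Q, Groth.Agent.ML3.piHom_surjective Q⟩,
    fp_of_piHom_bijective⟩

theorem univInj_iff_fp (f : M →ₗ[R] N) :
    CAlgX.UniversallyInjective R f ↔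
      ∀ (Q : Type u) [AddCommGroup Q] [Module R Q], Module.FinitePresentation R Q →
        Function.Injective (f.rTensor Q) := by
  refine ⟨fun h Q _ _ _ => h Q, fun h Q _ _ => ?_⟩
  rw [injective_iff_map_eq_zero]
  intro x hx
  have hd := Groth.Agent.ML3.dom_of_fp f LinearMap.id
    (fun P _ _ hP y hy => by
      rw [LinearMap.mem_ker] at hy ⊢
      rw [(injective_iff_map_eq_zero _).mp (h P hP) y hy, map_zero]) Q
  simpa using hd (LinearMap.mem_ker.mpr hx)

section equational

/-- coordinates on `M ⊗ Rⁿ` -/
noncomputable abbrev coord (M : Type u) [AddCommGroup M] [Module R M] (n : ℕ) :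
    M ⊗[R] (Fin n → R) ≃ₗ[R] Fin n → M :=
  TensorProduct.piScalarRight R R M (Fin n)

theorem coord_lTensor {n m : ℕ} (A : (Fin m → R) →ₗ[R] (Fin n → R)) (t : M ⊗[R] (Fin m → R)) (i : Fin n) :
    coord (R := R) M n (A.lTensor M t) i = ∑ j, A (Pi.single j 1) i • coord (R := R) M m t j := by
  induction t with
  | zero => simp
  | add a b ha hb => simp only [map_add, Pi.add_apply, smul_add, Finset.sum_add_distrib, ha, hb]
  | tmul a v =>
    simp only [coord, LinearMap.lTensor_tmul, piScalarRight_apply, piScalarRightHom_tmul, smul_smul,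
      ← Finset.sum_smul]
    congr 1
    conv_lhs => rw [pi_eq_sum_univ' v, map_sum, Finset.sum_apply]
    refine Finset.sum_congr rfl fun j _ => ?_
    rw [map_smul, Pi.smul_apply, smul_eq_mul, mul_comm]

theorem coord_rTensor {n : ℕ} (f : M →ₗ[R] N) (t : M ⊗[R] (Fin n → R)) (i : Fin n) :
    coord (R := R) N n (f.rTensor _ t) i = f (coord (R := R) M n t i) := by
  induction t with
  | zero => simp
  | add a b ha hb => simp only [map_add, Pi.add_apply, ha, hb]
  | tmul a v => simp [coord]

theorem univInj_iff_equational (f : M →ₗ[R] N) :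
    CAlgX.UniversallyInjective R f ↔
      ∀ (n m : ℕ) (x : Fin n → M) (y : Fin m → N) (a : Fin n → Fin m → R),
        (∀ i, f (x i) = ∑ j, a i j • y j) → ∃ z : Fin m → M, ∀ i, x i = ∑ j, a i j • z j := by
  constructor
  · intro h n m x y a hxy
    let A : (Fin m → R) →ₗ[R] (Fin n → R) := Fintype.linearCombination R (fun j i => a i j)
    have hA : ∀ i j, A (Pi.single j 1) i = a i j := fun i j => by simp [A]
    let q := (LinearMap.range A).mkQ
    let t := (coord (R := R) M n).symm x
    have ht : f.rTensor _ t = A.lTensor N ((coord (R := R) N m).symm y) := by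
      apply (coord (R := R) N n).injective
      funext i
      rw [coord_rTensor, coord_lTensor, LinearEquiv.apply_symm_apply, LinearEquiv.apply_symm_apply, hxy]
      simp only [hA]
    have hex : Function.Exact A q := LinearMap.exact_map_mkQ_range A
    have h0 : q.lTensor M t = 0 := by
      apply h ((Fin n → R) ⧸ LinearMap.range A)
      rw [map_zero, ← LinearMap.comp_apply, LinearMap.rTensor_comp_lTensor,
        ← LinearMap.lTensor_comp_rTensor, LinearMap.comp_apply, ht, ← LinearMap.lTensor_comp_apply,
        hex.linearMap_comp_eq_zero, LinearMap.lTensor_zero, LinearMap.zero_apply]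
    obtain ⟨z, hz⟩ := (lTensor_exact M hex (Submodule.mkQ_surjective _) t).mp h0
    refine ⟨coord (R := R) M m z, fun i => ?_⟩
    have := congrFun (congrArg (coord (R := R) M n) hz) i
    rw [coord_lTensor, LinearEquiv.apply_symm_apply] at this
    rw [← this]
    simp only [hA]
  · intro h
    rw [univInj_iff_fp]
    intro Q _ _ hQ
    obtain ⟨n, π, hπ⟩ := Module.Finite.exists_fin' R Q
    obtain ⟨m, c, hc⟩ := Submodule.fg_iff_exists_fin_generating_family.mp
      (Module.FinitePresentation.fg_ker π hπ)
    let A : (Fin m → R) →ₗ[R] (Fin n → R) := Fintype.linearCombination R c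
    have hA : LinearMap.range A = LinearMap.ker π := by rw [← hc]; exact Fintype.range_linearCombination R c
    have hex : Function.Exact A π := LinearMap.exact_iff.mpr hA.symm
    rw [injective_iff_map_eq_zero]
    intro t ht
    obtain ⟨t, rfl⟩ := LinearMap.lTensor_surjective M hπ t
    rw [← LinearMap.comp_apply, LinearMap.rTensor_comp_lTensor, ← LinearMap.lTensor_comp_rTensor,
      LinearMap.comp_apply] at ht
    obtain ⟨w, hw⟩ := (lTensor_exact N hex hπ _).mp ht
    obtain ⟨z, hz⟩ := h n m (coord (R := R) M n t) (coord (R := R) N m w) (fun i j => A (Pi.single j 1) i) (fun i => by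
      rw [← coord_rTensor, ← hw, coord_lTensor])
    refine (lTensor_exact M hex hπ _).mpr ⟨(coord (R := R) M m).symm z, ?_⟩
    apply (coord (R := R) M n).injective
    funext i
    rw [coord_lTensor, LinearEquiv.apply_symm_apply, hz]

end equational

end Groth.Agent.CAlg1
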