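import Mathlib

/-! Field extensions in which every element has a power in the base. -/

universe u

open IntermediateField

namespace Groth.Agent.CAlg1

variable {k k' : Type u} [Field k] [Field k'] [Algebra k k']

theorem key_of_separable (h : ∀ x : k', ∃ n : ℕ, 0 < n ∧ x ^ n ∈ Set.range (algebraMap k k'))
    {x : k'} (hsep : IsSeparable k x) (hx : x ∉ Set.range (algebraMap k k')) :
    Algebra.IsAlgebraic (⊥ : Subfield k') k' ∧ ¬ CharZero k' := by
  classical
  let L := AlgebraicClosure k'
  let ι : k' →+* L := algebraMap k' L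
  obtain ⟨z, hz, hzne⟩ : ∃ z : L, Polynomial.aeval z (minpoly k x) = 0 ∧ z ≠ ι x := by
    by_contra hc
    push Not at hc
    have hint := hsep.isIntegral
    have hcard : Fintype.card ((minpoly k x).rootSet L) = (minpoly k x).natDegree :=
      Polynomial.card_rootSet_eq_natDegree hsep (IsAlgClosed.splits _)
    have hle : Fintype.card ((minpoly k x).rootSet L) ≤ 1 := by
      rw [Fintype.card_le_one_iff]
      rintro ⟨a, ha⟩ ⟨b, hb⟩
      rw [Polynomial.mem_rootSet] at ha hb
      exact Subtype.ext ((hc a ha.2).trans (hc b hb.2).symm)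
    have hd := minpoly.two_le_natDegree_iff hint |>.mpr (fun hr => hx hr)
    omega
  -- a common power
  have hpow : ∀ a : k, x + algebraMap k k' a ≠ 0 ∧
      ∃ η : L, (∃ m, 0 < m ∧ η ^ m = 1) ∧ η ≠ 1 ∧
        z + algebraMap k L a = η * (ι x + algebraMap k L a) := by
    intro a
    have hne : x + algebraMap k k' a ≠ 0 := fun h0 => hx ⟨-a, by rw [map_neg]; linear_combination -h0⟩
    refine ⟨hne, ?_⟩
    obtain ⟨m, hm, c, hc⟩ := h (x + algebraMap k k' a)
    have hdvd : minpoly k x ∣ (Polynomial.X + Polynomial.C a) ^ m - Polynomial.C c :=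
      minpoly.dvd k x (by simp [hc])
    have hzc : (z + algebraMap k L a) ^ m = algebraMap k L c := by
      obtain ⟨q, hq⟩ := hdvd
      have h0 : Polynomial.aeval z ((Polynomial.X + Polynomial.C a) ^ m - Polynomial.C c) = 0 := by
        rw [hq, map_mul, hz, zero_mul]
      simpa [sub_eq_zero] using h0
    have hι : ι x + algebraMap k L a = ι (x + algebraMap k k' a) := by
      rw [map_add, IsScalarTower.algebraMap_apply k k' L]
    have hne' : ι x + algebraMap k L a ≠ 0 := hι ▸ (map_ne_zero_iff ι ι.injective).mpr hne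
    have hxc : (ι x + algebraMap k L a) ^ m = algebraMap k L c := by
      rw [hι, ← map_pow, ← hc, IsScalarTower.algebraMap_apply k k' L]
    refine ⟨(z + algebraMap k L a) / (ι x + algebraMap k L a), ⟨m, hm, ?_⟩, ?_, (div_mul_cancel₀ _ hne').symm⟩
    · rw [div_pow, hzc, hxc, div_self]
      rw [← hxc]; exact pow_ne_zero _ hne'
    · intro h1
      rw [div_eq_one_iff_eq hne'] at h1
      exact hzne (add_right_cancel h1)
  obtain ⟨-, ζ, ⟨mζ, hmζ, hζ⟩, hζ1, hζe⟩ := hpow 0
  rw [map_zero, add_zero, add_zero] at hζe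
  have rel : ∀ (a : k) (η : L), z + algebraMap k L a = η * (ι x + algebraMap k L a) →
      algebraMap k L a * (η - 1) = ι x * (ζ - η) := fun a η h => by
    rw [hζe] at h; linear_combination -h
  let P := (⊥ : Subfield k')
  let A : IntermediateField P L := algebraicClosure P L
  have root_mem : ∀ η : L, (∃ m, 0 < m ∧ η ^ m = 1) → η ∈ A := fun η ⟨m, hm, he⟩ =>
    mem_algebraicClosure_iff.mpr (IsIntegral.of_pow hm (by rw [he]; exact isIntegral_one)).isAlgebraic
  have hιx : ι x ∈ A := by
    obtain ⟨-, η, hη, hη1, he⟩ := hpow 1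
    have hr := rel 1 η he
    rw [map_one, one_mul] at hr
    have hd : ζ - η ≠ 0 := fun h0 => hη1 (sub_eq_zero.mp (by rw [hr, h0, mul_zero]))
    rw [show ι x = (η - 1) / (ζ - η) by rw [eq_div_iff hd]; exact hr.symm]
    exact div_mem (sub_mem (root_mem η hη) (one_mem A)) (sub_mem (root_mem ζ ⟨mζ, hmζ, hζ⟩) (root_mem η hη))
  have hk : ∀ a : k, algebraMap k L a ∈ A := by
    intro a
    obtain ⟨-, η, hη, hη1, he⟩ := hpow a
    have hd : η - 1 ≠ 0 := sub_ne_zero.mpr hη1
    rw [show algebraMap k L a = ι x * (ζ - η) / (η - 1) by rw [eq_div_iff hd]; exact rel a η he]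
    exact div_mem (mul_mem hιx (sub_mem (root_mem ζ ⟨mζ, hmζ, hζ⟩) (root_mem η hη)))
      (sub_mem (root_mem η hη) (one_mem A))
  have halg : ∀ y : k', IsAlgebraic P y := by
    intro y
    obtain ⟨m, hm, c, hc⟩ := h y
    have h1 : IsIntegral P ((ι y) ^ m) := by
      rw [← map_pow, ← hc, ← IsScalarTower.algebraMap_apply k k' L]
      exact (mem_algebraicClosure_iff.mp (hk c)).isIntegral
    exact (isAlgebraic_algebraMap_iff (A := L) ι.injective).mp (IsIntegral.of_pow hm h1).isAlgebraic
  refine ⟨⟨halg⟩, fun hchar => ?_⟩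
  have : CharZero L := charZero_of_injective_ringHom ι.injective
  let E : IntermediateField P L := IntermediateField.adjoin P {ζ, ι x}
  have hfd : FiniteDimensional P E := IntermediateField.finiteDimensional_adjoin fun y hy => by
    rcases hy with rfl | rfl
    · exact (mem_algebraicClosure_iff.mp (root_mem _ ⟨mζ, hmζ, hζ⟩)).isIntegral
    · exact (mem_algebraicClosure_iff.mp hιx).isIntegral
  have hP : Function.Surjective (algebraMap ℚ P) := by
    intro y
    have hy : (y : k') ∈ ((algebraMap ℚ k').fieldRange) := (bot_le : P ≤ (algebraMap ℚ k').fieldRange) y.2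
    obtain ⟨r, hr⟩ := hy
    exact ⟨r, Subtype.ext (by simpa using hr)⟩
  have : Module.Finite ℚ P := Module.Finite.of_surjective (Algebra.linearMap ℚ P) hP
  have : Module.Finite ℚ E := Module.Finite.trans P E
  have : NumberField E := @NumberField.mk E _ inferInstance this
  have hfin : {y : E | IsIntegral ℤ y ∧ ∀ φ : E →+* ℂ, ‖φ y‖ ≤ (1 : ℝ)}.Finite :=
    NumberField.Embeddings.finite_of_norm_le E ℂ 1
  have hmemζ : ζ ∈ E := IntermediateField.subset_adjoin P _ (by simp)
  have hmemx : ι x ∈ E := IntermediateField.subset_adjoin P _ (by simp)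
  choose η hη hη1 he using fun n : ℕ => (hpow (n : k)).2
  have hmem : ∀ n : ℕ, η n ∈ E := by
    intro n
    have hne' : ι x + algebraMap k L (n : k) ≠ 0 := by
      rw [IsScalarTower.algebraMap_apply k k' L, ← map_add]
      exact (map_ne_zero_iff ι ι.injective).mpr (hpow (n : k)).1
    rw [show η n = (ζ * ι x + algebraMap k L (n : k)) / (ι x + algebraMap k L (n : k)) by
      rw [eq_div_iff hne', ← hζe]; exact (he n).symm]
    rw [map_natCast]
    exact div_mem (add_mem (mul_mem hmemζ hmemx) (_root_.natCast_mem E n)) (add_mem hmemx (_root_.natCast_mem E n))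
  have hinj : Function.Injective fun n : ℕ => (⟨η n, hmem n⟩ : E) := by
    intro a b hab
    have hab' : η a = η b := congrArg Subtype.val hab
    have h1 := rel _ _ (he a)
    have h2 := rel _ _ (he b)
    rw [map_natCast] at h1 h2
    rw [hab', ← h2] at h1
    exact_mod_cast mul_right_cancel₀ (sub_ne_zero.mpr (hη1 b)) h1
  refine Set.infinite_range_of_injective hinj (hfin.subset ?_)
  rintro _ ⟨n, rfl⟩
  obtain ⟨m, hm, hpw⟩ := hη n
  have he1 : (⟨η n, hmem n⟩ : E) ^ m = 1 := Subtype.ext (by simpa using hpw)
  refine ⟨IsIntegral.of_pow hm (by rw [he1]; exact isIntegral_one), fun φ => le_of_eq ?_⟩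
  exact Complex.norm_eq_one_of_pow_eq_one (by rw [← map_pow, he1, map_one]) hm.ne'

theorem pow_mem_range_iff :
    (∀ x : k', ∃ n : ℕ, 0 < n ∧ x ^ n ∈ Set.range (algebraMap k k')) ↔
      Function.Surjective (algebraMap k k') ∨
        ∃ p : ℕ, p.Prime ∧ CharP k' p ∧
          (IsPurelyInseparable k k' ∨ Algebra.IsAlgebraic (⊥ : Subfield k') k') := by
  constructor
  · intro h
    by_cases hs : Function.Surjective (algebraMap k k')
    · exact Or.inl hs
    right
    simp only [Function.Surjective, not_forall, not_exists] at hs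
    obtain ⟨w, hw⟩ := hs
    have hint : Algebra.IsIntegral k k' := ⟨fun y => by
      obtain ⟨m, hm, c, hc⟩ := h y
      exact IsIntegral.of_pow hm (hc ▸ isIntegral_algebraMap)⟩
    obtain ⟨p, hp⟩ := CharP.exists k'
    rcases CharP.char_is_prime_or_zero k' p with hpp | rfl
    · refine ⟨p, hpp, hp, ?_⟩
      by_cases hins : IsPurelyInseparable k k'
      · exact Or.inl hins
      · rw [isPurelyInseparable_iff] at hins
        push Not at hins
        obtain ⟨x, hx⟩ := hins
        obtain ⟨hsep, hxr⟩ := hx (Algebra.IsIntegral.isIntegral x)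
        exact Or.inr (key_of_separable h hsep hxr).1
    · exfalso
      have hch : CharZero k' := CharP.charP_to_charZero k'
      have : CharZero k := (algebraMap k k').charZero_iff (algebraMap k k').injective |>.mpr hch
      refine (key_of_separable h ?_ (x := w) fun ⟨c, hc⟩ => hw c hc).2 hch
      exact (minpoly.irreducible (Algebra.IsIntegral.isIntegral w)).separable
  · rintro (hs | ⟨p, hpp, hp, h⟩) x
    · exact ⟨1, one_pos, by obtain ⟨c, hc⟩ := hs x; exact ⟨c, by rw [pow_one, hc]⟩⟩
    rcases h with h | h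
    · have : CharP k p := (RingHom.charP_iff (algebraMap k k') (algebraMap k k').injective p).mpr hp
      have : Fact p.Prime := ⟨hpp⟩
      have : ExpChar k p := ExpChar.prime hpp
      obtain ⟨n, hn⟩ := IsPurelyInseparable.pow_mem k p x
      exact ⟨p ^ n, pow_pos hpp.pos n, hn⟩
    · rcases eq_or_ne x 0 with rfl | hx
      · exact ⟨1, one_pos, 0, by simp⟩
      have : Fact p.Prime := ⟨hpp⟩
      let P := (⊥ : Subfield k')
      have : Finite P := by
        have hle : P ≤ (ZMod.castHom (dvd_refl p) k').fieldRange := bot_le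
        have : Finite (ZMod.castHom (dvd_refl p) k').fieldRange :=
          Finite.of_surjective (ZMod.castHom (dvd_refl p) k').rangeRestrictField
            (RingHom.rangeRestrictField_bijective _).2
        exact Finite.of_injective (Subfield.inclusion hle) (RingHom.injective _)
      have hxi : IsIntegral P x := (h.isAlgebraic x).isIntegral
      let E := IntermediateField.adjoin P ({x} : Set k')
      have : FiniteDimensional P E := IntermediateField.adjoin.finiteDimensional hxi
      have : Finite E := Module.finite_of_finite P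
      have : Fintype E := Fintype.ofFinite E
      let y : E := ⟨x, IntermediateField.mem_adjoin_simple_self P x⟩
      have hy : y ≠ 0 := fun h => hx (congrArg Subtype.val h)
      refine ⟨Fintype.card E - 1, Nat.sub_pos_of_lt Fintype.one_lt_card, 1, ?_⟩
      rw [map_one]
      exact (congrArg Subtype.val (FiniteField.pow_card_sub_one_eq_one y hy)).symm

end Groth.Agent.CAlg1
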