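import Mathlib
import Groth.Agent.FlatMor67.Kaplansky

/-! Projective modules over local rings are free (Kaplansky). -/

universe u

open IsLocalRing

namespace Groth.Agent.CAlg1

variable {R : Type u} [CommRing R] [IsLocalRing R] {P : Type u} [AddCommGroup P] [Module R P]
  [Module.Projective R P]

/-- splitting off a finite free summand containing a given element -/
theorem exists_split_free (π : P →ₗ[R] P) (hπ : π ∘ₗ π = π) (x : P) :
    ∃ ρ : P →ₗ[R] P, ρ ∘ₗ ρ = ρ ∧ ρ ∘ₗ π = ρ ∧ π ∘ₗ ρ = ρ ∧ ρ x = 0 ∧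
      Module.Free R (LinearMap.range (π - ρ)) := by
  classical
  let Pairs := {st : (P →ₗ[R] (P →₀ R)) × ((P →₀ R) →ₗ[R] P) //
    st.2 ∘ₗ st.1 = π ∧ π ∘ₗ st.2 = st.2 ∧ st.1 ∘ₗ π = st.1}
  have hne : Nonempty Pairs := by
    obtain ⟨s, hs⟩ := Module.projective_lifting_property (Finsupp.linearCombination R id) LinearMap.id
      (Finsupp.linearCombination_id_surjective R P)
    refine ⟨⟨(s ∘ₗ π, π ∘ₗ Finsupp.linearCombination R id), ?_, ?_, ?_⟩⟩
    · ext z; simp only [LinearMap.comp_apply]
      rw [show Finsupp.linearCombination R id (s (π z)) = π z from LinearMap.congr_fun hs (π z)]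
      exact LinearMap.congr_fun hπ z
    · rw [← LinearMap.comp_assoc, hπ]
    · rw [LinearMap.comp_assoc, hπ]
  obtain ⟨⟨⟨s, T⟩, hTs, hπT, hsπ⟩, hmin⟩ : ∃ p : Pairs, ∀ q : Pairs,
      (p.1.1 x).support.card ≤ (q.1.1 x).support.card :=
    ⟨Function.argmin fun q : Pairs => (q.1.1 x).support.card, fun q => Function.argmin_le (fun q : Pairs => (q.1.1 x).support.card) q⟩
  dsimp only at hTs hπT hsπ hmin
  let S := (s x).support
  let a : S → R := fun i => s x i
  have hmin' : ∀ j : S, a j ∉ Ideal.span (a '' {i | i ≠ j}) := by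
    intro j hj
    obtain ⟨c, hc⟩ := (Ideal.mem_span_range_iff_exists_fun (v := fun i : {i : S // i ≠ j} => a i)).mp
      (by rw [Set.image_eq_range] at hj; exact hj)
    let χ : (P →₀ R) →ₗ[R] (P →₀ R) :=
      ∑ i : {i : S // i ≠ j}, (Finsupp.lsingle (j : P) ∘ₗ (c i • Finsupp.lapply (i.1 : P)))
    have hχj : ∀ z : P →₀ R, χ z = Finsupp.single (j : P) (∑ i : {i : S // i ≠ j}, c i * z (i.1 : P)) := by
      intro z
      simp only [χ, LinearMap.sum_apply, LinearMap.comp_apply, LinearMap.smul_apply, Finsupp.lapply_apply,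
        Finsupp.lsingle_apply, smul_eq_mul]
      exact (map_sum (Finsupp.singleAddHom (j : P)) _ _).symm
    have hχ2 : χ ∘ₗ χ = 0 := by
      refine LinearMap.ext fun z => ?_
      rw [LinearMap.comp_apply, hχj, LinearMap.zero_apply]
      refine Finsupp.single_eq_zero.mpr (Finset.sum_eq_zero fun i _ => ?_)
      rw [hχj, Finsupp.single_eq_of_ne, mul_zero]
      exact fun h => i.2 (Subtype.ext h)
    have h1 : (LinearMap.id - χ : (P →₀ R) →ₗ[R] _) ∘ₗ (LinearMap.id + χ) = LinearMap.id := by
      rw [LinearMap.sub_comp, LinearMap.comp_add, LinearMap.comp_add, LinearMap.id_comp,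
        LinearMap.id_comp, LinearMap.comp_id, hχ2]
      abel
    have h2 : (LinearMap.id + χ : (P →₀ R) →ₗ[R] _) ∘ₗ (LinearMap.id - χ) = LinearMap.id := by
      rw [LinearMap.add_comp, LinearMap.comp_sub, LinearMap.comp_sub, LinearMap.id_comp,
        LinearMap.id_comp, LinearMap.comp_id, hχ2]
      abel
    have hq := hmin ⟨((LinearMap.id - χ) ∘ₗ s, T ∘ₗ (LinearMap.id + χ)), ?_, ?_, ?_⟩
    · have hsub : (((LinearMap.id - χ) ∘ₗ s) x).support ⊆ S.erase j := by
        intro k hk
        rw [Finsupp.mem_support_iff] at hk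
        have hxk : (((LinearMap.id - χ) ∘ₗ s) x : P →₀ R) k = s x k - χ (s x) k := rfl
        rw [hxk, hχj] at hk
        rw [Finset.mem_erase]
        by_cases hkj : k = j
        · subst hkj
          rw [Finsupp.single_eq_same] at hk
          exact absurd (sub_eq_zero.mpr hc.symm) hk
        · rw [Finsupp.single_eq_of_ne hkj, sub_zero] at hk
          exact ⟨hkj, Finsupp.mem_support_iff.mpr hk⟩
      exact absurd (hq.trans (Finset.card_le_card hsub)) (not_le.mpr (Finset.card_erase_lt_of_mem j.2))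
    · show (T ∘ₗ (LinearMap.id + χ)) ∘ₗ ((LinearMap.id - χ) ∘ₗ s) = π
      rw [LinearMap.comp_assoc, ← LinearMap.comp_assoc s (LinearMap.id - χ), h2, LinearMap.id_comp, hTs]
    · show π ∘ₗ (T ∘ₗ (LinearMap.id + χ)) = T ∘ₗ (LinearMap.id + χ)
      rw [← LinearMap.comp_assoc, hπT]
    · show ((LinearMap.id - χ) ∘ₗ s) ∘ₗ π = (LinearMap.id - χ) ∘ₗ s
      rw [LinearMap.comp_assoc, hsπ]
  let y : S → P := fun i => T (Finsupp.single (i : P) 1)
  let Φ : P →ₗ[R] (S → R) := LinearMap.pi fun i : S => Finsupp.lapply (i : P) ∘ₗ s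
  let Ψ : (S → R) →ₗ[R] P := Fintype.linearCombination R y
  have hx : Ψ a = T (s x) := by
    conv_rhs => rw [← Finsupp.sum_single (s x), Finsupp.sum, map_sum]
    rw [← Finset.sum_coe_sort]
    simp only [Ψ, Fintype.linearCombination_apply, y]
    refine Finset.sum_congr rfl fun i _ => ?_
    rw [← map_smul, Finsupp.smul_single, smul_eq_mul, mul_one]
  have hTsx : T (s x) = π x := LinearMap.congr_fun hTs x
  have hfix : Φ (Ψ a) = a := by
    rw [hx, hTsx]
    funext i
    exact congrArg (fun f : P →₀ R => f (i : P)) (LinearMap.congr_fun hsπ x)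
  let B : Matrix S S R := LinearMap.toMatrix' (Φ ∘ₗ Ψ)
  have hB : ∀ i j : S, B i j = s (y j) i := by
    intro i j
    simp [B, Φ, Ψ, LinearMap.toMatrix'_apply]
  have hrow : ∀ i : S, ∑ j, B i j * a j = a i := fun i => by
    have := congrFun ((LinearMap.toMatrix'_mulVec (Φ ∘ₗ Ψ) a).trans hfix) i
    simpa [Matrix.mulVec, dotProduct, B] using this
  have hres : B.map (residue R) = 1 := by
    ext i k
    rw [Matrix.map_apply]
    by_contra hne
    have hsplit : ∀ k : S, ∑ j ∈ Finset.univ.erase k, B i j * a j + B i k * a k = a i := fun k => by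
      rw [Finset.sum_erase_add _ _ (Finset.mem_univ k), hrow]
    by_cases hik : i = k
    · subst hik
      rw [Matrix.one_apply_eq] at hne
      have hu : IsUnit (1 - B i i) := by
        rw [← residue_ne_zero_iff_isUnit, map_sub, map_one, sub_ne_zero]
        exact fun h => hne h.symm
      refine hmin' i ?_
      have he : a i = ↑hu.unit⁻¹ * ∑ j ∈ Finset.univ.erase i, B i j * a j := by
        rw [show ∑ j ∈ Finset.univ.erase i, B i j * a j = (1 - B i i) * a i by
          linear_combination hsplit i, ← mul_assoc, IsUnit.val_inv_mul, one_mul]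
      rw [he]
      refine Ideal.mul_mem_left _ _ (Ideal.sum_mem _ fun j hj => Ideal.mul_mem_left _ _ ?_)
      exact Ideal.subset_span ⟨j, Finset.ne_of_mem_erase hj, rfl⟩
    · rw [Matrix.one_apply_ne hik] at hne
      have hu : IsUnit (B i k) := residue_ne_zero_iff_isUnit _ |>.mp hne
      refine hmin' k ?_
      have he : a k = ↑hu.unit⁻¹ * (a i - ∑ j ∈ Finset.univ.erase k, B i j * a j) := by
        rw [show a i - ∑ j ∈ Finset.univ.erase k, B i j * a j = B i k * a k by
          linear_combination -hsplit k, ← mul_assoc, IsUnit.val_inv_mul, one_mul]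
      rw [he]
      refine Ideal.mul_mem_left _ _ (sub_mem (Ideal.subset_span ⟨i, hik, rfl⟩)
        (Ideal.sum_mem _ fun j hj => Ideal.mul_mem_left _ _ ?_))
      exact Ideal.subset_span ⟨j, Finset.ne_of_mem_erase hj, rfl⟩
  have hdet : IsUnit B.det := by
    rw [← residue_ne_zero_iff_isUnit, RingHom.map_det, RingHom.mapMatrix_apply, hres, Matrix.det_one]
    exact one_ne_zero
  let u : (S → R) →ₗ[R] (S → R) := Matrix.toLin' B⁻¹
  have hu1 : ∀ v, u (Φ (Ψ v)) = v := by
    intro v
    rw [show Φ (Ψ v) = B.mulVec v from (LinearMap.toMatrix'_mulVec (Φ ∘ₗ Ψ) v).symm]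
    show B⁻¹.mulVec (B.mulVec v) = v
    rw [Matrix.mulVec_mulVec, Matrix.nonsing_inv_mul B hdet, Matrix.one_mulVec]
  let e : P →ₗ[R] P := Ψ ∘ₗ u ∘ₗ Φ
  have hπΨ : ∀ v, π (Ψ v) = Ψ v := fun v => by
    simp only [Ψ, Fintype.linearCombination_apply, map_sum, map_smul, y]
    exact Finset.sum_congr rfl fun i _ => by rw [show π (T _) = T _ from LinearMap.congr_fun hπT _]
  have hΦπ : ∀ z, Φ (π z) = Φ z := fun z => by
    funext i
    exact congrArg (fun f : P →₀ R => f (i : P)) (LinearMap.congr_fun hsπ z)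
  have hπe : ∀ z, π (e z) = e z := fun z => hπΨ _
  have heπ : ∀ z, e (π z) = e z := fun z => by simp only [e, LinearMap.comp_apply, hΦπ]
  have hee : ∀ z, e (e z) = e z := fun z => by simp only [e, LinearMap.comp_apply, hu1]
  have hππ : ∀ z, π (π z) = π z := LinearMap.congr_fun hπ
  refine ⟨π - e, ?_, ?_, ?_, ?_, ?_⟩
  · ext z
    simp only [LinearMap.comp_apply, LinearMap.sub_apply, map_sub, hπe, heπ, hee, hππ]
    abel
  · ext z; simp [heπ, hππ]
  · ext z; simp [hπe, hππ]
  · show π x - e x = 0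
    rw [← heπ, ← hTsx, ← hx]
    simp only [e, LinearMap.comp_apply, hu1, sub_self]
  · rw [sub_sub_cancel]
    have hrange : LinearMap.range e = LinearMap.range Ψ := by
      refine le_antisymm (LinearMap.range_comp_le_range _ _) ?_
      rintro _ ⟨v, rfl⟩
      exact ⟨Ψ v, by simp only [e, LinearMap.comp_apply, hu1]⟩
    rw [hrange]
    have hinj : Function.Injective Ψ := fun v w h => by rw [← hu1 v, h, hu1]
    exact Module.Free.of_equiv (LinearEquiv.ofInjective Ψ hinj)

theorem free_of_countablyGenerated (h : CAlg.IsCountablyGenerated R P) : Module.Free R P := by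
  classical
  obtain ⟨x, hspan⟩ : ∃ x : ℕ → P, Submodule.span R (Set.range x) = ⊤ := by
    obtain ⟨t, ht, hts⟩ := h
    obtain ⟨x, hx⟩ := (ht.insert (0 : P)).exists_eq_range (Set.insert_nonempty _ _)
    exact ⟨x, by rw [← hx, Submodule.span_insert_zero, hts]⟩
  let St := {π : P →ₗ[R] P // π ∘ₗ π = π}
  choose nxt hnxt using fun (π : St) (z : P) => exists_split_free π.1 π.2 z
  let seq : ℕ → St := fun n => Nat.rec (⟨LinearMap.id, rfl⟩ : St)
    (fun k prev => ⟨nxt prev (x k), (hnxt prev (x k)).1⟩) n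
  let π : ℕ → (P →ₗ[R] P) := fun n => (seq n).1
  have hidem : ∀ n z, π n (π n z) = π n z := fun n => LinearMap.congr_fun (seq n).2
  have hright : ∀ n z, π (n + 1) (π n z) = π (n + 1) z := fun n =>
    LinearMap.congr_fun (hnxt (seq n) (x n)).2.1
  have hleft : ∀ n z, π n (π (n + 1) z) = π (n + 1) z := fun n =>
    LinearMap.congr_fun (hnxt (seq n) (x n)).2.2.1
  have hzero : ∀ n, π (n + 1) (x n) = 0 := fun n => (hnxt (seq n) (x n)).2.2.2.1
  have hleft' : ∀ m n, m ≤ n → ∀ z, π m (π n z) = π n z ∧ π n (π m z) = π n z := by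
    intro m n hmn
    induction hmn with
    | refl => exact fun z => ⟨hidem m z, hidem m z⟩
    | @step n hmn ih =>
      intro z
      constructor
      · rw [← hleft n z, (ih (π (n + 1) z)).1]
      · calc π (n + 1) (π m z) = π (n + 1) (π n (π m z)) := (hright n _).symm
          _ = π (n + 1) z := by rw [(ih z).2, hright]
  let d : ℕ → (P →ₗ[R] P) := fun n => π n - π (n + 1)
  have hd : ∀ n m z, d n (d m z) = if n = m then d m z else 0 := by
    intro n m z
    simp only [d, LinearMap.sub_apply, map_sub]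
    rcases lt_trichotomy n m with h | rfl | h
    · rw [if_neg h.ne, (hleft' n m h.le z).1, (hleft' n (m + 1) (by omega) z).1,
        (hleft' (n + 1) m h z).1, (hleft' (n + 1) (m + 1) (by omega) z).1]
      abel
    · rw [if_pos rfl, hidem n z, hidem (n + 1) z, hleft n z, hright n z]
      abel
    · rw [if_neg h.ne', (hleft' m n h.le z).2, (hleft' (m + 1) n h z).2,
        (hleft' m (n + 1) (by omega) z).2, (hleft' (m + 1) (n + 1) (by omega) z).2]
      abel
  have hev : ∀ z : P, ∃ N, ∀ n, N ≤ n → π n z = 0 := by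
    intro z
    have hz : z ∈ Submodule.span R (Set.range x) := hspan ▸ trivial
    induction hz using Submodule.span_induction with
    | mem z hz =>
      obtain ⟨k, rfl⟩ := hz
      exact ⟨k + 1, fun n hn => by rw [← (hleft' (k + 1) n hn (x k)).2, hzero, map_zero]⟩
    | zero => exact ⟨0, fun n _ => map_zero _⟩
    | add a b _ _ ha hb =>
      obtain ⟨N, hN⟩ := ha; obtain ⟨N', hN'⟩ := hb
      exact ⟨max N N', fun n hn => by
        rw [map_add, hN n (le_of_max_le_left hn), hN' n (le_of_max_le_right hn), add_zero]⟩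
    | smul r a _ ha =>
      obtain ⟨N, hN⟩ := ha
      exact ⟨N, fun n hn => by rw [map_smul, hN n hn, smul_zero]⟩
  let G : ℕ → Submodule R P := fun n => LinearMap.range (d n)
  have hfree : ∀ n, Module.Free R (G n) := fun n => (hnxt (seq n) (x n)).2.2.2.2
  let Λ : DirectSum ℕ (fun n => G n) →ₗ[R] P := DirectSum.coeLinearMap G
  have hcoord : ∀ (v : DirectSum ℕ (fun n => G n)) (n : ℕ), d n (Λ v) = (v n : P) := by
    intro v n
    induction v using DirectSum.induction_on with
    | zero => simp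
    | of m g =>
      obtain ⟨z, hz⟩ := g.2
      rw [show Λ (DirectSum.of _ m g) = (g : P) from DirectSum.coeLinearMap_of G m g, ← hz, hd]
      rcases eq_or_ne n m with rfl | hne
      · rw [if_pos rfl, DirectSum.of_eq_same, hz]
      · rw [if_neg hne, DirectSum.of_eq_of_ne _ _ _ hne, Submodule.coe_zero]
    | add a b ha hb => rw [map_add, map_add, ha, hb, DirectSum.add_apply, Submodule.coe_add]
  have hbij : Function.Bijective Λ := by
    constructor
    · intro v w h
      refine DFinsupp.ext fun n => Subtype.ext ?_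
      rw [← hcoord, h, hcoord]
    · intro z
      obtain ⟨N, hN⟩ := hev z
      refine ⟨∑ n ∈ Finset.range N, DirectSum.of (fun n => G n) n ⟨d n z, z, rfl⟩, ?_⟩
      rw [map_sum]
      simp only [Λ, DirectSum.coeLinearMap_of, d, LinearMap.sub_apply]
      rw [Finset.sum_range_sub' (fun n => π n z) N, hN N le_rfl, sub_zero]
      rfl
  exact Module.Free.of_equiv (LinearEquiv.ofBijective Λ hbij)

theorem free_of_projective : Module.Free R P := by
  classical
  obtain ⟨κ, L, h1, h2, h3⟩ := Groth.Agent.FlatMor67.exists_countable_decomposition (R := R) P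
  have hint : DirectSum.IsInternal L :=
    DirectSum.isInternal_submodule_of_iSupIndep_of_iSup_eq_top h1 h2
  let e : DirectSum κ (fun k => L k) ≃ₗ[R] P := LinearEquiv.ofBijective (DirectSum.coeLinearMap L) hint
  have hproj : ∀ k, Module.Projective R (L k) := fun k =>
    Module.Projective.of_split (e.toLinearMap ∘ₗ DirectSum.lof R κ (fun k => L k) k)
      (DirectSum.component R κ (fun k => L k) k ∘ₗ e.symm.toLinearMap) (by
        ext1 z; simp)
  have hfree : ∀ k, Module.Free R (L k) := fun k => free_of_countablyGenerated (h3 k)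
  exact Module.Free.of_equiv e

end Groth.Agent.CAlg1
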