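import Groth.Agent.CAlg7.ValNorm
import Mathlib

/-! Noether normalisation adapted to a prime of a polynomial ring. -/

set_option autoImplicit false
set_option linter.style.haveILetI false
universe u

open MvPolynomial

namespace Groth.Agent.CAlg1.RefNorm

variable {k : Type u} [Field k] {n r : ℕ}

/-- a list starting with elements of `q` and ending with representatives of `t` -/
def Adapted (q : Ideal (MvPolynomial (Fin n) k)) (t : Fin r → MvPolynomial (Fin n) k) {M : ℕ}
    (z : Fin (M + r) → MvPolynomial (Fin n) k) : Prop :=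
  (∀ j : Fin M, z (Fin.castAdd r j) ∈ q) ∧ ∀ i : Fin r, z (Fin.natAdd M i) - t i ∈ q

theorem reduce (q : Ideal (MvPolynomial (Fin n) k)) (t : Fin r → MvPolynomial (Fin n) k) :
    ∀ M : ℕ, n ≤ M + r → ∀ z : Fin (M + r) → MvPolynomial (Fin n) k,
      CAlg7.ValNorm.Gen (F := k) z → Adapted q t z → r ≤ n →
      ∃ w : Fin (n - r + r) → MvPolynomial (Fin n) k, CAlg7.ValNorm.Gen (F := k) w ∧ Adapted q t w := by
  intro M
  induction M with
  | zero =>
    intro hn z hz ha hr
    obtain rfl : n = r := by omega
    have : n - n = 0 := Nat.sub_self n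
    rw [this]
    exact ⟨z, hz, ha⟩
  | succ M ih =>
    intro hn z hz ha hr
    rcases Nat.eq_or_lt_of_le hn with heq | hlt
    · have : n - r = M + 1 := by omega
      rw [this]
      exact ⟨z, hz, ha⟩
    let z' : Fin ((M + r) + 1) → MvPolynomial (Fin n) k := fun j => z (j.cast (by omega))
    have hz' : CAlg7.ValNorm.Gen (F := k) z' := by
      refine CAlg7.ValNorm.gen_of_val z z' hz fun L _ φ O _ hO j => ?_
      have := hO (j.cast (by omega))
      simpa [z'] using this
    obtain ⟨e₀, he₀⟩ := CAlg7.ValNorm.nagata z' hz' (by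
      rw [MvPolynomial.ringKrullDim_of_isNoetherianRing, ringKrullDim_eq_zero_of_field, zero_add]
      rw [Nat.card_fin]
      exact_mod_cast (show n < M + r + 1 by omega))
    have hgen := he₀ (e₀ + 1) (by omega)
    have hz0 : z' 0 ∈ q := by
      have h := ha.1 (⟨0, by omega⟩ : Fin (M + 1))
      have e : (Fin.cast (by omega) (0 : Fin ((M + r) + 1)) : Fin (M + 1 + r)) = Fin.castAdd r (⟨0, by omega⟩ : Fin (M + 1)) :=
        Fin.ext rfl
      show z _ ∈ q
      rw [e]
      exact h
    have hp : ∀ j : Fin (M + r), z' 0 ^ (e₀ + 1) ^ (j.succ : ℕ) ∈ q := fun j =>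
      Ideal.pow_mem_of_mem q hz0 _ (Nat.pos_of_ne_zero (pow_ne_zero _ (by omega)))
    refine ih (by omega) _ hgen ⟨fun j => sub_mem ?_ (hp _), fun i => ?_⟩ hr
    · have h := ha.1 j.succ
      have e : (Fin.cast (by omega) (Fin.castAdd r j).succ : Fin (M + 1 + r)) = Fin.castAdd r j.succ := Fin.ext rfl
      show z _ ∈ q
      rw [e]
      exact h
    · have h := ha.2 i
      have e : (Fin.cast (by omega) (Fin.natAdd M i).succ : Fin (M + 1 + r)) = Fin.natAdd (M + 1) i := by
        apply Fin.ext; simp; omega
      show z _ - _ - t i ∈ q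
      rw [e, sub_right_comm]
      exact sub_mem h (hp _)

theorem exists_map (n r : ℕ) (q : Ideal (MvPolynomial (Fin n) k)) [q.IsPrime]
    (hr : Algebra.trdeg k q.ResidueField = r) :
    ∃ φ : MvPolynomial (Fin n) k →ₐ[k] MvPolynomial (Fin n) k, φ.toRingHom.Finite ∧
      q.comap φ = Ideal.span (Set.range fun i : {i : Fin n // r ≤ (i : ℕ)} => MvPolynomial.X (i : Fin n)) := by
  classical
  let S := MvPolynomial (Fin n) k ⧸ q
  let K := q.ResidueField
  obtain ⟨s, hsn, g, hginj, hgint⟩ := exists_integral_inj_algHom_of_quotient q (Ideal.IsPrime.ne_top inferInstance)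
  -- the transcendence degree
  obtain rfl : r = s := by
    let x : Fin s → K := fun i => algebraMap S K (g (X i))
    have hx : AlgebraicIndependent k x := by
      show Function.Injective (aeval x : MvPolynomial (Fin s) k →ₐ[k] K)
      rw [show (aeval x : MvPolynomial (Fin s) k →ₐ[k] K) = (IsScalarTower.toAlgHom k S K).comp g from
        MvPolynomial.algHom_ext fun i => by simp [x]]
      exact (IsFractionRing.injective S K).comp hginj
    have h1 := hx.lift_cardinalMk_le_trdeg
    rw [Cardinal.mk_fintype, Fintype.card_fin, hr, Cardinal.lift_natCast, Cardinal.lift_natCast] at h1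
    have halg : Algebra.IsAlgebraic (Algebra.adjoin k (Set.range x)) K := by
      have hS : ∀ a : S, IsAlgebraic (Algebra.adjoin k (Set.range x)) (algebraMap S K a) := fun a => by
        refine IsIntegral.isAlgebraic ?_
        obtain ⟨P, hPm, hP⟩ := hgint a
        have hmem : ∀ p, algebraMap S K (g p) ∈ Algebra.adjoin k (Set.range x) := fun p => by
          induction p using MvPolynomial.induction_on with
          | C c => rw [← MvPolynomial.algebraMap_eq, AlgHom.commutes, ← IsScalarTower.algebraMap_apply]
                   exact Subalgebra.algebraMap_mem _ c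
          | add u v hu hv => rw [map_add, map_add]; exact add_mem hu hv
          | mul_X u i hu => rw [map_mul, map_mul]; exact mul_mem hu (Algebra.subset_adjoin ⟨i, rfl⟩)
        let j : MvPolynomial (Fin s) k →+* Algebra.adjoin k (Set.range x) :=
          ((algebraMap S K).comp g.toRingHom).codRestrict _ hmem
        refine ⟨P.map j, hPm.map _, ?_⟩
        rw [Polynomial.eval₂_map]
        show P.eval₂ ((algebraMap S K).comp g.toRingHom) (algebraMap S K a) = 0
        rw [← Polynomial.hom_eval₂]
        exact (congrArg _ hP).trans (map_zero _)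
      refine ⟨fun z => ?_⟩
      obtain ⟨a, d, -, rfl⟩ := IsFractionRing.div_surjective (A := S) z
      rw [div_eq_mul_inv]
      exact (hS a).mul (hS d).inv
    have h2 : Algebra.trdeg k K ≤ Cardinal.mk (Set.range x) := Algebra.IsAlgebraic.trdeg_le_cardinalMk k _
    rw [hr] at h2
    have h3 := (Cardinal.lift_le.2 h2).trans (Cardinal.mk_range_le_lift (f := x))
    rw [Cardinal.mk_fintype, Fintype.card_fin, Cardinal.lift_natCast, Cardinal.lift_natCast] at h3
    exact le_antisymm (by exact_mod_cast h3) (by exact_mod_cast h1)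
  -- lifts
  choose t ht using fun i : Fin r => Ideal.Quotient.mk_surjective (I := q) (g (X i))
  have hgt : ∀ p, Ideal.Quotient.mk q (aeval t p) = g p := fun p => by
    induction p using MvPolynomial.induction_on with
    | C c => rw [aeval_C, ← MvPolynomial.algebraMap_eq, AlgHom.commutes]; rfl
    | add u v hu hv => rw [map_add, map_add, map_add, hu, hv]
    | mul_X u i hu => rw [map_mul, map_mul, map_mul, hu, aeval_X, ht]
  choose P hPm hP using fun j : Fin n => hgint (Ideal.Quotient.mk q (X j))
  let w : Fin n → MvPolynomial (Fin n) k := fun j => ((P j).map (aeval t).toRingHom).eval (X j)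
  have hw : ∀ j, w j ∈ q := fun j => by
    rw [← Ideal.Quotient.eq_zero_iff_mem]
    simp only [w]
    rw [Polynomial.eval_map, Polynomial.hom_eval₂]
    refine Eq.trans ?_ (hP j)
    congr 1
    exact RingHom.ext hgt
  let z0 : Fin (n + r) → MvPolynomial (Fin n) k := Fin.append w t
  have hgen : CAlg7.ValNorm.Gen (F := k) z0 := by
    let h := (aeval z0 : MvPolynomial (Fin (n + r)) k →ₐ[k] MvPolynomial (Fin n) k)
    letI : Algebra (MvPolynomial (Fin (n + r)) k) (MvPolynomial (Fin n) k) := h.toRingHom.toAlgebra
    have hX : ∀ j, h.toRingHom.IsIntegralElem (X j) := fun j => by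
      let Q : Polynomial (MvPolynomial (Fin (n + r)) k) :=
        (P j).map (rename (Fin.natAdd n)).toRingHom - Polynomial.C (X (Fin.castAdd r j))
      have hd : 0 < (P j).natDegree := by
        by_contra h0
        have h1 : P j = 1 := Polynomial.eq_one_of_monic_natDegree_zero (hPm j) (by omega)
        exact one_ne_zero (by rw [← hP j, h1, Polynomial.eval₂_one])
      refine ⟨Q, ?_, ?_⟩
      · refine ((hPm j).map _).sub_of_left ?_
        refine Polynomial.degree_C_le.trans_lt ?_
        rw [(hPm j).degree_map, Polynomial.degree_eq_natDegree (hPm j).ne_zero]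
        exact_mod_cast hd
      · rw [Polynomial.eval₂_sub, Polynomial.eval₂_map, Polynomial.eval₂_C]
        have hc : h.toRingHom.comp (rename (Fin.natAdd n)).toRingHom = (aeval t).toRingHom := by
          refine RingHom.ext fun p => ?_
          show aeval z0 (rename (Fin.natAdd n) p) = aeval t p
          rw [aeval_rename]
          congr 1
          exact congrArg aeval (funext fun i => Fin.append_right w t i)
        rw [hc, show h.toRingHom (X (Fin.castAdd r j)) = w j from (aeval_X _ _).trans (Fin.append_left w t j)]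
        exact sub_eq_zero.2 (Polynomial.eval_map _ _).symm
    intro b
    show IsIntegral (MvPolynomial (Fin (n + r)) k) b
    induction b using MvPolynomial.induction_on with
    | C c => exact ⟨Polynomial.X - Polynomial.C (C c), Polynomial.monic_X_sub_C _, by
        show Polynomial.eval₂ h.toRingHom _ _ = 0
        simp [h]⟩
    | add u v hu hv => exact hu.add hv
    | mul_X u i hu => exact hu.mul (hX i)
  obtain ⟨z, hz, ha⟩ := reduce q t n (by omega) z0 hgen
    ⟨fun j => by rw [show z0 (Fin.castAdd r j) = w j from Fin.append_left w t j]; exact hw j,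
     fun i => by rw [show z0 (Fin.natAdd n i) = t i from Fin.append_right w t i, sub_self]; exact q.zero_mem⟩ hsn
  let y : Fin n → MvPolynomial (Fin n) k := fun i =>
    if h : (i : ℕ) < r then z (Fin.natAdd (n - r) ⟨i, h⟩) else z (Fin.castAdd r ⟨(i : ℕ) - r, by omega⟩)
  let φ : MvPolynomial (Fin n) k →ₐ[k] MvPolynomial (Fin n) k := aeval y
  have hφint : φ.toRingHom.IsIntegral := CAlg7.ValNorm.gen_of_val z y hz fun L _ ψ O _ hO j => by
    induction j using Fin.addCases with
    | left j =>
      have := hO ⟨(j : ℕ) + r, by omega⟩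
      rw [show y ⟨(j : ℕ) + r, by omega⟩ = z (Fin.castAdd r j) by
        simp only [y, dif_neg (show ¬ (j : ℕ) + r < r by omega)]
        congr 1
        ext; simp] at this
      exact this
    | right i =>
      have := hO ⟨(i : ℕ), by omega⟩
      rw [show y ⟨(i : ℕ), by omega⟩ = z (Fin.natAdd (n - r) i) by
        simp only [y, dif_pos i.2]] at this
      exact this
  refine ⟨φ, RingHom.IsIntegral.to_finite hφint ?_, ?_⟩
  · exact RingHom.FiniteType.of_comp_finiteType (f := algebraMap k (MvPolynomial (Fin n) k))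
      (by rw [show φ.toRingHom.comp (algebraMap k _) = algebraMap k _ from RingHom.ext φ.commutes]; exact RingHom.finiteType_algebraMap.mpr inferInstance)
  let Z := Ideal.span (Set.range fun i : {i : Fin n // r ≤ (i : ℕ)} => (X (i : Fin n) : MvPolynomial (Fin n) k))
  have hy1 : ∀ i : {i : Fin n // r ≤ (i : ℕ)}, φ (X (i : Fin n)) ∈ q := fun i => by
    simp only [φ, aeval_X, y, dif_neg (not_lt.2 i.2)]
    exact ha.1 _
  have hy2 : ∀ i : Fin r, Ideal.Quotient.mk q (y ⟨i, by omega⟩) = g (X i) := fun i => by
    simp only [y, dif_pos i.2]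
    rw [← ht i]
    exact Ideal.Quotient.eq.2 (ha.2 i)
  refine le_antisymm (fun p hp => ?_) (Ideal.span_le.2 fun _ ⟨i, hi⟩ => hi ▸ hy1 i)
  -- reduce modulo the last variables
  let e : MvPolynomial (Fin r) k →ₐ[k] MvPolynomial (Fin n) k := rename (fun i => ⟨i, by omega⟩)
  have hred : ∀ p, ∃ p', p - e p' ∈ Z := fun p => by
    induction p using MvPolynomial.induction_on with
    | C c => exact ⟨C c, by simp [e]⟩
    | add u v hu hv =>
      obtain ⟨u', hu'⟩ := hu; obtain ⟨v', hv'⟩ := hv
      exact ⟨u' + v', by rw [map_add, add_sub_add_comm]; exact add_mem hu' hv'⟩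
    | mul_X u i hu =>
      obtain ⟨u', hu'⟩ := hu
      by_cases hi : (i : ℕ) < r
      · refine ⟨u' * X ⟨i, hi⟩, ?_⟩
        rw [map_mul, show e (X ⟨(i : ℕ), hi⟩) = X i from rename_X _ _, ← sub_mul]
        exact Ideal.mul_mem_right _ _ hu'
      · exact ⟨0, by rw [map_zero, sub_zero]; exact Ideal.mul_mem_left _ _ (Ideal.subset_span ⟨⟨i, not_lt.1 hi⟩, rfl⟩)⟩
  obtain ⟨p', hp'⟩ := hred p
  have h1 : φ (p - e p') ∈ q := (Ideal.span_le.2 fun _ ⟨i, hi⟩ => hi ▸ hy1 i : Z ≤ q.comap φ) hp'
  have h2 : Ideal.Quotient.mk q (φ (e p')) = g p' := by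
    have : ((Ideal.Quotient.mkₐ k q).comp φ).comp e = g := MvPolynomial.algHom_ext fun i => by
      show Ideal.Quotient.mk q (φ (e (X i))) = g (X i)
      rw [show e (X i) = X (⟨i, by omega⟩ : Fin n) from rename_X _ _, aeval_X]
      exact hy2 i
    exact AlgHom.congr_fun this p'
  have h3 : g p' = 0 := by
    rw [← h2, Ideal.Quotient.eq_zero_iff_mem]
    have h4 : φ p - φ (p - e p') ∈ q := sub_mem hp h1
    rwa [map_sub, sub_sub_cancel] at h4
  rw [hginj (h3.trans (map_zero g).symm), map_zero, sub_zero] at hp'
  exact hp'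

end Groth.Agent.CAlg1.RefNorm
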