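import Mathlib

/-! All permutations of a sequence are regular iff `fᵢ xᵢ` is regular in the polynomial ring. -/

set_option autoImplicit false
universe u

open MvPolynomial

namespace Groth.Agent.CAlg1.RegPerm

variable {R : Type u} [CommRing R] {r : ℕ}

/-- `a` is a nonzerodivisor modulo `I` -/
def NZD (I : Ideal R) (a : R) : Prop := ∀ c, a * c ∈ I → c ∈ I

theorem isSMulRegular_quot_iff (I : Ideal R) (a : R) :
    IsSMulRegular (R ⧸ (I • ⊤ : Submodule R R)) a ↔ NZD I a := by
  rw [show (I • ⊤ : Submodule R R) = I from by rw [smul_eq_mul, Ideal.mul_top]]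
  constructor
  · intro h c hc
    rw [← Ideal.Quotient.eq_zero_iff_mem]
    refine h ?_
    show a • Ideal.Quotient.mk I c = a • 0
    rw [smul_zero, Algebra.smul_def, Ideal.Quotient.algebraMap_eq, ← map_mul, Ideal.Quotient.eq_zero_iff_mem]
    exact hc
  · intro h x y hxy
    obtain ⟨x, rfl⟩ := Ideal.Quotient.mk_surjective x
    obtain ⟨y, rfl⟩ := Ideal.Quotient.mk_surjective y
    refine Ideal.Quotient.eq.2 (h _ ?_)
    rw [mul_sub]
    change a • Ideal.Quotient.mk I x = a • Ideal.Quotient.mk I y at hxy
    rw [Algebra.smul_def, Algebra.smul_def, Ideal.Quotient.algebraMap_eq, ← map_mul, ← map_mul, Ideal.Quotient.eq] at hxy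
    exact hxy

theorem isWeaklyRegular_ofFn_iff (g : Fin r → R) :
    RingTheory.Sequence.IsWeaklyRegular R (List.ofFn g) ↔
      ∀ i : Fin r, NZD (Ideal.span (g '' {j | j < i})) (g i) := by
  rw [RingTheory.Sequence.isWeaklyRegular_iff]
  have hset : ∀ m : ℕ, m < r → Ideal.ofList ((List.ofFn g).take m) = Ideal.span (g '' {j | (j : ℕ) < m}) := by
    intro m hm
    unfold Ideal.ofList
    congr 1
    ext x
    simp only [List.mem_take_iff_getElem, List.getElem_ofFn, List.length_ofFn, Set.mem_setOf_eq, Set.mem_image]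
    constructor
    · rintro ⟨j, hj, rfl⟩
      exact ⟨⟨j, by omega⟩, by simp at hj ⊢; omega, rfl⟩
    · rintro ⟨j, hj, rfl⟩
      exact ⟨j, by simp; omega, rfl⟩
  constructor
  · intro h i
    have := h i (by simp)
    rw [hset i i.2, isSMulRegular_quot_iff] at this
    simp only [List.getElem_ofFn, Fin.eta] at this
    exact this
  · intro h m hm
    simp only [List.length_ofFn] at hm
    rw [hset m hm, isSMulRegular_quot_iff, List.getElem_ofFn]
    exact h ⟨m, hm⟩

/-- the combinatorial condition -/
def Cond (f : Fin r → R) : Prop :=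
  ∀ (i : Fin r) (J : Finset (Fin r)), (∀ j ∈ J, j < i) → NZD (Ideal.span (f '' J)) (f i)

theorem swap {I : Ideal R} {x y : R} (hx : NZD I x) (hy : NZD I y) (hxy : NZD (I ⊔ Ideal.span {x}) y) :
    NZD (I ⊔ Ideal.span {y}) x := by
  intro a ha
  obtain ⟨p, hp, q, hq, hpq⟩ := Submodule.mem_sup.1 ha
  obtain ⟨b, rfl⟩ := Ideal.mem_span_singleton'.1 hq
  have h1 : y * b ∈ I ⊔ Ideal.span {x} := Submodule.mem_sup.2
    ⟨-p, neg_mem hp, x * a, Ideal.mul_mem_right _ _ (Ideal.mem_span_singleton_self x), by
      rw [← hpq]; ring⟩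
  obtain ⟨p', hp', q', hq', hpq'⟩ := Submodule.mem_sup.1 (hxy b h1)
  obtain ⟨c, rfl⟩ := Ideal.mem_span_singleton'.1 hq'
  have h2 : x * (a - y * c) ∈ I := by
    have : x * (a - y * c) = p + y * p' := by
      rw [mul_sub, ← hpq, ← hpq']; ring
    rw [this]
    exact add_mem hp (Ideal.mul_mem_left _ _ hp')
  exact Submodule.mem_sup.2 ⟨a - y * c, hx _ h2, y * c,
    Ideal.mul_mem_right _ _ (Ideal.mem_span_singleton_self y), by ring⟩

theorem nzd_of_cond {f : Fin r → R} (h : Cond f) :
    ∀ (J : Finset (Fin r)) (i : Fin r), i ∉ J → NZD (Ideal.span (f '' J)) (f i) := by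
  intro J
  induction J using Finset.strongInduction with
  | _ J ih =>
    intro i hi
    by_cases hJ : ∀ j ∈ J, j < i
    · exact h i J hJ
    simp only [not_forall, not_lt] at hJ
    obtain ⟨j0, hj0, hij0⟩ := hJ
    have hne : J.Nonempty := ⟨j0, hj0⟩
    let j := J.max' hne
    have hj : j ∈ J := J.max'_mem hne
    have hij : i < j := lt_of_le_of_ne (hij0.trans (J.le_max' j0 hj0)) fun e => hi (e ▸ hj)
    let J' := J.erase j
    have hlt : ∀ l ∈ J', l < j := fun l hl =>
      lt_of_le_of_ne (J.le_max' l (Finset.mem_of_mem_erase hl)) (Finset.ne_of_mem_erase hl)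
    have hspan : ∀ (K : Finset (Fin r)) (l : Fin r),
        Ideal.span (f '' ↑(insert l K)) = Ideal.span (f '' ↑K) ⊔ Ideal.span {f l} := fun K l => by
      rw [Finset.coe_insert, Set.image_insert_eq, Ideal.span_insert, sup_comm]
    have key := swap (ih J' (Finset.erase_ssubset hj) i fun hm => hi (Finset.mem_of_mem_erase hm))
      (h j J' hlt) (hspan J' i ▸ h j (insert i J') (fun l hl => by
        rcases Finset.mem_insert.1 hl with rfl | hl
        · exact hij
        · exact hlt l hl))
    rw [← hspan, Finset.insert_erase hj] at key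
    exact key

theorem perm_iff_cond (f : Fin r → R) :
    (∀ σ : Equiv.Perm (Fin r), RingTheory.Sequence.IsWeaklyRegular R (List.ofFn (f ∘ σ))) ↔ Cond f := by
  classical
  constructor
  · intro h i J hJ
    have hJr : J.card < r := by
      have h1 : (insert i J).card ≤ r := (Finset.card_le_univ _).trans_eq (Fintype.card_fin r)
      rw [Finset.card_insert_of_notMem fun hm => lt_irrefl i (hJ i hm)] at h1
      omega
    let e : {x : Fin r // (x : ℕ) < J.card} ≃ {x // x ∈ J} := Fintype.equivOfCardEq (by
      rw [Fintype.card_coe, Fintype.card_congr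
        ({ toFun := fun x => ⟨x.1.1, x.2⟩, invFun := fun x => ⟨⟨x.1, x.2.trans hJr⟩, x.2⟩
           left_inv := fun _ => rfl, right_inv := fun _ => rfl } :
          {x : Fin r // (x : ℕ) < J.card} ≃ Fin J.card), Fintype.card_fin])
    let σ0 := e.extendSubtype
    let m : Fin r := ⟨J.card, hJr⟩
    have hm : σ0 m ∉ J := e.extendSubtype_not_mem m (lt_irrefl _)
    let σ := σ0.trans (Equiv.swap (σ0 m) i)
    have hσm : σ m = i := Equiv.swap_apply_left _ _
    have hσ : σ '' {j | j < m} = ↑J := by
      have hfix : ∀ y ∈ J, Equiv.swap (σ0 m) i y = y := fun y hy =>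
        Equiv.swap_apply_of_ne_of_ne (fun e => hm (e ▸ hy)) fun e => lt_irrefl i (hJ i (e ▸ hy))
      ext y
      constructor
      · rintro ⟨j, hj, rfl⟩
        have h1 : σ0 j ∈ J := e.extendSubtype_mem j hj
        show Equiv.swap (σ0 m) i (σ0 j) ∈ J
        rw [hfix _ h1]; exact h1
      · intro hy
        refine ⟨e.symm ⟨y, hy⟩, (e.symm ⟨y, hy⟩).2, ?_⟩
        show Equiv.swap (σ0 m) i (σ0 (e.symm ⟨y, hy⟩).1) = y
        rw [show σ0 (e.symm ⟨y, hy⟩).1 = y from by
          rw [Equiv.extendSubtype_apply_of_mem e _ (e.symm ⟨y, hy⟩).2]; simp, hfix y hy]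
    have := (isWeaklyRegular_ofFn_iff _).1 (h σ) m
    rw [Set.image_comp, hσ, Function.comp_apply, hσm] at this
    exact this
  · intro h σ
    rw [isWeaklyRegular_ofFn_iff]
    intro i
    have hmem : σ i ∉ (Finset.univ.filter (· < i)).image σ := by simp
    have := nzd_of_cond h _ (σ i) hmem
    rw [Set.image_comp, Function.comp_apply]
    convert! this using 3
    simp

theorem supp_add (e : Fin r →₀ ℕ) (i : Fin r) : ((e + Finsupp.single i 1).support : Set (Fin r)) = insert i ↑e.support := by
  ext j
  simp [Finsupp.single_apply]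
  by_cases h : i = j
  · simp [h]
  · simp [h, Ne.symm h]

/-- membership in the monomial-like ideal -/
theorem mem_iff (f : Fin r → R) (T : Set (Fin r)) (p : MvPolynomial (Fin r) R) :
    p ∈ Ideal.span ((fun j => C (f j) * X j) '' T) ↔
      ∀ e, coeff e p ∈ Ideal.span (f '' (T ∩ ↑e.support)) := by
  classical
  constructor
  · intro hp
    induction hp using Submodule.span_induction with
    | mem x hx =>
      obtain ⟨j, hj, rfl⟩ := hx
      intro e
      rw [coeff_C_mul, coeff_X']
      split_ifs with he
      · rw [mul_one]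
        exact Ideal.subset_span ⟨j, ⟨hj, by rw [← he]; simp⟩, rfl⟩
      · simp
    | zero => simp
    | add x y _ _ hx hy => exact fun e => by rw [coeff_add]; exact add_mem (hx e) (hy e)
    | smul c x _ hx =>
      intro e
      rw [smul_eq_mul, coeff_mul]
      refine Ideal.sum_mem _ fun uv huv => Ideal.mul_mem_left _ _ ?_
      refine Ideal.span_mono (Set.image_mono (Set.inter_subset_inter_right _ ?_)) (hx uv.2)
      rw [Finset.HasAntidiagonal.mem_antidiagonal] at huv
      intro j hj
      simp only [Finset.mem_coe, Finsupp.mem_support_iff] at hj ⊢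
      rw [← huv]
      simp [hj]
  · intro h
    rw [p.as_sum]
    refine Ideal.sum_mem _ fun e _ => ?_
    have key : ∀ c ∈ Ideal.span (f '' (T ∩ ↑e.support)),
        monomial e c ∈ Ideal.span ((fun j => C (f j) * X j) '' T) := by
      intro c hc
      induction hc using Submodule.span_induction with
      | mem x hx =>
        obtain ⟨j, ⟨hjT, hje⟩, rfl⟩ := hx
        have he : e - Finsupp.single j 1 + Finsupp.single j 1 = e := by
          refine tsub_add_cancel_of_le fun l => ?_
          have := Finsupp.mem_support_iff.1 (Finset.mem_coe.1 hje)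
          rw [Finsupp.single_apply]
          split_ifs with hl
          · subst hl; omega
          · exact Nat.zero_le _
        rw [← he, show monomial (e - Finsupp.single j 1 + Finsupp.single j 1) (f j) =
          monomial (e - Finsupp.single j 1) 1 * (C (f j) * X j) by
            rw [C_mul_X_eq_monomial, monomial_mul, one_mul]]
        exact Ideal.mul_mem_left _ _ (Ideal.subset_span ⟨j, hjT, rfl⟩)
      | zero => simp
      | add x y _ _ hx hy => rw [map_add]; exact add_mem hx hy
      | smul c x _ hx => rw [smul_eq_mul, ← C_mul_monomial]; exact Ideal.mul_mem_left _ _ hx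
    exact key _ (h e)

theorem cond_iff_poly (f : Fin r → R) :
    Cond f ↔ RingTheory.Sequence.IsWeaklyRegular (MvPolynomial (Fin r) R)
      (List.ofFn fun i => C (f i) * X i) := by
  classical
  rw [isWeaklyRegular_ofFn_iff]
  constructor
  · intro h i p hp
    rw [mem_iff] at hp ⊢
    intro e
    have h1 := hp (e + Finsupp.single i 1)
    rw [mul_assoc, coeff_C_mul, add_comm e, coeff_X_mul, add_comm, supp_add,
      Set.inter_insert_of_notMem (by simp)] at h1
    have := h i ((Finset.univ.filter (· < i)).filter (· ∈ e.support)) (by simp; exact fun j hj _ => hj) (coeff e p)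
    rw [show (↑((Finset.univ.filter (· < i)).filter (· ∈ e.support)) : Set (Fin r)) = {j | j < i} ∩ ↑e.support by
      ext; simp] at this
    exact this h1
  · intro h i J hJ a ha
    let e : Fin r →₀ ℕ := Finsupp.indicator J fun _ _ => 1
    have he : e.support = J := by
      ext j
      simp [e, Finsupp.indicator_apply]
    have hT : {j | j < i} ∩ (↑J : Set (Fin r)) = ↑J := Set.inter_eq_right.2 fun j hj => hJ j hj
    have h1 : monomial e a ∈ Ideal.span ((fun j => C (f j) * X j) '' {j | j < i}) := by
      refine h i _ ?_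
      rw [mem_iff]
      intro e'
      rw [C_mul_X_eq_monomial, monomial_mul, coeff_monomial]
      split_ifs with hee
      · rw [← hee, add_comm, supp_add, Set.inter_insert_of_notMem (by simp), he, hT]
        exact ha
      · simp
    have := (mem_iff f _ _).1 h1 e
    rw [coeff_monomial, if_pos rfl, he, hT] at this
    exact this

theorem perm_iff_polynomial (f : Fin r → R) (hf : Ideal.span (Set.range f) ≠ ⊤) :
    (∀ σ : Equiv.Perm (Fin r), RingTheory.Sequence.IsRegular R (List.ofFn (f ∘ σ))) ↔
      RingTheory.Sequence.IsRegular (MvPolynomial (Fin r) R) (List.ofFn fun i => C (f i) * X i) := by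
  have h1 : ∀ σ : Equiv.Perm (Fin r), (⊤ : Submodule R R) ≠ Ideal.ofList (List.ofFn (f ∘ σ)) • ⊤ := fun σ h => by
    rw [smul_eq_mul, Ideal.mul_top] at h
    apply hf
    rw [h]
    unfold Ideal.ofList
    congr 1
    ext x
    simp only [Set.mem_setOf_eq, List.mem_ofFn, Set.mem_range, Function.comp_apply]
    exact ⟨fun ⟨i, hi⟩ => ⟨σ.symm i, by rw [σ.apply_symm_apply]; exact hi⟩, fun ⟨i, hi⟩ => ⟨σ i, hi⟩⟩
  have h2 : (⊤ : Submodule (MvPolynomial (Fin r) R) (MvPolynomial (Fin r) R)) ≠
      Ideal.ofList (List.ofFn fun i => C (f i) * X i) • ⊤ := fun h => by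
    rw [smul_eq_mul, Ideal.mul_top] at h
    have hle : Ideal.ofList (List.ofFn fun i => C (f i) * X i) ≤ RingHom.ker (constantCoeff (σ := Fin r) (R := R)) := by
      refine Ideal.span_le.2 fun x hx => ?_
      obtain ⟨i, rfl⟩ := List.mem_ofFn.1 hx
      simp [RingHom.mem_ker]
    have h0 : (1 : MvPolynomial (Fin r) R) ∈ RingHom.ker (constantCoeff (σ := Fin r) (R := R)) := by
      exact hle (h ▸ Submodule.mem_top)
    have hnt : Nontrivial R := by
      by_contra hc
      rw [not_nontrivial_iff_subsingleton] at hc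
      exact hf (Ideal.eq_top_iff_one _ |>.2 (by rw [Subsingleton.elim (1 : R) 0]; exact zero_mem _))
    exact (one_ne_zero : (1 : R) ≠ 0) (by simpa [RingHom.mem_ker] using h0)
  rw [RingTheory.Sequence.isRegular_iff, and_iff_left h2, ← cond_iff_poly, ← perm_iff_cond]
  exact forall_congr' fun σ => by rw [RingTheory.Sequence.isRegular_iff, and_iff_left (h1 σ)]

end Groth.Agent.CAlg1.RegPerm
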