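import Groth.Agent.EGA4H10.SepFamily
import Mathlib

/-! Separating families of subrings for polynomial rings. -/

set_option autoImplicit false
set_option linter.style.haveILetI false
universe u

open Polynomial
open Groth.Agent.EGA4H10 (SepFamily)

namespace Groth.Agent.CAlg1.SepPoly

variable (p : ℕ) {R : Type u} [CommRing R]

/-- polynomials with coefficients in `S` and exponents divisible by `p` -/
def polySub (S : Subring R) : Subring R[X] where
  carrier := {q | ∀ n, q.coeff n ∈ S ∧ (q.coeff n ≠ 0 → p ∣ n)}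
  zero_mem' n := by simp
  one_mem' n := by
    rw [coeff_one]
    split_ifs with h
    · exact ⟨one_mem _, fun _ => by simp [h]⟩
    · exact ⟨zero_mem _, fun h' => absurd rfl h'⟩
  add_mem' {a b} ha hb n := ⟨by rw [coeff_add]; exact add_mem (ha n).1 (hb n).1, fun h => by
    by_cases h1 : a.coeff n = 0
    · exact (hb n).2 (by simpa [h1] using h)
    · exact (ha n).2 h1⟩
  neg_mem' {a} ha n := ⟨by rw [coeff_neg]; exact neg_mem (ha n).1, fun h => (ha n).2 (by simpa using h)⟩
  mul_mem' {a b} ha hb n := by
    rw [coeff_mul]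
    refine ⟨sum_mem fun x _ => mul_mem (ha x.1).1 (hb x.2).1, fun h => ?_⟩
    obtain ⟨x, hx, hne⟩ := Finset.exists_ne_zero_of_sum_ne_zero h
    rw [← Finset.HasAntidiagonal.mem_antidiagonal.1 hx]
    exact dvd_add ((ha x.1).2 (left_ne_zero_of_mul hne)) ((hb x.2).2 (right_ne_zero_of_mul hne))

theorem monomial_mem_polySub {S : Subring R} {n : ℕ} {c : R} (hc : c ∈ S) (hn : c ≠ 0 → p ∣ n) :
    monomial n c ∈ polySub p S := fun m => by
  rw [coeff_monomial]
  split_ifs with h
  · subst h; exact ⟨hc, hn⟩
  · exact ⟨zero_mem _, fun h' => absurd rfl h'⟩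

theorem saturated_polySub [IsDomain R] {S : Subring R}
    (hS : ∀ h v : R, v ∈ S → v ≠ 0 → h * v ∈ S → h ∈ S) :
    ∀ h v : R[X], v ∈ polySub p S → v ≠ 0 → h * v ∈ polySub p S → h ∈ polySub p S := by
  intro h
  induction hk : h.support.card using Nat.strong_induction_on generalizing h with
  | _ k ih =>
    intro v hv hv0 hhv
    by_cases h0 : h = 0
    · rw [h0]; exact zero_mem _
    have hlc : (h * v).coeff (h.natDegree + v.natDegree) = h.leadingCoeff * v.leadingCoeff :=
      coeff_mul_degree_add_degree h v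
    have hne : h.leadingCoeff * v.leadingCoeff ≠ 0 :=
      mul_ne_zero (leadingCoeff_ne_zero.2 h0) (leadingCoeff_ne_zero.2 hv0)
    have hd : p ∣ h.natDegree := by
      have h1 := (hhv _).2 (by rw [hlc]; exact hne)
      exact (Nat.dvd_add_iff_left ((hv v.natDegree).2 (leadingCoeff_ne_zero.2 hv0))).2 h1
    have hc : h.leadingCoeff ∈ S :=
      hS _ _ (hv v.natDegree).1 (leadingCoeff_ne_zero.2 hv0) (hlc ▸ (hhv _).1)
    have hlead : monomial h.natDegree h.leadingCoeff ∈ polySub p S := monomial_mem_polySub p hc fun _ => hd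
    have her : h.eraseLead * v ∈ polySub p S := by
      have : h.eraseLead * v = h * v - monomial h.natDegree h.leadingCoeff * v := by
        rw [← sub_mul, ← self_sub_monomial_natDegree_leadingCoeff]
      rw [this]
      exact sub_mem hhv (mul_mem hlead hv)
    have := ih _ (hk ▸ eraseLead_support_card_lt h0) h.eraseLead rfl v hv hv0 her
    rw [← eraseLead_add_monomial_natDegree_leadingCoeff h]
    exact add_mem this hlead

variable [Fact p.Prime]

theorem finite_polySub {S : Subring R} [Module.Finite S R] : Module.Finite (polySub p S) R[X] := by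
  classical
  obtain ⟨m, b, hb⟩ := Module.Finite.exists_fin (R := S) (M := R)
  refine ⟨⟨Finset.univ.image fun x : Fin p × Fin m => monomial (x.1 : ℕ) (b x.2), ?_⟩⟩
  rw [Finset.coe_image, Finset.coe_univ, Set.image_univ]
  refine Submodule.eq_top_iff'.2 fun q => ?_
  rw [q.as_sum_support]
  refine Submodule.sum_mem _ fun n _ => ?_
  obtain ⟨s, hs⟩ := (Submodule.mem_span_range_iff_exists_fun S).1 (hb ▸ Submodule.mem_top : q.coeff n ∈ _)
  rw [← hs, map_sum]
  refine Submodule.sum_mem _ fun l _ => ?_
  have hp : 0 < p := (Fact.out : p.Prime).pos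
  have hmem : monomial (p * (n / p)) (s l : R) ∈ polySub p S :=
    monomial_mem_polySub p (s l).2 fun _ => dvd_mul_right p _
  have h1 : monomial n (s l • b l) =
      (⟨_, hmem⟩ : polySub p S) • (monomial (n % p) (b l) : R[X]) := by
    show _ = monomial (p * (n / p)) (s l : R) * monomial (n % p) (b l)
    rw [monomial_mul_monomial, Nat.div_add_mod]
    rfl
  rw [h1]
  exact Submodule.smul_mem _ _ (Submodule.subset_span ⟨(⟨n % p, Nat.mod_lt _ hp⟩, l), rfl⟩)

/-- the family on a polynomial ring in one variable -/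
theorem nonempty_polynomial [IsDomain R] [CharP R p] (F : SepFamily p R) : Nonempty (SepFamily p R[X]) := by
  classical
  have hp : 0 < p := (Fact.out : p.Prime).pos
  refine ⟨{
    ι := F.ι
    nonempty := F.nonempty
    S := fun i => polySub p (F.S i)
    directed := fun a b => ?_
    finite := fun i => have := F.finite i; finite_polySub p
    pow_mem := fun i q => ?_
    saturated := fun i => saturated_polySub p (F.saturated i)
    exists_pow := fun h hh => ?_ }⟩
  · obtain ⟨c, hc⟩ := F.directed a b
    exact ⟨c, le_inf (fun f hf n => ⟨(hc.trans inf_le_left) (hf n).1, (hf n).2⟩)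
      (fun f hf n => ⟨(hc.trans inf_le_right) (hf n).1, (hf n).2⟩)⟩
  · rw [q.as_sum_support, sum_pow_char]
    refine sum_mem fun n _ => ?_
    rw [monomial_pow]
    exact monomial_mem_polySub p (F.pow_mem i _) fun _ => dvd_mul_left p n
  · choose g hg using fun n => F.exists_pow (h.coeff n) fun i => (hh i n).1
    refine ⟨∑ n ∈ h.support, monomial (n / p) (g n), ?_⟩
    obtain ⟨i⟩ := F.nonempty
    rw [sum_pow_char]
    conv_rhs => rw [h.as_sum_support]
    refine Finset.sum_congr rfl fun n hn => ?_
    rw [monomial_pow, hg, Nat.div_mul_cancel ((hh i n).2 (mem_support_iff.1 hn))]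

omit [Fact p.Prime] in
/-- transport along a ring isomorphism -/
theorem nonempty_of_equiv {R' : Type u} [CommRing R'] (e : R ≃+* R') (F : SepFamily p R) :
    Nonempty (SepFamily p R') := by
  classical
  refine ⟨{
    ι := F.ι
    nonempty := F.nonempty
    S := fun i => (F.S i).map e.toRingHom
    directed := fun a b => ?_
    finite := fun i => ?_
    pow_mem := fun i r => ⟨e.symm r ^ p, F.pow_mem i _, by simp⟩
    saturated := fun i h v hv hv0 hhv => ?_
    exists_pow := fun h hh => ?_ }⟩
  · obtain ⟨c, hc⟩ := F.directed a b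
    exact ⟨c, le_inf ((Subring.gc_map_comap e.toRingHom).monotone_l (hc.trans inf_le_left)) ((Subring.gc_map_comap e.toRingHom).monotone_l (hc.trans inf_le_right))⟩
  · have := F.finite i
    obtain ⟨m, b, hb⟩ := Module.Finite.exists_fin (R := F.S i) (M := R)
    refine ⟨⟨Finset.univ.image (e ∘ b), ?_⟩⟩
    rw [Finset.coe_image, Finset.coe_univ, Set.image_univ]
    refine Submodule.eq_top_iff'.2 fun q => ?_
    obtain ⟨s, hs⟩ := (Submodule.mem_span_range_iff_exists_fun (F.S i)).1 (hb ▸ Submodule.mem_top : e.symm q ∈ _)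
    rw [← e.apply_symm_apply q, ← hs, map_sum]
    refine Submodule.sum_mem _ fun l _ => ?_
    rw [Subring.smul_def, smul_eq_mul, map_mul]
    exact Submodule.smul_mem _ (⟨e (s l), _, (s l).2, rfl⟩ : (F.S i).map e.toRingHom) (Submodule.subset_span ⟨l, rfl⟩)
  · obtain ⟨v', hv', rfl⟩ := hv
    obtain ⟨w, hw, hwe⟩ := hhv
    refine ⟨e.symm h, F.saturated i _ v' hv' (fun h0 => hv0 (by simp [h0])) ?_, by simp⟩
    have : e.symm h * v' = w := e.injective (by rw [map_mul, e.apply_symm_apply]; exact hwe.symm)
    rw [this]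
    exact hw
  · obtain ⟨g, hg⟩ := F.exists_pow (e.symm h) fun i => by
      obtain ⟨w, hw, hwe⟩ := hh i
      rw [← hwe]; simpa using hw
    exact ⟨e g, by rw [← map_pow, hg, e.apply_symm_apply]⟩

/-- the family on polynomial rings in several variables -/
theorem nonempty_mvPolynomial [IsDomain R] [CharP R p] (F : SepFamily p R) :
    ∀ n : ℕ, Nonempty (SepFamily p (MvPolynomial (Fin n) R)) := by
  intro n
  induction n with
  | zero => exact nonempty_of_equiv p (MvPolynomial.isEmptyRingEquiv R (Fin 0)).symm F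
  | succ n ih =>
    obtain ⟨G⟩ := ih
    have : CharP (MvPolynomial (Fin n) R) p := inferInstance
    obtain ⟨G'⟩ := nonempty_polynomial p G
    exact nonempty_of_equiv p (MvPolynomial.finSuccEquiv R n).symm.toRingEquiv G'

end Groth.Agent.CAlg1.SepPoly
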