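import Groth.Agent.CAlgH2.LocalDimField
import Groth.Agent.Var76.KaehlerFibre
import Groth.Agent.CAlg5.SmoothRegular
import Groth.Agent.Ega11.RegLocal

/-! Smoothness at a point of an algebra over a field and the rank of the differentials. -/

set_option autoImplicit false
universe u

open TensorProduct
open scoped nonZeroDivisors

namespace Groth.Agent.CAlg1

open CAlgH2 KaehlerDifferential

variable (k : Type u) [Field k]

theorem trdegQuot_of_away {S E : Type u} [CommRing S] [Algebra k S] [CommRing E] [Algebra k E]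
    [Algebra S E] [IsScalarTower k S E] (f : S) [IsLocalization.Away f E] (Q : Ideal E) [Q.IsPrime] :
    trdegQuot k (Q.comap (algebraMap S E)) = trdegQuot k Q := by
  let P := Q.comap (algebraMap S E)
  have hfQ : algebraMap S E f ∉ Q := fun h => Ideal.IsPrime.ne_top ‹_›
    (Ideal.eq_top_of_isUnit_mem _ h (IsLocalization.Away.algebraMap_isUnit f))
  let : Algebra (S ⧸ P) (E ⧸ Q) := (Ideal.quotientMap Q (algebraMap S E) le_rfl).toAlgebra
  have : IsScalarTower k (S ⧸ P) (E ⧸ Q) := IsScalarTower.of_algebraMap_eq fun c => by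
    show Ideal.Quotient.mk Q (algebraMap k E c) = Ideal.Quotient.mk Q (algebraMap S E (algebraMap k S c))
    rw [← IsScalarTower.algebraMap_apply k S E]
  have hinj : Function.Injective (algebraMap (S ⧸ P) (E ⧸ Q)) := Ideal.quotientMap_injective
  have : FaithfulSMul (S ⧸ P) (E ⧸ Q) := (faithfulSMul_iff_algebraMap_injective _ _).mpr hinj
  have : Algebra.IsAlgebraic (S ⧸ P) (E ⧸ Q) := ⟨fun x => by
    obtain ⟨e, rfl⟩ := Ideal.Quotient.mk_surjective x
    obtain ⟨a, ⟨s, hs⟩, rfl⟩ := IsLocalization.exists_mk'_eq (Submonoid.powers f) e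
    have hsP : Ideal.Quotient.mk P s ≠ 0 := by
      rw [Ne, Ideal.Quotient.eq_zero_iff_mem]
      obtain ⟨n, rfl⟩ := hs
      intro h
      exact hfQ (Ideal.IsPrime.mem_of_pow_mem ‹_› n (by rw [← map_pow]; exact h))
    have hspec := congrArg (Ideal.Quotient.mk Q) (IsLocalization.mk'_spec E a (⟨s, hs⟩ : Submonoid.powers f))
    rw [map_mul] at hspec
    refine ⟨Polynomial.C (Ideal.Quotient.mk P s) * Polynomial.X - Polynomial.C (Ideal.Quotient.mk P a), ?_, ?_⟩
    · intro h
      have := congrArg (fun p => Polynomial.coeff p 1) h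
      simp at this
      exact hsP this
    · rw [map_sub, map_mul, Polynomial.aeval_C, Polynomial.aeval_X, Polynomial.aeval_C, mul_comm, sub_eq_zero]
      exact hspec⟩
  rw [trdegQuot, trdegQuot, ← trdeg_add_eq k (S ⧸ P) (A := E ⧸ Q), trdeg_eq_zero (R := S ⧸ P), add_zero]

theorem trdegQuot_le_of_span {C : Type u} [CommRing C] [Algebra k C] [Algebra.FiniteType k C] {r : ℕ}
    (v : Fin r → Ω[C⁄k]) (hv : Submodule.span C (Set.range v) = ⊤) (P : Ideal C) [P.IsPrime] :
    trdegQuot k P ≤ r := by
  have h := Var76.KaehlerFibre.trdeg_residueField_le k C v P 1 (fun h => Ideal.IsPrime.ne_top ‹_› (P.eq_top_iff_one.mpr h))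
    (fun ω => by rw [hv]; trivial)
  have : Algebra.IsAlgebraic (C ⧸ P) P.ResidueField := IsLocalization.isAlgebraic _ (nonZeroDivisors _)
  rw [← trdeg_add_eq k (C ⧸ P) (A := P.ResidueField), trdeg_eq_zero (R := C ⧸ P), add_zero] at h
  simpa [trdegQuot] using Cardinal.toNat_le_toNat h Cardinal.natCast_lt_aleph0

theorem le_dimAt_of_isSmoothAt {S : Type u} [CommRing S] [Algebra k S] [Algebra.FiniteType k S]
    (q : Ideal S) [q.IsPrime] [Algebra.IsSmoothAt k q] :
    Module.finrank q.ResidueField (q.ResidueField ⊗[S] Ω[S⁄k]) ≤ dimAt k q := by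
  have : Algebra.FinitePresentation k S := Algebra.FinitePresentation.of_finiteType.mp ‹_›
  obtain ⟨f, hf, hst⟩ := Algebra.IsSmoothAt.exists_notMem_isStandardSmooth (R := k) q
  have h' : (algebraMap k (Localization.Away f)).IsStandardSmooth :=
    RingHom.isStandardSmooth_algebraMap.2 hst
  obtain ⟨n, g, hg, het⟩ := h'.exists_etale_mvPolynomial
  algebraize [g]
  let B := MvPolynomial (Fin n) k
  let E := Localization.Away f
  have : Algebra.Etale B E := het
  have : IsScalarTower k B E := IsScalarTower.of_algebraMap_eq' hg.symm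
  have hu : IsUnit (algebraMap S q.ResidueField f) :=
    isUnit_iff_ne_zero.mpr fun h => hf (Ideal.algebraMap_residueField_eq_zero.mp h)
  let : Algebra E q.ResidueField := (IsLocalization.Away.lift f hu).toAlgebra
  have : IsScalarTower S E q.ResidueField := IsScalarTower.of_algebraMap_eq fun s =>
    (IsLocalization.Away.lift_eq f hu s).symm
  let : Algebra B q.ResidueField := ((algebraMap E q.ResidueField).comp (algebraMap B E)).toAlgebra
  have : IsScalarTower B E q.ResidueField := IsScalarTower.of_algebraMap_eq fun _ => rfl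
  have : Algebra.FormallyEtale S E := Algebra.FormallyEtale.of_isLocalization (Submonoid.powers f)
  let e : q.ResidueField ⊗[S] Ω[S⁄k] ≃ₗ[q.ResidueField] q.ResidueField ⊗[B] Ω[B⁄k] :=
    (AlgebraTensorModule.cancelBaseChange S E q.ResidueField q.ResidueField _).symm ≪≫ₗ
      AlgebraTensorModule.congr (LinearEquiv.refl _ _) (tensorKaehlerEquivOfFormallyEtale k S E) ≪≫ₗ
      AlgebraTensorModule.congr (LinearEquiv.refl _ _) (tensorKaehlerEquivOfFormallyEtale k B E).symm ≪≫ₗ
      AlgebraTensorModule.cancelBaseChange B E q.ResidueField q.ResidueField _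
  rw [e.finrank_eq, Module.finrank_eq_card_basis ((KaehlerDifferential.mvPolynomialBasis k (Fin n)).baseChange _),
    Fintype.card_fin]
  obtain ⟨P, hP, hPq⟩ := Ideal.exists_minimalPrimes_le (I := (⊥ : Ideal S)) (J := q) bot_le
  have := hP.1.1
  refine le_trans ?_ (trdegQuot_le_dimAt k hP hPq)
  have hd : Disjoint (Submonoid.powers f : Set S) P := by
    refine Set.disjoint_left.mpr ?_
    rintro _ ⟨i, rfl⟩ hx
    exact hf (‹q.IsPrime›.mem_of_pow_mem i (hPq hx))
  set Q := P.map (algebraMap S E)
  have : Q.IsPrime := IsLocalization.isPrime_of_isPrime_disjoint (Submonoid.powers f) _ P ‹_› hd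
  have hQ : Q.comap (algebraMap S E) = P :=
    IsLocalization.under_map_of_isPrime_disjoint (Submonoid.powers f) _ ‹_› hd
  rw [← hQ, trdegQuot_of_away k f Q]
  obtain ⟨Q', hQ'le, hQ', hQ'0⟩ := Ideal.exists_ideal_le_liesOver_of_le (p := (⊥ : Ideal B))
    (q := Q.comap (algebraMap B E)) Q bot_le
  have hQ'eq : Q' = Q := by
    refine le_antisymm hQ'le ?_
    have h1 : P ≤ Q'.comap (algebraMap S E) := hP.2 ⟨inferInstance, bot_le⟩ ((Ideal.comap_mono hQ'le).trans hQ.le)
    exact Ideal.map_le_iff_le_comap.mpr h1
  have hbot : Q.comap (algebraMap B E) = ⊥ := hQ'eq ▸ hQ'0.over.symm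
  let φ : B →ₐ[k] E ⧸ Q := (Ideal.Quotient.mkₐ k Q).comp (IsScalarTower.toAlgHom k B E)
  have hφ : Function.Injective φ := by
    rw [injective_iff_map_eq_zero]
    intro b hb
    have : b ∈ Q.comap (algebraMap B E) :=
      show algebraMap B E b ∈ Q from Ideal.Quotient.eq_zero_iff_mem.mp hb
    rwa [hbot] at this
  have h2 := trdeg_le_of_injective φ hφ
  rw [MvPolynomial.trdeg_of_isDomain] at h2
  have : Algebra.FiniteType k E := Algebra.FiniteType.trans (S := S) ‹_› inferInstance
  have : Algebra.FiniteType k (E ⧸ Q) :=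
    Algebra.FiniteType.of_surjective (Ideal.Quotient.mkₐ k Q) Ideal.Quotient.mk_surjective
  rw [trdegQuot, E4O.trdeg_eq_natCast k (E ⧸ Q)] at *
  simpa using h2

theorem isSmoothAt_of_finrank_le {S : Type u} [CommRing S] [Algebra k S] [Algebra.FiniteType k S]
    (q : Ideal S) [q.IsPrime]
    (h : Module.finrank q.ResidueField (q.ResidueField ⊗[S] Ω[S⁄k]) ≤ dimAt k q) :
    Algebra.IsSmoothAt k q := by
  classical
  let κ := q.ResidueField
  let V := κ ⊗[S] Ω[S⁄k]
  -- elements whose differentials form a basis of the fibre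
  have hspan : Submodule.span κ (Set.range fun s : S => (1 : κ) ⊗ₜ[S] D k S s) = (⊤ : Submodule κ V) := by
    have := (Submodule.baseChange_span (R := S) (A := κ) (s := Set.range (D k S))).symm
    rw [span_range_derivation, Submodule.baseChange_top, ← Set.range_comp] at this
    exact this
  obtain ⟨T, hT⟩ : ∃ t : Set V, t ⊆ Set.range (fun s : S => (1 : κ) ⊗ₜ[S] D k S s) ∧
      Submodule.span κ t = ⊤ ∧ LinearIndepOn κ id t := by
    obtain ⟨t, h1, h2, h3⟩ := exists_linearIndependent κ (Set.range fun s : S => (1 : κ) ⊗ₜ[S] D k S s)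
    exact ⟨t, h1, h2.trans hspan, h3⟩
  obtain ⟨hTr, hTs, hTi⟩ := hT
  let b : Module.Basis T κ V := Module.Basis.mk (v := Subtype.val) hTi (by rw [Subtype.range_coe, hTs])
  have : Module.Finite κ V := inferInstance
  obtain ⟨d, hd⟩ : ∃ d, Module.finrank κ V = d := ⟨_, rfl⟩
  replace h : d ≤ dimAt k q := hd ▸ h
  let b' := b.reindex (b.indexEquiv (Module.finBasisOfFinrankEq κ V hd))
  have hy : ∀ i, ∃ s : S, b' i = (1 : κ) ⊗ₜ[S] D k S s := fun i => by
    obtain ⟨s, hs⟩ := hTr ((b.indexEquiv (Module.finBasisOfFinrankEq κ V hd)).symm i).2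
    refine ⟨s, ?_⟩
    simp only [b', Module.Basis.reindex_apply]
    exact (Module.Basis.mk_apply hTi _ _).trans hs.symm
  choose y hy using hy
  let B := MvPolynomial (Fin d) k
  let : Algebra B S := (MvPolynomial.aeval y).toAlgebra
  have : IsScalarTower k B S := IsScalarTower.of_algebraMap_eq fun c => ((MvPolynomial.aeval y).commutes c).symm
  have : Algebra.FiniteType B S := Algebra.FiniteType.of_restrictScalars_finiteType k B S
  have hun : Algebra.IsUnramifiedAt B q := by
    have : (⟨q, ‹_›⟩ : PrimeSpectrum S) ∈ Algebra.unramifiedLocus B S := by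
      rw [Algebra.unramifiedLocus_eq_compl_support, Set.mem_compl_iff,
        Module.mem_support_iff_nontrivial_residueField_tensorProduct, not_nontrivial_iff_subsingleton]
      let π : V →ₗ[κ] κ ⊗[S] Ω[S⁄B] := (map k B S S).baseChange κ
      have hπ : Function.Surjective π := LinearMap.lTensor_surjective κ (KaehlerDifferential.map_surjective k B S)
      refine subsingleton_of_forall_eq 0 fun z => ?_
      obtain ⟨v, rfl⟩ := hπ z
      have hv : v ∈ Submodule.span κ (Set.range b') := by rw [b'.span_eq]; trivial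
      induction hv using Submodule.span_induction with
      | mem x hx =>
        obtain ⟨i, rfl⟩ := hx
        have hyi : y i = algebraMap B S (MvPolynomial.X i) := (MvPolynomial.aeval_X y i).symm
        rw [hy, LinearMap.baseChange_tmul, map_D, show algebraMap S S (y i) = y i from rfl, hyi,
          Derivation.map_algebraMap, tmul_zero]
      | zero => exact map_zero π
      | add a b _ _ ha hb => rw [map_add, ha, hb, add_zero]
      | smul c a _ ha => rw [map_smul, ha, smul_zero]
    exact this
  obtain ⟨f, hfq, SP, φ, hφ⟩ := Algebra.IsUnramifiedAt.exists_hasStandardEtaleSurjectionOn (R := B) q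
  let C := SP.Ring
  let E := Localization.Away f
  let : Algebra k C := ((algebraMap B C).comp (algebraMap k B)).toAlgebra
  have : IsScalarTower k B C := IsScalarTower.of_algebraMap_eq fun _ => rfl
  have : Algebra.Etale B C := inferInstance
  have : Algebra.FormallySmooth k C := Algebra.FormallySmooth.comp k B C
  have : Algebra.FinitePresentation k C := Algebra.FinitePresentation.trans k B C
  have hd' : Disjoint (Submonoid.powers f : Set S) q := by
    refine Set.disjoint_left.mpr ?_
    rintro _ ⟨i, rfl⟩ hx
    exact hfq (‹q.IsPrime›.mem_of_pow_mem i hx)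
  set Q := q.map (algebraMap S E)
  have : Q.IsPrime := IsLocalization.isPrime_of_isPrime_disjoint (Submonoid.powers f) _ q ‹_› hd'
  have hQ : Q.comap (algebraMap S E) = q :=
    IsLocalization.under_map_of_isPrime_disjoint (Submonoid.powers f) _ ‹_› hd'
  set QC := Q.comap φ.toRingHom
  let ψ : C →ₐ[k] E := φ.restrictScalars k
  -- the component of dimension at least `d`
  obtain ⟨P, hP, hPq, hPd⟩ := exists_dimAt_eq k q
  have := hP.1.1
  have hdP : d ≤ trdegQuot k P := hPd ▸ h
  have hdd : Disjoint (Submonoid.powers f : Set S) P :=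
    hd'.mono_right hPq
  set PE := P.map (algebraMap S E)
  have : PE.IsPrime := IsLocalization.isPrime_of_isPrime_disjoint (Submonoid.powers f) _ P ‹_› hdd
  have hPE : PE.comap (algebraMap S E) = P :=
    IsLocalization.under_map_of_isPrime_disjoint (Submonoid.powers f) _ ‹_› hdd
  set PC := PE.comap φ.toRingHom
  have hPCd : d ≤ trdegQuot k PC := by
    rw [← hPE, trdegQuot_of_away k f PE] at hdP
    refine hdP.trans (le_of_eq ?_)
    have e : (C ⧸ PC) ≃ₐ[k] (E ⧸ PE) :=
      AlgEquiv.ofBijective (Ideal.quotientMapₐ PE ψ le_rfl)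
        ⟨Ideal.quotientMap_injective, Ideal.quotientMap_surjective (H := le_rfl) hφ⟩
    exact congrArg Cardinal.toNat e.trdeg_eq.symm
  have hPCQ : PC ≤ QC := Ideal.comap_mono (Ideal.map_mono hPq)
  -- the local ring of `C` is a domain
  let L := Localization.AtPrime QC
  have : Algebra.FormallyEtale C L := Algebra.FormallyEtale.of_isLocalization QC.primeCompl
  have hLs : Algebra.FormallySmooth k L := Algebra.FormallySmooth.comp k C L
  have : Algebra.IsSmoothAt k QC := hLs
  have : IsRegularLocalRing L := CAlg5.regular_of_isSmoothAt k C QC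
  have : IsDomain L := Ega11.RegLocal.isDomain L
  set P0 := RingHom.ker (algebraMap C L)
  have : P0.IsPrime := RingHom.ker_isPrime _
  have hP0 : P0 ≤ PC := fun c hc => by
    rw [RingHom.mem_ker, IsLocalization.map_eq_zero_iff QC.primeCompl] at hc
    obtain ⟨⟨s, hs⟩, hsc⟩ := hc
    exact ((inferInstance : PC.IsPrime).mem_or_mem (hsc ▸ PC.zero_mem)).resolve_left fun h => hs (hPCQ h)
  have hP0d : trdegQuot k P0 ≤ d := by
    refine trdegQuot_le_of_span k (fun i => map k k B C (D k B (MvPolynomial.X i))) ?_ P0
    refine eq_top_iff.mpr fun w hw => ?_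
    clear hw
    obtain ⟨z, rfl⟩ := (exact_mapBaseChange_map k B C w).mp (Subsingleton.elim _ _)
    induction z using TensorProduct.induction_on with
    | zero => rw [map_zero]; exact zero_mem _
    | add a b ha hb => rw [map_add]; exact add_mem ha hb
    | tmul c m =>
      rw [mapBaseChange_tmul]
      refine Submodule.smul_mem _ _ ?_
      have hm : m ∈ Submodule.span B (Set.range (mvPolynomialBasis k (Fin d))) := by
        rw [Module.Basis.span_eq]; trivial
      have := Submodule.apply_mem_span_image_of_mem_span (map k k B C) hm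
      rw [← Set.range_comp] at this
      refine Submodule.span_le_restrictScalars B C _ ?_
      rw [show (fun i => map k k B C (D k B (MvPolynomial.X i))) =
          ⇑(map k k B C) ∘ ⇑(mvPolynomialBasis k (Fin d)) from
        funext fun i => congrArg _ (mvPolynomialBasis_apply k (Fin d) i).symm]
      exact this
  have heq : PC ≤ P0 := by
    have h1 := height_add_trdegQuot k P0 PC hP0
    have hzero : (PC.map (Ideal.Quotient.mk P0)).height = 0 := by
      generalize (PC.map (Ideal.Quotient.mk P0)).height = t at h1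
      cases t with
      | top => simp at h1
      | coe t =>
        have : t + trdegQuot k PC = trdegQuot k P0 := by exact_mod_cast h1
        exact_mod_cast (by omega : t = 0)
    have := Ideal.isPrime_map_quotientMk_of_isPrime hP0
    rw [Ideal.height_eq_zero_iff, IsDomain.minimalPrimes_eq_singleton_bot, Set.mem_singleton_iff] at hzero
    exact Ideal.mk_ker (I := P0) ▸ (Ideal.map_eq_bot_iff_le_ker _).mp hzero
  -- the two local rings agree
  let M := Localization.AtPrime Q
  let χ : L →+* M := Localization.localRingHom QC Q φ.toRingHom rfl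
  have hχ : Function.Bijective χ := by
    constructor
    · rw [injective_iff_map_eq_zero]
      intro x hx
      obtain ⟨c, s, rfl⟩ := IsLocalization.exists_mk'_eq QC.primeCompl x
      rw [Localization.localRingHom_mk', IsLocalization.mk'_eq_zero_iff] at hx
      obtain ⟨⟨t, ht⟩, htc⟩ := hx
      obtain ⟨t', rfl⟩ := hφ t
      have hmem : t' * c ∈ P0 := heq (by
        show φ (t' * c) ∈ PE
        rw [map_mul]
        exact htc ▸ PE.zero_mem)
      rw [RingHom.mem_ker, map_mul] at hmem
      have hu : IsUnit (algebraMap C L t') := IsLocalization.map_units L (⟨t', ht⟩ : QC.primeCompl)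
      rw [IsUnit.mul_right_eq_zero hu] at hmem
      rw [IsLocalization.mk'_eq_mul_mk'_one, hmem, zero_mul]
    · intro x
      obtain ⟨e, ⟨s, hs⟩, rfl⟩ := IsLocalization.exists_mk'_eq Q.primeCompl x
      obtain ⟨c, rfl⟩ := hφ e
      obtain ⟨s', rfl⟩ := hφ s
      exact ⟨IsLocalization.mk' L c (⟨s', hs⟩ : QC.primeCompl), Localization.localRingHom_mk' _ _ _ _ _ _⟩
  let χk : L ≃ₐ[k] M := AlgEquiv.ofRingEquiv (f := RingEquiv.ofBijective χ hχ) fun c => by
    show χ (algebraMap k L c) = _
    rw [IsScalarTower.algebraMap_apply k C L, Localization.localRingHom_to_map,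
      IsScalarTower.algebraMap_apply k E M]
    exact congrArg _ (ψ.commutes c)
  have : Algebra.FormallySmooth k M := Algebra.FormallySmooth.of_equiv χk
  have : IsLocalization.AtPrime M q := by
    convert IsLocalization.isLocalization_isLocalization_atPrime_isLocalization (Submonoid.powers f) M Q
    exact hQ.symm
  exact Algebra.FormallySmooth.of_equiv
    ((IsLocalization.algEquiv q.primeCompl M (Localization.AtPrime q)).restrictScalars k)

end Groth.Agent.CAlg1
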