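import Mathlib
import Groth.Agent.FSAdic12.Artinian
import Groth.Agent.FBase64.AdicSmooth

/-! Smoothness at a prime is tested by lifting along small extensions of Artinian local algebras. -/

set_option autoImplicit false
set_option linter.style.haveILetI false
universe u

open IsLocalRing

namespace Groth.Agent.CAlg1

/-- Lifting along small extensions of Artinian local algebras, at a prime. -/
def LiftsSmall (R S : Type u) [CommRing R] [CommRing S] [Algebra R S] (q : Ideal S) : Prop :=
  ∀ (B' B : Type u) [CommRing B'] [CommRing B] [IsLocalRing B'] [IsLocalRing B]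
    [IsArtinianRing B'] [IsArtinianRing B] [Algebra R B'] [Algebra R B] (π : B' →ₐ[R] B),
    Function.Surjective π →
    (∃ t : B', RingHom.ker π.toRingHom = Ideal.span {t} ∧
      ∀ a ∈ IsLocalRing.maximalIdeal B', a * t = 0) →
    ∀ g : S →ₐ[R] B, (IsLocalRing.maximalIdeal B).comap g = q →
      ∃ g' : S →ₐ[R] B', π.comp g' = g

theorem liftsSmall_of_isSmoothAt {R S : Type u} [CommRing R] [CommRing S] [Algebra R S]
    (q : Ideal S) [q.IsPrime] (h : Algebra.IsSmoothAt R q) : LiftsSmall R S q := by
  intro B' B _ _ _ _ _ _ _ _ π hπ _ g hg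
  have hu : ∀ y : q.primeCompl, IsUnit (g y) := fun y => by
    refine IsLocalRing.notMem_maximalIdeal.mp fun hy => y.2 ?_
    exact hg.le hy
  let G : Localization.AtPrime q →ₐ[R] B := IsLocalization.liftAlgHom (M := q.primeCompl) (f := g) hu
  have hnil : IsNilpotent (RingHom.ker π.toRingHom) := by
    obtain ⟨n, hn⟩ := (isArtinianRing_iff_isNilpotent_maximalIdeal B').mp inferInstance
    exact ⟨n, eq_bot_iff.mpr ((Ideal.pow_right_mono (le_maximalIdeal (RingHom.ker_ne_top _)) n).trans hn.le)⟩
  haveI : Algebra.FormallySmooth R (Localization.AtPrime q) := h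
  obtain ⟨F, hF⟩ : ∃ F : Localization.AtPrime q →ₐ[R] B', π.comp F = G :=
    ⟨Algebra.FormallySmooth.liftOfSurjective G π hπ hnil,
      Algebra.FormallySmooth.comp_liftOfSurjective G π hπ hnil⟩
  refine ⟨F.comp (IsScalarTower.toAlgHom R S _), ?_⟩
  rw [← AlgHom.comp_assoc, hF]
  ext x
  show G (algebraMap S (Localization.AtPrime q) x) = g x
  simp [G, IsLocalization.liftAlgHom_apply]

/-- Small extensions suffice for any nilpotent quotient. -/
theorem exists_lift_of_liftsSmall {R S : Type u} [CommRing R] [CommRing S] [Algebra R S] {q : Ideal S}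
    (H : LiftsSmall R S q) (C : Type u) [CommRing C] [IsLocalRing C] [IsArtinianRing C] [Algebra R C]
    (J : Ideal C) (g : S →ₐ[R] C ⧸ J) [IsLocalRing (C ⧸ J)]
    (hg : (maximalIdeal (C ⧸ J)).comap g = q) :
    ∃ g' : S →ₐ[R] C, (Ideal.Quotient.mkₐ R J).comp g' = g := by
  classical
  let P : Set (Ideal C) :=
    {I | ∃ h : I ≤ J, ∃ g₁ : S →ₐ[R] C ⧸ I, (Ideal.Quotient.factorₐ R h).comp g₁ = g}
  obtain ⟨I, ⟨hIJ, g₁, hg₁⟩, hmin⟩ := (wellFounded_lt (α := Ideal C)).has_min P
    ⟨J, le_refl J, g, by
      ext x
      obtain ⟨y, hy⟩ := Ideal.Quotient.mk_surjective (g x)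
      show Ideal.Quotient.factor (le_refl J) (g x) = g x
      rw [← hy]; rfl⟩
  have hI : I = ⊥ := by
    by_contra hI
    obtain ⟨I', hI', hmax⟩ := set_has_maximal_iff_noetherian.mpr (inferInstance : IsNoetherianRing C)
      {I' : Ideal C | I' < I} ⟨⊥, bot_lt_iff_ne_bot.mpr hI⟩
    replace hI' : I' < I := hI'
    obtain ⟨t, htI, htI'⟩ := SetLike.exists_of_lt hI'
    have hspan : I' ⊔ Ideal.span {t} = I := by
      by_contra hne
      refine hmax (I' ⊔ Ideal.span {t}) ?_ ?_
      · exact lt_of_le_of_ne (sup_le hI'.le ((Ideal.span_singleton_le_iff_mem _).mpr htI)) hne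
      · exact left_lt_sup.mpr fun h => htI' (h (Ideal.mem_span_singleton_self t))
    have hm : maximalIdeal C * I ≤ I' := by
      by_contra hm
      have h1 : maximalIdeal C * I ⊔ I' = I := by
        by_contra hne
        exact hmax _ (lt_of_le_of_ne (sup_le Ideal.mul_le_right hI'.le) hne) (right_lt_sup.mpr hm)
      have h2 : I ≤ I' := Submodule.le_of_le_smul_of_le_jacobson_bot (IsNoetherian.noetherian I)
        (IsLocalRing.maximalIdeal_le_jacobson _) (by rw [smul_eq_mul, sup_comm]; exact h1.ge)
      exact (lt_irrefl I) (h2.trans_lt hI')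
    have hJne : J ≠ ⊤ := fun h => (not_subsingleton (C ⧸ J)) (Ideal.Quotient.subsingleton_iff.mpr h)
    have : Nontrivial (C ⧸ I') := Ideal.Quotient.nontrivial_iff.mpr fun e =>
      hJne (top_le_iff.mp (e ▸ (hI'.le.trans hIJ)))
    have : Nontrivial (C ⧸ I) := Ideal.Quotient.nontrivial_iff.mpr fun e =>
      hJne (top_le_iff.mp (e ▸ hIJ))
    have : IsLocalRing (C ⧸ I') := IsLocalRing.of_surjective' _ Ideal.Quotient.mk_surjective
    have : IsLocalRing (C ⧸ I) := IsLocalRing.of_surjective' _ Ideal.Quotient.mk_surjective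
    have hloc : IsLocalHom (Ideal.Quotient.factor hIJ) :=
      IsLocalHom.of_surjective _ (Ideal.Quotient.factor_surjective hIJ)
    have hc : (maximalIdeal (C ⧸ I)).comap g₁ = q := by
      rw [← hg]
      ext x
      simp only [Ideal.mem_comap, mem_maximalIdeal, mem_nonunits_iff]
      rw [← AlgHom.congr_fun hg₁ x]
      exact not_congr (isUnit_map_iff (Ideal.Quotient.factor hIJ) (g₁ x)).symm
    obtain ⟨g₂, hg₂⟩ := H (C ⧸ I') (C ⧸ I) (Ideal.Quotient.factorₐ R hI'.le)
      (Ideal.Quotient.factor_surjective hI'.le) ⟨Ideal.Quotient.mk I' t, by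
        show RingHom.ker (Ideal.Quotient.factor hI'.le) = _
        rw [Ideal.Quotient.factor_ker, ← Set.image_singleton, ← Ideal.map_span]
        conv_lhs => rw [← hspan]
        rw [Ideal.map_sup, Ideal.map_quotient_self, bot_sup_eq], fun a ha => by
        obtain ⟨x, rfl⟩ := Ideal.Quotient.mk_surjective a
        rw [← map_mul, Ideal.Quotient.eq_zero_iff_mem]
        refine hm (Ideal.mul_mem_mul ?_ htI)
        rw [mem_maximalIdeal, mem_nonunits_iff] at ha ⊢
        exact fun hx => ha (hx.map _)⟩ g₁ hc
    refine hmin I' ⟨hI'.le.trans hIJ, g₂, ?_⟩ hI'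
    rw [← hg₁, ← hg₂, ← AlgHom.comp_assoc]
    congr 1
    ext x
    obtain ⟨y, rfl⟩ := Ideal.Quotient.mk_surjective x
    rfl
  subst hI
  refine ⟨(AlgEquiv.quotientBot R C).toAlgHom.comp g₁, ?_⟩
  rw [← hg₁, ← AlgHom.comp_assoc]
  congr 1
  ext x
  obtain ⟨y, rfl⟩ := Ideal.Quotient.mk_surjective x
  rfl

theorem isSmoothAt_of_liftsSmall {R S : Type u} [CommRing R] [IsNoetherianRing R]
    [CommRing S] [Algebra R S] [Algebra.FiniteType R S] (q : Ideal S) [q.IsPrime]
    (H : LiftsSmall R S q) : Algebra.IsSmoothAt R q := by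
  let p := q.under R
  letI := Localization.AtPrime.algebraOfLiesOver p q
  haveI : IsNoetherianRing S := Algebra.FiniteType.isNoetherianRing R S
  haveI : IsNoetherianRing (Localization.AtPrime p) :=
    IsLocalization.isNoetherianRing p.primeCompl _ inferInstance
  haveI : IsNoetherianRing (Localization.AtPrime q) :=
    IsLocalization.isNoetherianRing q.primeCompl _ inferInstance
  haveI : IsLocalHom (algebraMap (Localization.AtPrime p) (Localization.AtPrime q)) := by
    infer_instance
  haveI : Algebra.EssFiniteType S (Localization.AtPrime q) :=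
    Algebra.EssFiniteType.of_isLocalization _ q.primeCompl
  haveI : Algebra.EssFiniteType R (Localization.AtPrime q) := Algebra.EssFiniteType.comp R S _
  haveI : Algebra.EssFiniteType (Localization.AtPrime p) (Localization.AtPrime q) :=
    Algebra.EssFiniteType.of_comp R _ _
  have hL : FSAdic12.LiftsArtinian (Localization.AtPrime p) (Localization.AtPrime q) := by
    intro C _ _ _ _ _ J hJ _ u _ _
    letI : Algebra R C := ((algebraMap (Localization.AtPrime p) C).comp (algebraMap R _)).toAlgebra
    haveI : IsScalarTower R (Localization.AtPrime p) C := IsScalarTower.of_algebraMap_eq' rfl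
    have hloc : IsLocalHom (Ideal.Quotient.mk J) :=
      IsLocalHom.of_surjective _ Ideal.Quotient.mk_surjective
    let g : S →ₐ[R] C ⧸ J := (u.restrictScalars R).comp (IsScalarTower.toAlgHom R S _)
    have hg : (maximalIdeal (C ⧸ J)).comap g = q := by
      have h1 : (maximalIdeal (C ⧸ J)).comap u.toRingHom = maximalIdeal (Localization.AtPrime q) :=
        (IsLocalRing.local_hom_TFAE u.toRingHom).out 0 4 |>.mp ‹_›
      calc (maximalIdeal (C ⧸ J)).comap g
          = ((maximalIdeal (C ⧸ J)).comap u.toRingHom).comap (algebraMap S _) := rfl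
        _ = q := by
          rw [h1]
          exact Localization.AtPrime.under_maximalIdeal
    obtain ⟨g', hg'⟩ := exists_lift_of_liftsSmall H C J g hg
    have hu : ∀ y : q.primeCompl, IsUnit (g' y) := fun y => by
      have h1 : IsUnit (g (y : S)) :=
        IsLocalRing.notMem_maximalIdeal.mp fun hy => y.2 (hg.le hy)
      rw [← AlgHom.congr_fun hg' (y : S)] at h1
      exact IsUnit.of_map (Ideal.Quotient.mk J) _ h1
    let F : Localization.AtPrime q →ₐ[R] C := IsLocalization.liftAlgHom (M := q.primeCompl) (f := g') hu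
    have hF : F.toRingHom.comp (algebraMap (Localization.AtPrime p) (Localization.AtPrime q))
        = algebraMap (Localization.AtPrime p) C := by
      refine IsLocalization.ringHom_ext p.primeCompl (RingHom.ext fun r => ?_)
      simp only [RingHom.comp_apply]
      rw [← IsScalarTower.algebraMap_apply, ← IsScalarTower.algebraMap_apply]
      exact F.commutes r
    let F' : Localization.AtPrime q →ₐ[Localization.AtPrime p] C :=
      { F.toRingHom with commutes' := fun a => RingHom.congr_fun hF a }
    have hFu : (Ideal.Quotient.mkₐ (Localization.AtPrime p) J).comp F' = u := by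
      have : (Ideal.Quotient.mk J).comp F.toRingHom = u.toRingHom := by
        refine IsLocalization.ringHom_ext q.primeCompl (RingHom.ext fun s => ?_)
        show Ideal.Quotient.mk J (F (algebraMap S _ s)) = g s
        rw [← AlgHom.congr_fun hg' s]
        simp [F, IsLocalization.liftAlgHom_apply]
      exact AlgHom.ext fun x => RingHom.congr_fun this x
    refine ⟨F', ⟨fun b hb => ?_⟩, hFu⟩
    have h1 : IsUnit (u b) := by rw [← hFu]; exact hb.map (Ideal.Quotient.mk J)
    exact IsUnit.of_map u.toRingHom b h1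
  have hfs : Algebra.FormallySmooth (Localization.AtPrime p) (Localization.AtPrime q) :=
    FBase64.formallySmooth_of_adic fun C _ _ J hJ _ u hu =>
      FSAdic12.exists_lift_of_liftsArtinian hL J hJ u hu
  haveI : Algebra.FormallySmooth R (Localization.AtPrime p) :=
    .of_isLocalization p.primeCompl
  exact Algebra.FormallySmooth.comp R (Localization.AtPrime p) _

end Groth.Agent.CAlg1
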