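import Mathlib

/-! Smoothness of symmetric algebras. -/

universe u

namespace Groth.Agent.CAlg1

open SymmetricAlgebra

variable {A M : Type u} [CommRing A] [AddCommGroup M] [Module A M]

theorem smooth_symmetricAlgebra [Module.Finite A M] [Module.Projective A M] :
    Algebra.Smooth A (SymmetricAlgebra A M) := by
  classical
  have hsm : Algebra.FormallySmooth A (SymmetricAlgebra A M) := by
    refine Algebra.FormallySmooth.of_comp_surjective fun B _ _ I _ g => ?_
    obtain ⟨l, hl⟩ := Module.projective_lifting_property (Ideal.Quotient.mkₐ A I).toLinearMap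
      (g.toLinearMap.comp (ι A M)) Ideal.Quotient.mk_surjective
    refine ⟨SymmetricAlgebra.lift l, ?_⟩
    refine SymmetricAlgebra.algHom_ext (LinearMap.ext fun m => ?_)
    show Ideal.Quotient.mkₐ A I (SymmetricAlgebra.lift l (ι A M m)) = g (ι A M m)
    rw [SymmetricAlgebra.lift_ι_apply]
    exact LinearMap.congr_fun hl m
  obtain ⟨n, π, hπ⟩ := Module.Finite.exists_fin' A M
  obtain ⟨s, hs⟩ := Module.projective_lifting_property π LinearMap.id hπ
  let g : MvPolynomial (Fin n) A →ₐ[A] SymmetricAlgebra A M :=
    MvPolynomial.aeval fun i => ι A M (π (Pi.single i 1))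
  let lin : (Fin n → A) →ₗ[A] MvPolynomial (Fin n) A :=
    Fintype.linearCombination A (fun i => MvPolynomial.X i)
  let h : SymmetricAlgebra A M →ₐ[A] MvPolynomial (Fin n) A := SymmetricAlgebra.lift (lin.comp s)
  have hglin : g.toLinearMap.comp lin = (ι A M).comp π := by
    refine LinearMap.pi_ext' fun i => LinearMap.ext_ring ?_
    simp [g, lin]
  have hgh : g.comp h = AlgHom.id A _ := by
    refine SymmetricAlgebra.algHom_ext (LinearMap.ext fun m => ?_)
    show g (SymmetricAlgebra.lift (lin.comp s) (ι A M m)) = ι A M m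
    rw [SymmetricAlgebra.lift_ι_apply]
    exact (LinearMap.congr_fun hglin (s m)).trans (congrArg (ι A M) (LinearMap.congr_fun hs m))
  have hsurj : Function.Surjective g := fun y => ⟨h y, AlgHom.congr_fun hgh y⟩
  let T : Finset (MvPolynomial (Fin n) A) :=
    Finset.univ.image fun i => MvPolynomial.X i - h (g (MvPolynomial.X i))
  have hfg : (RingHom.ker g.toRingHom).FG := by
    refine ⟨T, le_antisymm (Ideal.span_le.mpr fun p hp => ?_) fun p hp => ?_⟩
    · obtain ⟨i, -, rfl⟩ := Finset.mem_image.mp (Finset.mem_coe.mp hp)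
      show g (MvPolynomial.X i - h (g (MvPolynomial.X i))) = 0
      rw [map_sub, sub_eq_zero]
      exact (AlgHom.congr_fun hgh _).symm
    · have key : Ideal.Quotient.mkₐ A (Ideal.span (T : Set (MvPolynomial (Fin n) A))) =
          ((Ideal.Quotient.mkₐ A (Ideal.span (T : Set _))).comp h).comp g := by
        refine MvPolynomial.algHom_ext fun i => ?_
        refine Ideal.Quotient.eq.mpr ?_
        exact Ideal.subset_span (Finset.mem_coe.mpr (Finset.mem_image_of_mem _ (Finset.mem_univ i)))
      have h0 := AlgHom.congr_fun key p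
      simp only [AlgHom.comp_apply] at h0
      rw [show g p = 0 from hp, map_zero, map_zero] at h0
      exact Ideal.Quotient.eq_zero_iff_mem.mp h0
  exact ⟨hsm, Algebra.FinitePresentation.of_surjective hsurj hfg⟩

theorem finite_projective_of_smooth [Algebra.Smooth A (SymmetricAlgebra A M)] :
    Module.Finite A M ∧ Module.Projective A M := by
  classical
  let : Module Aᵐᵒᵖ M := Module.compHom M ((RingHom.id A).fromOpposite mul_comm)
  have : IsCentralScalar A M := ⟨fun r m => rfl⟩
  let φ : SymmetricAlgebra A M →ₐ[A] TrivSqZeroExt A M :=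
    SymmetricAlgebra.lift (TrivSqZeroExt.inrHom A M)
  have hφ : ∀ m, φ (ι A M m) = TrivSqZeroExt.inr m := fun m => SymmetricAlgebra.lift_ι_apply _ m
  constructor
  · obtain ⟨s, hs⟩ := (inferInstance : Algebra.FiniteType A (SymmetricAlgebra A M)).out
    -- every element lies in the algebra of finitely many elements of `M`
    have key : ∀ x : SymmetricAlgebra A M, ∃ F : Finset M, x ∈ Algebra.adjoin A (ι A M '' (F : Set M)) := by
      intro x
      induction x using SymmetricAlgebra.induction with
      | algebraMap r => exact ⟨∅, Subalgebra.algebraMap_mem _ r⟩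
      | ι m => exact ⟨{m}, Algebra.subset_adjoin ⟨m, by simp, rfl⟩⟩
      | mul a b ha hb =>
        obtain ⟨F, hF⟩ := ha; obtain ⟨G, hG⟩ := hb
        exact ⟨F ∪ G, mul_mem (Algebra.adjoin_mono (Set.image_mono (by simp)) hF)
          (Algebra.adjoin_mono (Set.image_mono (by simp)) hG)⟩
      | add a b ha hb =>
        obtain ⟨F, hF⟩ := ha; obtain ⟨G, hG⟩ := hb
        exact ⟨F ∪ G, add_mem (Algebra.adjoin_mono (Set.image_mono (by simp)) hF)
          (Algebra.adjoin_mono (Set.image_mono (by simp)) hG)⟩
    choose F hF using key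
    let G := s.biUnion F
    have htop : Algebra.adjoin A (ι A M '' (G : Set M)) = ⊤ := by
      rw [eq_top_iff, ← hs, Algebra.adjoin_le_iff]
      intro x hx
      exact Algebra.adjoin_mono (Set.image_mono (Finset.coe_subset.mpr (Finset.subset_biUnion_of_mem F hx))) (hF x)
    refine ⟨⟨G, eq_top_iff.mpr fun m _ => ?_⟩⟩
    have hall : ∀ x ∈ Algebra.adjoin A (ι A M '' (G : Set M)),
        (φ x).snd ∈ Submodule.span A (G : Set M) := by
      intro x hx
      induction hx using Algebra.adjoin_induction with
      | mem x hx =>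
        obtain ⟨g, hg, rfl⟩ := hx
        rw [hφ, TrivSqZeroExt.snd_inr]; exact Submodule.subset_span hg
      | algebraMap r =>
        rw [AlgHom.commutes, TrivSqZeroExt.algebraMap_eq_inl, TrivSqZeroExt.snd_inl]; exact zero_mem _
      | add a b _ _ ha hb => rw [map_add, TrivSqZeroExt.snd_add]; exact add_mem ha hb
      | mul a b _ _ ha hb =>
        rw [map_mul, TrivSqZeroExt.snd_mul, op_smul_eq_smul]
        exact add_mem (Submodule.smul_mem _ _ hb) (Submodule.smul_mem _ _ ha)
    have := hall (ι A M m) (htop ▸ Algebra.mem_top)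
    rwa [hφ, TrivSqZeroExt.snd_inr] at this
  · let L := M →₀ A
    let p : L →ₗ[A] M := Finsupp.linearCombination A id
    have hp : Function.Surjective p := Finsupp.linearCombination_id_surjective A M
    let P : TrivSqZeroExt A L →ₐ[A] TrivSqZeroExt A M := TrivSqZeroExt.map p
    have hP : Function.Surjective P := fun z => by
      obtain ⟨l, hl⟩ := hp z.snd
      refine ⟨TrivSqZeroExt.inl z.fst + TrivSqZeroExt.inr l, ?_⟩
      rw [map_add, TrivSqZeroExt.map_inr, hl, TrivSqZeroExt.map_inl]
      exact TrivSqZeroExt.inl_fst_add_inr_snd_eq z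
    have hnil : IsNilpotent (RingHom.ker P.toRingHom) := by
      refine ⟨2, le_bot_iff.mp ?_⟩
      rw [Submodule.pow_succ, Submodule.pow_one, Ideal.mul_le]
      intro a ha b hb
      have ha0 : a.fst = 0 := by
        have := congrArg TrivSqZeroExt.fst (show P a = 0 from ha)
        simpa [P] using this
      have hb0 : b.fst = 0 := by
        have := congrArg TrivSqZeroExt.fst (show P b = 0 from hb)
        simpa [P] using this
      rw [Submodule.mem_bot]
      refine TrivSqZeroExt.ext ?_ ?_
      · rw [TrivSqZeroExt.fst_mul, ha0, zero_mul, TrivSqZeroExt.fst_zero]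
      · rw [TrivSqZeroExt.snd_mul, ha0, hb0, MulOpposite.op_zero, zero_smul, zero_smul, add_zero,
          TrivSqZeroExt.snd_zero]
    let Φ := Algebra.FormallySmooth.liftOfSurjective φ P hP hnil
    refine Module.Projective.of_split ((TrivSqZeroExt.sndHom A L).comp (Φ.toLinearMap.comp (ι A M))) p ?_
    ext m
    have := congrArg TrivSqZeroExt.snd (Algebra.FormallySmooth.liftOfSurjective_apply φ P hP hnil (ι A M m))
    rw [hφ, TrivSqZeroExt.snd_inr] at this
    simp only [LinearMap.comp_apply, LinearMap.id_apply, TrivSqZeroExt.sndHom_apply, AlgHom.toLinearMap_apply]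
    exact (TrivSqZeroExt.snd_map p _).symm.trans this

theorem smooth_symmetricAlgebra_iff :
    Algebra.Smooth A (SymmetricAlgebra A M) ↔ Module.Finite A M ∧ Module.Projective A M :=
  ⟨fun _ => finite_projective_of_smooth, fun ⟨_, _⟩ => smooth_symmetricAlgebra⟩

end Groth.Agent.CAlg1
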