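import Mathlib

/-! Base change of power-torsion modules along a flat map that is an isomorphism modulo `I`. -/

set_option autoImplicit false
universe u

open TensorProduct

namespace Groth.Agent.CAlg1

variable {R S : Type u} [CommRing R] [CommRing S] [Algebra R S]

/-- Elements killed by an ideal. -/
def killedBy (J : Ideal R) (N : Type u) [AddCommGroup N] [Module R N] : Submodule R N where
  carrier := {y | ∀ a ∈ J, a • y = 0}
  add_mem' hx hy a ha := by rw [smul_add, hx a ha, hy a ha, add_zero]
  zero_mem' a _ := smul_zero a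
  smul_mem' c x hx a ha := by rw [smul_comm, hx a ha, smul_zero]

variable (S) in
/-- `y ↦ 1 ⊗ y`. -/
noncomputable def oneTmul (N : Type u) [AddCommGroup N] [Module R N] : N →ₗ[R] S ⊗[R] N :=
  TensorProduct.mk R S N 1

theorem oneTmul_natural {N P : Type u} [AddCommGroup N] [Module R N] [AddCommGroup P] [Module R P]
    (g : N →ₗ[R] P) (y : N) : g.lTensor S (oneTmul (R := R) S N y) = oneTmul (R := R) S P (g y) := rfl

theorem oneTmul_bijective_of_killed_one (I : Ideal R)
    (hq : Function.Bijective (algebraMap (R ⧸ I) (S ⧸ I.map (algebraMap R S))))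
    (M : Type u) [AddCommGroup M] [Module R M] (hM : ∀ a ∈ I, ∀ x : M, a • x = 0) :
    Function.Bijective (oneTmul (R := R) S M) := by
  let φ : (R ⧸ I) ≃ₗ[R] (S ⧸ I.map (algebraMap R S)) :=
    LinearEquiv.ofBijective (IsScalarTower.toAlgHom R (R ⧸ I) (S ⧸ I.map (algebraMap R S))).toLinearMap hq
  let π : S →ₗ[R] R ⧸ I := φ.symm.toLinearMap.comp (Ideal.Quotient.mkₐ R (I.map (algebraMap R S))).toLinearMap
  let e := TensorProduct.quotTensorEquivQuotSMul M I
  have hbot : I • (⊤ : Submodule R M) = ⊥ :=
    le_bot_iff.mp (Submodule.smul_le.mpr fun a ha x _ => by rw [hM a ha x]; exact Submodule.zero_mem _)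
  let r : S ⊗[R] M →ₗ[R] M ⧸ (I • ⊤ : Submodule R M) := e.toLinearMap.comp (π.rTensor M)
  have hπ : π 1 = 1 := by
    show φ.symm (Ideal.Quotient.mk _ 1) = 1
    rw [LinearEquiv.symm_apply_eq, map_one]
    exact (map_one (algebraMap (R ⧸ I) (S ⧸ I.map (algebraMap R S)))).symm
  refine ⟨fun x y hxy => ?_, ?_⟩
  · have h := congrArg r hxy
    simp only [r, oneTmul, LinearMap.comp_apply, TensorProduct.mk_apply, LinearMap.rTensor_tmul, hπ,
      LinearEquiv.coe_coe, e] at h
    rw [← map_one (Ideal.Quotient.mk I), TensorProduct.quotTensorEquivQuotSMul_mk_tmul,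
      TensorProduct.quotTensorEquivQuotSMul_mk_tmul, one_smul, one_smul, Submodule.Quotient.eq, hbot,
      Submodule.mem_bot, sub_eq_zero] at h
    exact h
  · have hz : ∀ s ∈ I.map (algebraMap R S), ∀ m : M, s ⊗ₜ[R] m = 0 := by
      intro s hs
      refine Submodule.span_induction (p := fun s _ => ∀ m : M, s ⊗ₜ[R] m = 0) ?_ (fun m => zero_tmul _ _)
        (fun a b _ _ ha hb m => by rw [add_tmul, ha m, hb m, add_zero]) (fun c a _ ha m => ?_) hs
      · rintro _ ⟨i, hi, rfl⟩ m
        rw [Algebra.algebraMap_eq_smul_one, smul_tmul, hM i hi m, tmul_zero]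
      · have : (c • a) ⊗ₜ[R] m = c • (a ⊗ₜ[R] m) := rfl
        rw [this, ha m, smul_zero]
    intro w
    induction w using TensorProduct.induction_on with
    | zero => exact ⟨0, map_zero _⟩
    | add a b ha hb =>
      obtain ⟨x, rfl⟩ := ha
      obtain ⟨y, rfl⟩ := hb
      exact ⟨x + y, map_add _ _ _⟩
    | tmul s m =>
      obtain ⟨q, hq'⟩ := hq.2 (Ideal.Quotient.mk _ s)
      obtain ⟨c, rfl⟩ := Ideal.Quotient.mk_surjective q
      replace hq' := Ideal.Quotient.eq.mp (show Ideal.Quotient.mk (I.map (algebraMap R S)) (algebraMap R S c) = Ideal.Quotient.mk _ s from hq')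
      refine ⟨c • m, ?_⟩
      have h := hz _ hq' m
      rw [sub_tmul, sub_eq_zero, Algebra.algebraMap_eq_smul_one, smul_tmul] at h
      exact h

theorem oneTmul_bijective_of_killed [Module.Flat R S] (I : Ideal R)
    (hq : Function.Bijective (algebraMap (R ⧸ I) (S ⧸ I.map (algebraMap R S)))) :
    ∀ (n : ℕ) (M : Type u) [AddCommGroup M] [Module R M], (∀ a ∈ I ^ n, ∀ x : M, a • x = 0) →
      Function.Bijective (oneTmul (R := R) S M) := by
  intro n
  induction n with
  | zero =>
    intro M _ _ h
    have : Subsingleton M := ⟨fun x y => by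
      rw [← one_smul R x, ← one_smul R y, h 1 (by simp) x, h 1 (by simp) y]⟩
    exact oneTmul_bijective_of_killed_one I hq M fun a _ x => Subsingleton.elim _ _
  | succ n ih =>
    intro M _ _ h
    let M' : Submodule R M := I • ⊤
    have h1 : ∀ a ∈ I ^ n, ∀ x : M', a • x = 0 := by
      intro a ha x
      refine Subtype.ext ?_
      rw [Submodule.coe_smul, Submodule.coe_zero]
      refine Submodule.smul_induction_on (p := fun y => a • y = 0) x.2 (fun i hi y _ => ?_)
        (fun y z hy hz => by rw [smul_add, hy, hz, add_zero])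
      rw [smul_smul]
      exact h _ (by rw [pow_succ]; exact Ideal.mul_mem_mul ha hi) y
    have h2 : ∀ a ∈ I, ∀ x : M ⧸ M', a • x = 0 := by
      intro a ha x
      obtain ⟨y, rfl⟩ := Submodule.Quotient.mk_surjective M' x
      rw [← Submodule.Quotient.mk_smul, Submodule.Quotient.mk_eq_zero]
      exact Submodule.smul_mem_smul ha Submodule.mem_top
    have b1 := ih M' h1
    have b2 := oneTmul_bijective_of_killed_one I hq (M ⧸ M') h2
    have hex := Module.Flat.lTensor_exact S (LinearMap.exact_subtype_mkQ M')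
    have hinj := Module.Flat.lTensor_preserves_injective_linearMap (M := S) M'.subtype M'.injective_subtype
    constructor
    · rw [injective_iff_map_eq_zero]
      intro x hx
      have hxm : x ∈ M' := by
        rw [← Submodule.Quotient.mk_eq_zero]
        refine b2.1 ?_
        rw [map_zero, ← Submodule.mkQ_apply, ← oneTmul_natural, hx, map_zero]
      have h3 : oneTmul (R := R) S M' ⟨x, hxm⟩ = 0 := hinj (by rw [oneTmul_natural, map_zero]; exact hx)
      exact congrArg Subtype.val (b1.1 (h3.trans (map_zero (oneTmul (R := R) S M')).symm))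
    · intro w
      obtain ⟨q, hq'⟩ := b2.2 (M'.mkQ.lTensor S w)
      obtain ⟨y, rfl⟩ := Submodule.Quotient.mk_surjective M' q
      obtain ⟨v, hv⟩ := (hex (w - oneTmul (R := R) S M y)).mp (by
        rw [map_sub, oneTmul_natural, Submodule.mkQ_apply, hq', sub_self])
      obtain ⟨z, rfl⟩ := b1.2 v
      refine ⟨M'.subtype z + y, ?_⟩
      rw [map_add, ← oneTmul_natural, hv, sub_add_cancel]

/-- Every element of `S ⊗ N` killed by `I ^ n` is `1 ⊗ y` for a unique `y` killed by `I ^ n`. -/
theorem existsUnique_of_killed [Module.Flat R S] (I : Ideal R) (hI : I.FG)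
    (hq : Function.Bijective (algebraMap (R ⧸ I) (S ⧸ I.map (algebraMap R S))))
    {N : Type u} [AddCommGroup N] [Module R N] (n : ℕ) (w : S ⊗[R] N) (hw : ∀ a ∈ I ^ n, a • w = 0) :
    ∃! y : N, y ∈ killedBy (I ^ n) N ∧ oneTmul (R := R) S N y = w := by
  classical
  let K := killedBy (I ^ n) N
  have bK : Function.Bijective (oneTmul (R := R) S K) :=
    oneTmul_bijective_of_killed I hq n K fun a ha x => Subtype.ext (x.2 a ha)
  obtain ⟨T, hT⟩ : (I ^ n).FG := Submodule.FG.pow hI n
  let g : N →ₗ[R] (↥T → N) := LinearMap.pi fun t => (t : R) • LinearMap.id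
  have hK : LinearMap.ker g = K := by
    ext y
    refine ⟨fun hy a ha => ?_, fun hy => funext fun t => hy _ (hT ▸ Submodule.subset_span t.2)⟩
    rw [← hT] at ha
    refine Submodule.span_induction (p := fun a _ => a • y = 0) (fun t ht => congrFun hy ⟨t, ht⟩)
      (zero_smul R y) (fun a b _ _ ha hb => by rw [add_smul, ha, hb, add_zero])
      (fun c a _ ha => by rw [smul_eq_mul, mul_smul, ha, smul_zero]) ha
  have hex : Function.Exact K.subtype g := by
    rw [LinearMap.exact_iff, hK, Submodule.range_subtype]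
  have h0 : g.lTensor S w = 0 := by
    refine (TensorProduct.piRight R R S (fun _ : ↥T => N)).injective ?_
    rw [map_zero]
    funext t
    have : ∀ v, TensorProduct.piRight R R S (fun _ : ↥T => N) (g.lTensor S v) t = (t : R) • v := by
      intro v
      induction v using TensorProduct.induction_on with
      | zero => simp
      | tmul s y => simp [g, tmul_smul]
      | add a b ha hb => rw [map_add, map_add, Pi.add_apply, ha, hb, smul_add]
    rw [this]
    exact hw _ (hT ▸ Submodule.subset_span t.2)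
  obtain ⟨v, hv⟩ := (Module.Flat.lTensor_exact S hex w).mp h0
  obtain ⟨z, rfl⟩ := bK.2 v
  refine ⟨z, ⟨z.2, (oneTmul_natural K.subtype z).symm.trans hv⟩, fun y ⟨hy, hy'⟩ => ?_⟩
  exact congrArg Subtype.val (bK.1 (a₁ := ⟨y, hy⟩) (a₂ := z)
    (Module.Flat.lTensor_preserves_injective_linearMap K.subtype K.injective_subtype
      (by rw [oneTmul_natural, hv]; exact hy')))

theorem comp_oneTmul_bijective [Module.Flat R S] (I : Ideal R) (hI : I.FG)
    (hq : Function.Bijective (algebraMap (R ⧸ I) (S ⧸ I.map (algebraMap R S))))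
    {M N : Type u} [AddCommGroup M] [Module R M] [AddCommGroup N] [Module R N]
    (hMN : (∀ x : M, ∃ n : ℕ, ∀ a ∈ I ^ n, a • x = 0) ∨ (∀ y : N, ∃ n : ℕ, ∀ a ∈ I ^ n, a • y = 0)) :
    Function.Bijective (fun f : M →ₗ[R] N => (oneTmul (R := R) S N).comp f) := by
  -- injectivity on torsion elements
  have inj : ∀ (y : N) (n : ℕ), (∀ a ∈ I ^ n, a • y = 0) → oneTmul (R := R) S N y = 0 → y = 0 := fun y n hy h => by
    obtain ⟨z, -, hu⟩ := existsUnique_of_killed I hI hq n (0 : S ⊗[R] N) fun a _ => smul_zero a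
    exact (hu y ⟨hy, h⟩).trans (hu 0 ⟨Submodule.zero_mem _, map_zero _⟩).symm
  rcases hMN with hM | hN
  · constructor
    · intro f g hfg
      refine LinearMap.ext fun x => sub_eq_zero.mp ?_
      obtain ⟨n, hn⟩ := hM x
      refine inj _ n (fun a ha => ?_) ?_
      · rw [smul_sub, ← map_smul, ← map_smul, hn a ha, map_zero, map_zero, sub_zero]
      · rw [map_sub, sub_eq_zero]
        exact LinearMap.congr_fun hfg x
    · intro h
      have hex : ∀ x, ∃ y : N, oneTmul (R := R) S N y = h x ∧ ∃ n, ∀ a ∈ I ^ n, a • y = 0 := fun x => by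
        obtain ⟨n, hn⟩ := hM x
        obtain ⟨y, hy, -⟩ := existsUnique_of_killed I hI hq n (h x) fun a ha => by
          rw [← map_smul, hn a ha, map_zero]
        exact ⟨y, hy.2, n, hy.1⟩
      choose f hf k hk using hex
      have uniq : ∀ x y' m, (∀ a ∈ I ^ m, a • y' = 0) → oneTmul (R := R) S N y' = h x → f x = y' := fun x y' m hm hy => by
        refine sub_eq_zero.mp (inj _ (max m (k x)) (fun a ha => ?_) (by rw [map_sub, hf, hy, sub_self]))
        rw [smul_sub, hk x a (Ideal.pow_le_pow_right (le_max_right _ _) ha),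
          hm a (Ideal.pow_le_pow_right (le_max_left _ _) ha), sub_self]
      refine ⟨{ toFun := f, map_add' := fun x y => ?_, map_smul' := fun c x => ?_ }, LinearMap.ext hf⟩
      · refine uniq _ _ (max (k x) (k y)) (fun a ha => ?_) (by rw [map_add, hf, hf, map_add])
        rw [smul_add, hk x a (Ideal.pow_le_pow_right (le_max_left _ _) ha),
          hk y a (Ideal.pow_le_pow_right (le_max_right _ _) ha), add_zero]
      · refine uniq _ _ (k x) (fun a ha => ?_) (by rw [RingHom.id_apply, map_smul, hf, map_smul])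
        rw [RingHom.id_apply, smul_comm, hk x a ha, smul_zero]
  · have hb : Function.Bijective (oneTmul (R := R) S N) := by
      refine ⟨(injective_iff_map_eq_zero _).mpr fun y hy => let ⟨n, hn⟩ := hN y; inj y n hn hy, fun w => ?_⟩
      induction w using TensorProduct.induction_on with
      | zero => exact ⟨0, map_zero _⟩
      | add a b ha hb =>
        obtain ⟨x, rfl⟩ := ha
        obtain ⟨y, rfl⟩ := hb
        exact ⟨x + y, map_add _ _ _⟩
      | tmul s y =>
        obtain ⟨n, hn⟩ := hN y
        obtain ⟨z, hz, -⟩ := existsUnique_of_killed I hI hq n (s ⊗ₜ[R] y) fun a ha => by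
          rw [← tmul_smul, hn a ha, tmul_zero]
        exact ⟨z, hz.2⟩
    let e := LinearEquiv.ofBijective (oneTmul (R := R) S N) hb
    exact ⟨fun f g h => LinearMap.ext fun x => hb.1 (LinearMap.congr_fun h x),
      fun h => ⟨e.symm.toLinearMap.comp h, LinearMap.ext fun x => e.apply_symm_apply (h x)⟩⟩

theorem baseChange_bijective [Module.Flat R S] (I : Ideal R) (hI : I.FG)
    (hq : Function.Bijective (algebraMap (R ⧸ I) (S ⧸ I.map (algebraMap R S))))
    {M N : Type u} [AddCommGroup M] [Module R M] [AddCommGroup N] [Module R N]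
    (hMN : (∀ x : M, ∃ n : ℕ, ∀ a ∈ I ^ n, a • x = 0) ∨ (∀ y : N, ∃ n : ℕ, ∀ a ∈ I ^ n, a • y = 0)) :
    Function.Bijective (fun f : M →ₗ[R] N => LinearMap.baseChange S f) := by
  have hc := comp_oneTmul_bijective (S := S) I hI hq hMN
  have key : (fun f : M →ₗ[R] N => LinearMap.baseChange S f) =
      (LinearMap.liftBaseChangeEquiv S) ∘ fun f => (oneTmul (R := R) S N).comp f := by
    funext f
    refine TensorProduct.AlgebraTensorModule.ext fun s x => ?_
    simp [oneTmul, smul_tmul']
  rw [key]
  exact (LinearMap.liftBaseChangeEquiv S).bijective.comp hc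

end Groth.Agent.CAlg1
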